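import Cfsg.Agent.H63.WrDefs
import Cfsg.Agent.H74.WrK

/-! The wreath configuration with graph automorphisms: elementary consequences. -/

set_option autoImplicit false

namespace Cfsg.Agent.H65.Wr

open Cfsg Cfsg.Agent.H63 Cfsg.Agent.H63.SL Cfsg.Agent.H67 Cfsg.Agent.H63.WR Subgroup
open Cfsg.Agent.H8 (IsSylowIn)
open Cfsg.Agent.H27.End (mem_C1 comm_of_C mem_C is2_of_mem eq_one_of_is2 odd_orderOf_of_mem
  mem_of_syl)
open Cfsg.Agent.H74.Wr (mφ comφ allφ allS syl_conj cj_cj' qs_eq_or inn_le mem_inn' cj_tt t_norm le_C)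
open scoped commutatorElement

universe u

variable {G : Type u} [Group G] {L U T A B : Subgroup G} {t z1 x : G}

section Cj

variable (g : G)

theorem wl_conj (h : WL L U) : WL (cj g L) (cj g U) where
  qs := H52.IsQuasisimple.of_mulEquiv h.qs (cjEquiv g L)
  zodd := allφ g (by
    simpa only [mφ, MulEquiv.orderOf_eq, ← cj_centralizer, ← cj_inf] using h.zodd)
  syl := syl_conj g h.syl
  ne := mt cj_eq_bot_iff.1 h.ne
  zc := by simpa only [← cj_commutator, ← cj_centralizer, ← cj_inf, cj_le_cj_iff] using h.zc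
  ind := allS g fun A => allS g fun B q => by
    rw [cj_eq_bot_iff, cj_eq_bot_iff]
    refine h.ind A B ⟨cj_le_cj_iff.1 q.1, cj_le_cj_iff.1 q.2.1, fun a ha b hb =>
      (comφ g).1 (q.2.2.1 _ ((mφ g).2 ha) _ ((mφ g).2 hb)), ?_, ?_⟩
    · rw [← cj_eq_bot_iff (g := g), cj_inf, q.2.2.2.1]
    · rw [← cj_inj (g := g), cj_sup, q.2.2.2.2]
  bc := by
    obtain ⟨Y, h1⟩ := h.bc
    exact ⟨cj g Y, by simpa only [← cj_commutator, ← cj_centralizer, ← cj_normalizer, ← cj_inf,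
      cj_le_cj_iff] using h1⟩
  ab := allS g (by
    simpa only [isPGroup_cj_iff, cj_le_cj_iff, ← cj_normalizer, ← cj_centralizer, ← cj_commutator,
      ← cj_sup] using h.ab)
  nt := allS g fun A => allS g fun B => by
    simpa only [isPGroup_cj_iff, cj_le_cj_iff, ← cj_normalizer, ← cj_centralizer, ← cj_commutator,
      ← cj_inf, cj_eq_bot_iff] using h.nt A B
  rl := allφ g fun z hz h1 h2 => by
    simp only [mφ, ne_eq, ← map_mul, EmbeddingLike.map_eq_one_iff, ← cj_centralizer,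
      ← cj_inf] at hz h1 h2
    obtain ⟨u, hu, ⟨l, hl, e⟩, l', hl', e'⟩ := h.rl z hz h1 h2
    exact ⟨MulAut.conj g u, by rw [← cj_commutator]; exact (mφ g).2 hu,
      ⟨_, (mφ g).2 hl, by rw [e, map_mul, map_mul, map_inv]⟩, _, (mφ g).2 hl', by
        rw [← map_mul, e', map_mul, map_mul, map_inv]⟩

theorem wc_conj (h : WC L U T t z1) :
    WC (cj g L) (cj g U) (cj g T) (g * t * g⁻¹) (g * z1 * g⁻¹) where
  wl := wl_conj g h.wl
  t2 := by rw [conj_mul, h.t2]; group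
  com := allφ g fun a ha => allφ g fun b hb => by
    have := (comφ g).2 (h.com a ((mφ g).1 ha) b ((mφ g).1 hb))
    rwa [map_mul, map_mul, map_inv] at this
  hat k h1 h2 := by
    rw [cj_cj', ← cj_sup, ← cj_normalizer, mem_cj] at h1 ⊢
    rw [← cj_normalizer, mem_cj] at h2
    have e : g⁻¹ * (k * (g * t * g⁻¹) * k⁻¹) * g = g⁻¹ * k * g * t * (g⁻¹ * k * g)⁻¹ := by group
    exact h.hat _ (e ▸ h1) (e ▸ h2)
  odd := by rw [cj_cj', ← cj_sup, ← cj_centralizer, card_cj]; exact h.odd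
  syl := by rw [cj_cj', ← cj_sup, ← cj_normalizer]; exact syl_conj g h.syl
  tT := conj_mem_cj h.tT
  UT := cj_mono h.UT
  wZ := by rw [← cj_centralizer, ← cj_inf]; exact conj_mem_cj h.wZ
  w1 e := h.w1 (by simpa using e)
  w2 := by rw [conj_mul, h.w2]; group
  wc := by
    rw [← cj_normalizer, ← cj_inf, ← cj_centralizer_singleton]; exact cj_mono h.wc

end Cj

/-- An inner `2`-element normalizing `U` is induced by `U`. -/
theorem inn_U [Finite G] (h : WL L U) (h1 : x ∈ N[U]) (h2 : Is2 x) (h3 : x ∈ L ⊔ C[L]) :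
    x ∈ U ⊔ C[L] := by
  obtain ⟨l, hl, k, hk, rfl⟩ := (mem_inn' le_rfl).1 h3
  obtain ⟨n, hn⟩ := h2
  have c : Commute l k := (comm_of_C hk hl).symm
  have o := h.zodd (l ^ 2 ^ n) ⟨pow_mem hl _, by
    rw [c.mul_pow] at hn
    rw [eq_inv_of_mul_eq_one_left hn]; exact C[L].inv_mem (pow_mem hk _)⟩
  refine H69.SlE.mem_of_pow (a := 2 ^ n) (b := orderOf (l ^ 2 ^ n))
    (Nat.Coprime.pow_left _ (Nat.coprime_two_left.2 o)) (hn ▸ one_mem _) ?_
  have m := pow_mem h1 (orderOf (l ^ 2 ^ n))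
  rw [c.mul_pow] at m ⊢
  refine mul_mem (mem_sup_left (mem_of_syl h.syl le_rfl h.syl.le (pow_mem hl _)
    ⟨n, by rw [← pow_mul, mul_comm, pow_mul, pow_orderOf_eq_one]⟩ ?_)) (mem_sup_right (pow_mem hk _))
  exact (mul_mem_cancel_right (centralizer_le_normalizer _
    (centralizer_anti h.syl.le (pow_mem hk _)))).1 m

section WC

variable (h : WC L U T t z1)
include h

theorem c21 : cj t L ≤ C[L] := le_C h.com

theorem c12 : L ≤ C[cj t L] := le_centralizer_iff.1 (c21 h)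

theorem ne12 : cj t L ≠ L := fun e =>
  H52.IsQuasisimple.not_le_centralizer h.wl.qs (e.ge.trans (c21 h))

theorem G0N : L ⊔ cj t L ≤ N[L] := sup_le le_normalizer ((c21 h).trans (centralizer_le_normalizer _))

theorem cjL {m : G} (hm : m ∈ N[L ⊔ cj t L]) : cj m L = L ∨ cj m L = cj t L := by
  have q := (wl_conj m h.wl).qs
  have n : L ⊔ cj t L ≤ N[cj m L] := by
    rw [← cj_eq_self hm, ← cj_normalizer]; exact cj_mono (G0N h)
  have l : cj m L ≤ L ⊔ cj t L := cj_le_of_mem_normalizer hm le_sup_left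
  refine (qs_eq_or q h.wl.qs (le_sup_left.trans n) (l.trans (G0N h))).imp_right fun c => ?_
  refine (qs_eq_or q (wl_conj t h.wl).qs (le_sup_right.trans n) (l.trans (sup_le
    ((c12 h).trans (centralizer_le_normalizer _)) le_normalizer))).resolve_right fun c' => ?_
  refine H52.IsQuasisimple.not_le_centralizer q (le_trans ?_ (centralizer_anti l))
  rw [centralizer_sup]; exact le_inf c c'

theorem cjL2 {m : G} (hm : m ∈ N[L ⊔ cj t L]) : cj m (cj t L) = L ∨ cj m (cj t L) = cj t L := by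
  rw [cj_cj]; exact cjL h (mul_mem hm (t_norm h.t2 L))

theorem sw {m : G} (hm : m ∈ N[L ⊔ cj t L]) (n : m ∉ N[L]) :
    cj m L = cj t L ∧ cj m (cj t L) = L := by
  have e := (cjL h hm).resolve_left fun e => n (cj_eq_self_iff.1 e)
  exact ⟨e, (cjL2 h hm).resolve_right fun e' => ne12 h (cj_inj.1 (e'.trans e.symm))⟩

theorem nn : N[L ⊔ cj t L] ⊓ N[L] ≤ N[cj t L] := fun _ hm => cj_eq_self_iff.1
  ((cjL2 h hm.1).resolve_left fun e => ne12 h (cj_inj.1 (e.trans (cj_eq_self hm.2).symm)))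

theorem sw1 {m : G} (hm : m ∈ N[L ⊔ cj t L]) (n : m ∉ N[L]) : m * t ∈ N[L] :=
  cj_eq_self_iff.1 (by rw [cj_mul, (sw h hm n).2])

theorem sw2 {m : G} (hm : m ∈ N[L ⊔ cj t L]) (n : m ∉ N[L]) : t * m ∈ N[L] :=
  cj_eq_self_iff.1 (by rw [cj_mul, (sw h hm n).1, cj_tt h.t2])

theorem tn : t ∉ N[L] := fun e => ne12 h (cj_eq_self e)

theorem tinv : t⁻¹ = t := inv_eq_of_mul_eq_one_right h.t2

theorem swap : WC (cj t L) (cj t U) T t (t * z1 * t⁻¹) := by
  have := wc_conj t h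
  rwa [cj_eq_self_of_mem h.tT, mul_inv_cancel_right] at this

theorem TL : T ⊓ L = U :=
  h.wl.syl.eq_of_le (h.syl.isPGroup.to_le inf_le_left) inf_le_right (le_inf h.UT h.wl.syl.le)

theorem T01 : T ⊓ N[L] ≤ N[U] :=
  TL h ▸ le_normalizer_inf (inf_le_left.trans le_normalizer) inf_le_right

theorem T0n : T ⊓ N[L] ≤ T ⊓ N[cj t L] :=
  le_inf inf_le_left ((inf_le_inf_right _ h.syl.le).trans (nn h))

theorem inf (h1 : x ∈ L) (h2 : x ∈ cj t L) : Odd (orderOf x) := h.wl.zodd x ⟨h1, c21 h h2⟩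

theorem idp : IsInternalDirectProduct U (cj t U) (U ⊔ cj t U) :=
  ⟨le_sup_left, le_sup_right, fun _ ha _ hb =>
    comm_of_C (c12 h (h.wl.syl.le ha)) ((swap h).wl.syl.le hb), eq_bot_iff.2 fun _ hx =>
      eq_one_of_is2 (is2_of_mem h.wl.syl.isPGroup hx.1)
        (inf h (h.wl.syl.le hx.1) ((swap h).wl.syl.le hx.2)), rfl⟩

theorem Tz {s : G} (hs : s ∈ T) (n : s ∉ N[L]) :
    s * z1 * s⁻¹ = t * z1 * t⁻¹ ∧ s * (t * z1 * t⁻¹) * s⁻¹ = z1 := by
  have a := (mem_C1.1 (h.wc ⟨mul_mem h.tT hs, sw2 h (h.syl.le hs) n⟩)).eq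
  have b := (mem_C1.1 (h.wc ⟨mul_mem hs h.tT, sw1 h (h.syl.le hs) n⟩)).eq
  constructor
  · calc _ = t⁻¹ * (t * s * z1) * s⁻¹ := by group
      _ = t⁻¹ * z1 * t := by rw [a]; group
      _ = _ := by rw [tinv h]
  · calc _ = s * t * z1 * t⁻¹ * s⁻¹ := by group
      _ = _ := by rw [b]; group

variable [Finite G]

/-- Elements of `T` centralizing both factors are trivial. -/
theorem TC (h1 : x ∈ T) (h2 : x ∈ C[L]) (h3 : x ∈ C[cj t L]) : x = 1 :=
  eq_one_of_is2 (is2_of_mem h.syl.isPGroup h1)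
    (odd_orderOf_of_mem h.odd (by rw [centralizer_sup]; exact ⟨h2, h3⟩))

/-- Splitting an element of `T` inner on both factors. -/
theorem split (hA : A ≤ U) (hB : B ≤ cj t U) (h1 : x ∈ T) (h2 : x ∈ A ⊔ C[L])
    (h3 : x ∈ B ⊔ C[cj t L]) : ∃ a ∈ A, ∃ b ∈ B, x = a * b := by
  obtain ⟨a, ha, k, hk, e⟩ := (mem_inn' (hA.trans h.wl.syl.le)).1 h2
  obtain ⟨b, hb, k', hk', e'⟩ := (mem_inn' (hB.trans (swap h).wl.syl.le)).1 h3
  have a2 := c12 h (h.wl.syl.le (hA ha))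
  have b2 := (swap h).wl.syl.le (hB hb)
  have := TC h (x := b⁻¹ * (a⁻¹ * x))
    (mul_mem (inv_mem ((swap h).UT (hB hb))) (mul_mem (inv_mem (h.UT (hA ha))) h1))
    (by rw [← e, inv_mul_cancel_left]; exact mul_mem (inv_mem (c21 h b2)) hk)
    (by rw [← mul_assoc, ← (comm_of_C a2 b2).inv_inv.eq, mul_assoc, ← e', inv_mul_cancel_left]
        exact mul_mem (inv_mem a2) hk')
  exact ⟨a, ha, b, hb, by rw [inv_mul_eq_one.1 this, mul_inv_cancel_left]⟩

theorem TG (h1 : x ∈ T) (h2 : x ∈ L ⊔ C[L]) (h3 : x ∈ cj t L ⊔ C[cj t L]) : x ∈ U ⊔ cj t U := by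
  have i := is2_of_mem h.syl.isPGroup h1
  obtain ⟨a, ha, b, hb, rfl⟩ := split h le_rfl le_rfl h1
    (inn_U h.wl (T01 h ⟨h1, inn_le h2⟩) i h2)
    (inn_U (swap h).wl (T01 (swap h) ⟨h1, inn_le h3⟩) i h3)
  exact mul_mem (mem_sup_left ha) (mem_sup_right hb)

theorem wk' : WK L U T t z1 where
  tn := tn h
  perm _ hm := (em _).imp_right (sw1 h hm)
  nn := nn h
  sw _ := sw h
  idx := relIndex_eq_two_iff.2 ⟨t, h.tT, fun b hb => by
    by_cases c : b ∈ N[L]
    · exact Or.inr ⟨⟨hb, c⟩, fun k => tn h ((mul_mem_cancel_left c).1 k.2)⟩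
    · exact Or.inl ⟨⟨mul_mem hb h.tT, sw1 h (h.syl.le hb) c⟩, fun k => c k.2⟩⟩
  idp := idp h
  TL := TL h
  T0 := le_inf (T01 h) ((T0n h).trans (T01 (swap h)))
  Tsw s hs n := ⟨by rw [← TL (swap h), ← TL h, cj_inf, cj_eq_self_of_mem hs, (sw h (h.syl.le hs) n).1],
    by rw [← TL (swap h), cj_inf, cj_eq_self_of_mem hs, (sw h (h.syl.le hs) n).2, TL h], Tz h hs n⟩
  TC _ := TC h
  TG _ := TG h
  der _ hx := have p : IsPGroup 2 ↥(T ⊓ N[L]) := h.syl.isPGroup.to_le inf_le_left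
    TG h (commutator_le_self _ hx).1 (h.wl.ab _ inf_le_right p hx)
      ((swap h).wl.ab _ ((T0n h).trans inf_le_right) p hx)
  inf _ := inf h
  zT s hs := mem_C1.2 (by
    by_cases c : s ∈ N[L]
    · exact (mem_C1.1 (h.wc ⟨hs, c⟩)).mul_right (mem_C1.1 ((swap h).wc (T0n h ⟨hs, c⟩)))
    · have := Tz h hs c
      rw [commute_iff_eq, ← mul_inv_eq_iff_eq_mul, ← conj_mul, this.1, this.2]
      exact (h.com _ (h.wl.syl.le h.wZ.1) _ (h.wl.syl.le h.wZ.1)).symm)
  z1 e := h.w1 (mem_bot.1 ((idp h).2.2.2.1.le ⟨h.wZ.1,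
    (eq_inv_of_mul_eq_one_left e).symm ▸ (cj t U).inv_mem (swap h).wZ.1⟩))
  ntl A B hA hB nA nB c i b1 a ha s hs n e := by
    have p : ∀ {A : Subgroup G}, A ≤ T ⊓ N[L] → IsPGroup 2 A := fun hA =>
      h.syl.isPGroup.to_le (hA.trans inf_le_left)
    have aT : a ∈ T := (hA (commutator_le_self _ ha)).1
    have k := sw h (h.syl.le hs) n
    have ea : s * a * s⁻¹ = a := by rw [← e.eq, mul_inv_cancel_right]
    rcases h.wl.nt A B (le_inf (hA.trans inf_le_right) (hA.trans (T01 h)))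
      (le_inf (hB.trans inf_le_right) (hB.trans (T01 h))) (p hA) (p hB) (le_sup_left.trans nA)
      (le_sup_left.trans nB) c i with h1 | h1
    · exact TC h aT (h1 ha) (by rw [← k.1, ← cj_centralizer, ← ea]; exact conj_mem_cj (h1 ha))
    have hA' := hA.trans (T0n h)
    have hB' := hB.trans (T0n h)
    rcases (swap h).wl.nt A B (le_inf (hA'.trans inf_le_right) (hA'.trans (T01 (swap h))))
      (le_inf (hB'.trans inf_le_right) (hB'.trans (T01 (swap h)))) (p hA) (p hB)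
      (le_sup_right.trans nA) (le_sup_right.trans nB) c i with h2 | h2
    · exact TC h aT (by rw [← k.2, ← cj_centralizer, ← ea]; exact conj_mem_cj (h2 ha)) (h2 ha)
    · exact absurd (eq_bot_iff.2 fun b hb =>
        TC h (hB (commutator_le_self _ hb)).1 (h1 hb) (h2 hb)) b1
  swap := swap h
  conj g := wc_conj g h

end WC

/-- **WK** -/
theorem wk : WKStmt.{u} := fun _ _ _ _ _ h => wk' h

/-- **W0** -/
theorem w0 : W0Stmt.{u} := fun L U t h t2 com e0 odd => by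
  have c : cj t U ≤ C[U] := (cj_mono h.syl.le).trans ((le_C com).trans (centralizer_anti h.syl.le))
  have p1 : IsPGroup 2 ↥(U ⊔ cj t U) := h.syl.isPGroup.to_sup_of_normal_left'
    (isPGroup_cj h.syl.isPGroup t) (c.trans (centralizer_le_normalizer _))
  have p2 : IsPGroup 2 ↥(U ⊔ cj t U ⊔ zpowers t) :=
    p1.to_sup_of_normal_left' (H69.SlE.pg_inv t2) (zpowers_le.2 (t_norm t2 U))
  obtain ⟨T, hT, le⟩ := H8.exists_isSylowIn_ge p2 (H := N[L ⊔ cj t L]) (sup_le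
    ((sup_le_sup h.syl.le (cj_mono h.syl.le)).trans le_normalizer) (zpowers_le.2 (t_norm t2 L)))
  have UT : U ≤ T := (le_sup_left.trans le_sup_left).trans le
  have TL : T ⊓ L = U :=
    h.syl.eq_of_le (hT.isPGroup.to_le inf_le_left) inf_le_right (le_inf UT h.syl.le)
  have U0 : U ≤ T ⊓ N[L] := le_inf UT (h.syl.le.trans le_normalizer)
  have ne := inf_centralizer_ne_bot_of_isNilpotent
    (hT.isPGroup.to_le inf_le_left).isNilpotent (H := U) ⟨U0,
      TL ▸ le_normalizer_inf (inf_le_left.trans le_normalizer) inf_le_right⟩ h.ne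
  obtain ⟨⟨z, hz⟩, o⟩ := exists_prime_orderOf_dvd_card' (G := ↥(U ⊓ C[T ⊓ N[L]])) 2
    (((h.syl.isPGroup.to_le inf_le_left).card_eq_or_dvd).resolve_left (mt card_eq_one.1 ne))
  rw [orderOf_mk] at o
  exact ⟨T, z, h, t2, com, e0, odd, hT, le (mem_sup_right (mem_zpowers t)), UT,
    ⟨hz.1, centralizer_anti U0 hz.2⟩, fun e => by simp [e] at o,
    by rw [← pow_two, ← o, pow_orderOf_eq_one], mem_centralizer_iff_le.1 hz.2⟩

end Cfsg.Agent.H65.Wr
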