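import Cfsg.Agent.H17.KnDef2
import Cfsg.Agent.H67.Pi

/-!
# KN-IX: the intersection of the signalizer group with its conjugate
-/

set_option autoImplicit false
set_option maxRecDepth 100000
set_option synthInstance.maxSize 2000
set_option linter.unusedSectionVars false

namespace Cfsg.Agent.H65.KnIx

open Equiv Subgroup Cfsg.Agent.H63 Cfsg.Agent.H8.GD Cfsg.Agent.H17.Kn
open Cfsg.Agent.H11.A16 (ω Ω)
open Cfsg.Agent.H67 (cj_inf cj_eq_self cj_centralizer_singleton cj_piCoreOf cj_mono)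

universe u

/-- the elements of `DP` -/
def uu (a b c : Fin 4) : N2 := wb 0 a * wb 1 b * wb 2 c

theorem f1 : ∀ a b c, uu a b c ∈ DP ∧ uu a b c ∈ S2 ∧ uu a b c * e34 ∈ FF ∧
    uu a b c * uu a b c = 1 ∧ uu a b c * dl 6 = dl 6 * uu a b c := by decide +kernel

theorem f2 : ∀ a b c e, uu a b c * wb 3 e ∈ FX 6 → wb 3 e = 1 := by decide +kernel

theorem f3 : ∀ a b c, (ty (uu a b c) = 6 ↔ a ≠ 3 ∧ b ≠ 3 ∧ c ≠ 3) ∧
    (ty (uu a b c) = 6 → ty (uu a b c * e34) = 8) := by decide +kernel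

theorem f4 : ∀ a b c, (uu a b c * dl 6 ∈ JI 0 ∧ uu a b c * dl 6 ∈ JI 1 ∧ uu a b c * dl 6 ∈ JI 2) ∧
    (∀ y, th 0 (pm2 (uu a b c * dl 6) y) = pm2 (uu (ω a) b c * dl 6) (th 0 y)) ∧
    (∀ y, th 1 (pm2 (uu a b c * dl 6) y) = pm2 (uu a (ω b) c * dl 6) (th 1 y)) ∧
    (∀ y, th 2 (pm2 (uu a b c * dl 6) y) = pm2 (uu a b (ω c) * dl 6) (th 2 y)) := by
  simp only [JI, Subgroup.mem_mk, Submonoid.mem_mk, Subsemigroup.mem_mk, Set.mem_ofPred_eq]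
  decide +kernel

theorem f5 : (∀ a : Fin 4, a ≠ 3 → a = 0 ∨ a = ω 0 ∨ a = ω (ω 0)) ∧ uu 0 0 0 * e34 = z2 ∧
    uu 0 0 0 * dl 6 ∈ PP ∧ (∀ p, dl p ∈ PP ∧ dl p ∈ S2) ∧ dl 6 * dl 7 * dl 7 = dl 6 ∧
    dl 6 * dl 6 = 1 ∧ dl 6 ∉ DP ∧ z2 ∈ S2 := by decide +kernel

theorem f6 : ∀ k, ∃ a a', a ≠ 3 ∧ a' ≠ 3 ∧
    uu k 3 3 = uu a 0 0 * dl 6 * (uu a' 0 0 * dl 6) ∧
    uu 3 k 3 = uu 0 a 0 * dl 6 * (uu 0 a' 0 * dl 6) ∧
    uu 3 3 k = uu 0 0 a * dl 6 * (uu 0 0 a' * dl 6) := by decide +kernel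

theorem f7 : ∀ a b c, uu a b c = uu a 3 3 * uu 3 b 3 * uu 3 3 c := by decide +kernel

theorem nfD (h1 : Mod1) {u : N2} (hu : u ∈ DP) : ∃ a b c, u = uu a b c := by
  obtain ⟨a, b, c, e, rfl⟩ := h1.nfF u hu.1
  exact ⟨a, b, c, by rw [f2 a b c e hu.2, mul_one]; rfl⟩

variable {G : Type u} [Group G] [Finite G]

theorem transfer {W : Subgroup G} {g a b : G} (hg : g ∈ N[W]) (e : g * a * g⁻¹ = b)
    (h : W ⊓ C1[a] ≤ Oc C1[a]) : W ⊓ C1[b] ≤ Oc C1[b] := by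
  have := cj_mono (g := g) h
  rwa [cj_inf, cj_eq_self hg, cj_piCoreOf, cj_centralizer_singleton, e] at this

variable {J : N2 → G} {φ : G → Perm Ω} {s : G} {ρ : G → N2} {n : G} {W : Subgroup G}

theorem rm {K : Subgroup G} {g : G} {u v : N2} (h : R J g u v) (m : J v ∈ K) :
    g * J u * g⁻¹ ∈ K := by
  rwa [show g * J u * g⁻¹ = J v from h]

theorem rc {K : Subgroup G} {g : G} {u v : N2} (h : R J g u v) (m : J u ∈ K) : J v ∈ cj g K :=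
  ⟨_, m, h⟩

theorem cz (_ : Base.{u}) (h : Fe J φ s ρ n) {u : N2} (hu : u ∈ S2) : J u ∈ C1[J z2] :=
  h.mo.le u hu

theorem n3 (h : Fe J φ s ρ n) : R J n e34 (dl 6) := by
  have S := fun p => (f5.2.2.2.1 p).2
  have a := h.np 6 (by decide)
  have b := h.n7
  unfold R at *
  rw [e34, h.em2.mul _ (S 6) _ (S 7), ← conj_mul, a, b,
    ← h.em2.mul _ (mul_mem (S 6) (S 7)) _ (S 7), f5.2.2.2.2.1]

theorem nu (h : Fe J φ s ρ n) {u : N2} (hu : u ∈ DP) : R J n u u := by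
  unfold R
  rw [← mem_centralizer_iff.1 h.nD _ (mem_im hu), mul_inv_cancel_right]

theorem ny (h : Fe J φ s ρ n) (a b c : Fin 4) : R J n (uu a b c * e34) (uu a b c * dl 6) := by
  have S := fun p => (f5.2.2.2.1 p).2
  have a1 := n3 h
  have a2 := nu h (f1 a b c).1
  unfold R at *
  rw [h.em2.mul _ (f1 a b c).2.1 _ (show e34 ∈ S2 from mul_mem (S 6) (S 7)), ← conj_mul, a1, a2,
    h.em2.mul _ (f1 a b c).2.1 _ (S 6)]

theorem nP (hB : Base.{u}) (h : Fe J φ s ρ n) : n ∈ N[im J PP] := by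
  have le : PP ≤ S2 := hB.m2.le.2.2.2.2.2.2.2.2.2.2.1.trans hB.m2.le.2.2.2.2.2.2.2.2.2.2.2.1
  have em := h.em2.mono le
  have Pm := fun p => (f5.2.2.2.1 p).1
  refine H67.mem_normalizer_of_cj_le (H67.cj_le_iff_le_cj_inv.2 (im_le fun e he => ?_))
  have := hB.m2.gPP (((cj n⁻¹ (im J PP)).comap em.hom).map PP.subtype) (fun p => by
    refine ⟨⟨dl p, Pm p⟩, ?_, rfl⟩
    change J (dl p) ∈ cj n⁻¹ (im J PP)
    rw [H67.mem_cj, inv_inv]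
    by_cases q : p = 7
    · subst q
      exact rm h.n7 (mem_im (Pm 7))
    · exact rm (h.np p q) (mem_im (mul_mem (Pm p) (Pm 7)))) he
  obtain ⟨⟨e', he'⟩, k, rfl⟩ := this
  exact k

theorem q0 (hB : Base.{u}) (h : Fe J φ s ρ n) (bl : Bl J) (wd : Wd J W) :
    W ⊓ C1[J (uu 0 0 0 * dl 6)] ≤ Oc C1[J (uu 0 0 0 * dl 6)] := by
  have le : PP ≤ S2 := hB.m2.le.2.2.2.2.2.2.2.2.2.2.1.trans hB.m2.le.2.2.2.2.2.2.2.2.2.2.2.1
  have e : n * J z2 * n⁻¹ = J (uu 0 0 0 * dl 6) := f5.2.1 ▸ ny h 0 0 0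
  have e' : n⁻¹ * J (uu 0 0 0 * dl 6) * n⁻¹⁻¹ = J z2 := by rw [← e]; group
  have k := bl.loc (cj n⁻¹ (W ⊓ C1[J (uu 0 0 0 * dl 6)]))
    (H67.isPi_cj (H67.isPi_of_le wd.odd inf_le_left) _)
    (by rw [← e', ← cj_centralizer_singleton]; exact cj_mono inf_le_right) (by
      rw [← H67.cj_normalizer, ← cj_eq_self (inv_mem (nP hB h))]
      refine cj_mono (H67.le_normalizer_inf (im_le fun u hu => wd.nC (cz hB h (le hu)))
        (im_le fun u hu => le_normalizer (mem_centralizer_singleton_iff.2 ?_)))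
      rw [← h.em2.mul _ (le hu) _ (le f5.2.2.1), ← h.em2.mul _ (le f5.2.2.1) _ (le hu),
        (hB.m2.ab.1 u hu _ f5.2.2.1).eq])
  have := cj_mono (g := n) k
  rwa [H67.cj_cj_inv, cj_piCoreOf, cj_centralizer_singleton, e] at this

theorem thN (hB : Base.{u}) (h : Fe J φ s ρ n) (wd : Wd J W) (i : Fin 4) :
    ∃ θ ∈ N[W], Ey J θ (th i) (JI i) (JI i) := by
  obtain ⟨θ, -, hθ⟩ := h.tht i
  have le := hB.m2.le.2.2.2.2.2.2.2.2.2.2.2.2.2.2.2.2.2.2.2.2.2.2.2.2 i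
  refine ⟨θ, wd.nF (H67.mem_normalizer_of_cj_le
    (H67.cj_le_iff_le_cj_inv.2 (im_le fun e he => ?_))), hθ⟩
  obtain ⟨v, hv, k⟩ := (hB.m2.thm i).1 e he
  rw [H67.mem_cj, inv_inv]
  exact rm (hθ e (le he) v (le hv) k) (mem_im hv)

theorem qall (hB : Base.{u}) (h : Fe J φ s ρ n) (bl : Bl J) (wd : Wd J W) {a b c : Fin 4}
    (ha : a ≠ 3) (hb : b ≠ 3) (hc : c ≠ 3) :
    W ⊓ C1[J (uu a b c * dl 6)] ≤ Oc C1[J (uu a b c * dl 6)] := by
  obtain ⟨θ0, n0, t0⟩ := thN hB h wd 0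
  obtain ⟨θ1, n1, t1⟩ := thN hB h wd 1
  obtain ⟨θ2, n2, t2⟩ := thN hB h wd 2
  let Q := fun a b c => W ⊓ C1[J (uu a b c * dl 6)] ≤ Oc C1[J (uu a b c * dl 6)]
  have s0 : ∀ a b c, Q a b c → Q (ω a) b c := fun a b c => transfer n0
    (t0 _ (f4 a b c).1.1 _ (f4 _ b c).1.1 (mul_inv_eq_iff_eq_mul.2 (Equiv.ext (f4 a b c).2.1)))
  have s1 : ∀ a b c, Q a b c → Q a (ω b) c := fun a b c => transfer n1
    (t1 _ (f4 a b c).1.2.1 _ (f4 a _ c).1.2.1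
      (mul_inv_eq_iff_eq_mul.2 (Equiv.ext (f4 a b c).2.2.1)))
  have s2 : ∀ a b c, Q a b c → Q a b (ω c) := fun a b c => transfer n2
    (t2 _ (f4 a b c).1.2.2 _ (f4 a b _).1.2.2
      (mul_inv_eq_iff_eq_mul.2 (Equiv.ext (f4 a b c).2.2.2)))
  have p0 : Q 0 0 0 := q0 hB h bl wd
  have p1 : Q a 0 0 := by
    rcases f5.1 a ha with rfl | rfl | rfl
    exacts [p0, s0 _ _ _ p0, s0 _ _ _ (s0 _ _ _ p0)]
  have p2 : Q a b 0 := by
    rcases f5.1 b hb with rfl | rfl | rfl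
    exacts [p1, s1 _ _ _ p1, s1 _ _ _ (s1 _ _ _ p1)]
  rcases f5.1 c hc with rfl | rfl | rfl
  exacts [p2, s2 _ _ _ p2, s2 _ _ _ (s2 _ _ _ p2)]

theorem cen (hB : Base.{u}) (h : Fe J φ s ρ n) (bl : Bl J) (wd : Wd J W) :
    ∀ u ∈ DP, ty u = 6 → W ⊓ C1[J (u * dl 6)] ≤ cj n W := by
  intro u hu t
  obtain ⟨a, b, c, rfl⟩ := nfD hB.m1 hu
  obtain ⟨ha, hb, hc⟩ := (f3 a b c).1.1 t
  refine (qall hB h bl wd ha hb hc).trans ?_
  have := cj_mono (g := n) (wd.full _ (f1 a b c).2.2.1 ((f3 a b c).2 t))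
  rwa [cj_piCoreOf, cj_centralizer_singleton, ny h a b c] at this

/-- `D ⟨d⟩` -/
def ext2 (D : Subgroup G) (d : G) (d2 : d * d = 1) (c : ∀ a ∈ D, a * d = d * a) : Subgroup G where
  carrier := {b | b ∈ D ∨ b * d ∈ D}
  one_mem' := Or.inl (one_mem _)
  mul_mem' := by
    rintro a b (ha | ha) (hb | hb)
    · exact Or.inl (mul_mem ha hb)
    · exact Or.inr (mul_assoc a b d ▸ mul_mem ha hb)
    · refine Or.inr ?_
      rw [mul_assoc, c b hb, ← mul_assoc]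
      exact mul_mem ha hb
    · refine Or.inl ?_
      have := mul_mem ha hb
      rwa [mul_assoc, ← c _ hb, mul_assoc b, d2, mul_one] at this
  inv_mem' := by
    rintro a (ha | ha)
    · exact Or.inl (inv_mem ha)
    · refine Or.inr ?_
      have e : a = d * (a * d) := by rw [← c _ ha, mul_assoc, d2, mul_one]
      have e2 : a⁻¹ * d = (a * d)⁻¹ := by
        conv_lhs => rw [e]
        group
      exact e2 ▸ inv_mem ha

theorem ix (hB : Base.{u}) (hw : BwStmt.{u}) : IxStmt.{u} := by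
  intro G _ _ J φ s ρ n W h bl wd
  refine ⟨cen hB h bl wd, ?_⟩
  have S6 := (f5.2.2.2.1 6).2
  have S7 := (f5.2.2.2.1 7).2
  have le : DP ≤ S2 := fun u hu => by
    obtain ⟨a, b, c, rfl⟩ := nfD hB.m1 hu
    exact (f1 a b c).2.1
  have mD : ∀ g ∈ im J DP, ∃ a b c, g = J (uu a b c) := fun g hg => by
    obtain ⟨u, hu, rfl⟩ := (h.em2.mono le).mem.1 hg
    obtain ⟨a, b, c, rfl⟩ := nfD hB.m1 hu
    exact ⟨a, b, c, rfl⟩
  have d2 : J (dl 6) * J (dl 6) = 1 := by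
    rw [← h.em2.mul _ S6 _ S6, f5.2.2.2.2.2.1, h.em2.one]
  have cD : ∀ g ∈ im J DP, g * J (dl 6) = J (dl 6) * g := fun g hg => by
    obtain ⟨a, b, c, rfl⟩ := mD g hg
    rw [← h.em2.mul _ (f1 a b c).2.1 _ S6, (f1 a b c).2.2.2.2, h.em2.mul _ S6 _ (f1 a b c).2.1]
  have sD : ∀ g ∈ im J DP, g * g = 1 := fun g hg => by
    obtain ⟨a, b, c, rfl⟩ := mD g hg
    rw [← h.em2.mul _ (f1 a b c).2.1 _ (f1 a b c).2.1, (f1 a b c).2.2.2.1, h.em2.one]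
  have dD : J (dl 6) ∉ im J DP := fun m => f5.2.2.2.2.2.2.1 ((h.em2.mem_iff le S6).1 m)
  have bK : ∀ K : Subgroup G, im J DP ≤ K → J (dl 6) ∈ K → ext2 _ _ d2 cD ≤ K := by
    rintro K k1 k2 b (hb | hb)
    · exact k1 hb
    · exact (K.mul_mem_cancel_right k2).1 (k1 hb)
  have bW : ext2 _ _ d2 cD ≤ N[W] :=
    bK _ (im_le fun u hu => wd.nC (cz hB h (le hu))) (wd.nC (cz hB h S6))
  have DB : im J DP ≤ ext2 _ _ d2 cD := fun _ hb => Or.inl hb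
  have dB : J (dl 6) ∈ ext2 _ _ d2 cD := Or.inr (d2 ▸ one_mem _)
  refine hw (ext2 _ _ d2 cD) (im J DP) W (W ⊓ cj n W) ?_ wd.odd inf_le_left bW
    (H67.le_normalizer_inf bW ?_) DB ?_ fun H hH i2 ne => ?_
  · rintro b (hb | hb)
    · exact sD b hb
    · have := sD _ hb
      rw [mul_assoc, ← cD _ hb, mul_assoc b, d2, mul_one] at this
      exact this
  · rw [← H67.cj_normalizer]
    refine bK _ (im_le fun u hu => ?_) ?_
    · exact rc (nu h hu) (wd.nC (cz hB h (le hu)))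
    · exact rc (n3 h) (wd.nC (cz hB h (mul_mem S6 S7)))
  · refine index_eq_two_iff.2 ⟨⟨_, dB⟩, fun b => ?_⟩
    simp only [mem_subgroupOf, coe_mul]
    by_cases m : (b : G) ∈ im J DP
    · exact Or.inr ⟨m, fun k => dD (((im J DP).mul_mem_cancel_left m).1 k)⟩
    · exact Or.inl ⟨b.2.resolve_left m, m⟩
  · have yS : ∀ a b c, uu a b c * dl 6 ∈ S2 := fun a b c => mul_mem (f1 a b c).2.1 S6
    have yB : ∀ a b c, J (uu a b c * dl 6) ∈ ext2 _ _ d2 cD := fun a b c => by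
      rw [h.em2.mul _ (f1 a b c).2.1 _ S6]
      exact mul_mem (DB (mem_im (f1 a b c).1)) dB
    obtain ⟨a, b, c, ha, hb, hc, m⟩ : ∃ a b c, a ≠ 3 ∧ b ≠ 3 ∧ c ≠ 3 ∧ J (uu a b c * dl 6) ∈ H := by
      by_contra hn
      push Not at hn
      have two : ∀ a b c a' b' c', a ≠ 3 → b ≠ 3 → c ≠ 3 → a' ≠ 3 → b' ≠ 3 → c' ≠ 3 →
          J (uu a b c * dl 6 * (uu a' b' c' * dl 6)) ∈ H := by
        intro a b c a' b' c' h1 h2 h3 h4 h5 h6
        rw [h.em2.mul _ (yS _ _ _) _ (yS _ _ _)]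
        exact (mul_mem_iff_of_index_two i2 (a := ⟨_, yB a b c⟩) (b := ⟨_, yB a' b' c'⟩)).2
          (iff_of_false (hn _ _ _ h1 h2 h3) (hn _ _ _ h4 h5 h6))
      have z3 : (0 : Fin 4) ≠ 3 := by decide
      have DH : im J DP ≤ H := fun g hg => by
        obtain ⟨a, b, c, rfl⟩ := mD g hg
        rw [f7, h.em2.mul _ (mul_mem (f1 _ _ _).2.1 (f1 _ _ _).2.1) _ (f1 _ _ _).2.1,
          h.em2.mul _ (f1 _ _ _).2.1 _ (f1 _ _ _).2.1]
        refine mul_mem (mul_mem ?_ ?_) ?_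
        · obtain ⟨x, y, hx, hy, e, -, -⟩ := f6 a
          exact e ▸ two _ _ _ _ _ _ hx z3 z3 hy z3 z3
        · obtain ⟨x, y, hx, hy, -, e, -⟩ := f6 b
          exact e ▸ two _ _ _ _ _ _ z3 hx z3 z3 hy z3
        · obtain ⟨x, y, hx, hy, -, -, e⟩ := f6 c
          exact e ▸ two _ _ _ _ _ _ z3 z3 hx z3 z3 hy
      refine ne (le_antisymm (fun g hg => (hH hg).resolve_right fun k => ?_) DH)
      refine hn 0 0 0 z3 z3 z3 ?_
      rw [h.em2.mul _ (f1 0 0 0).2.1 _ S6]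
      exact mul_mem (DH (mem_im (f1 0 0 0).1)) ((H.mul_mem_cancel_left hg).1 (DH k))
    refine le_inf inf_le_left (le_trans ?_ (cen hB h bl wd _ (f1 a b c).1 ((f3 a b c).1.2 ⟨ha, hb, hc⟩)))
    exact inf_le_inf_left _ (H67.centralizer_le_centralizer_singleton m)

end Cfsg.Agent.H65.KnIx
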