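import Cfsg.Agent.H65.AlU

/-!
# The root data of `L₃(4)`: the facts `Par`
-/

set_option autoImplicit false
set_option maxRecDepth 100000
set_option synthInstance.maxSize 2000

namespace Cfsg.Agent.H65.AL

open Subgroup H28 H42.AL
open H42.AS (om)
open H44.AP (aa two0 cases4 cj zero_of sq_of inv_of)
open scoped commutatorElement

universe u

variable {G : Type u} [Group G] {D : RD G}

/-- The action of `u⁻¹ s` on the coordinates. -/
def al (x : T3) (sw fr : Bool) (l m : F4) (y : T3) : T3 :=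
  mu (mu (iv x) (act sw fr l m y)) (iv (iv x))

/-- The action on `U / V`. -/
def ab (sw fr : Bool) (l m : F4) (p : F4 × F4) : F4 × F4 :=
  if sw then (m * pw fr p.2, l * pw fr p.1) else (l * pw fr p.1, m * pw fr p.2)

variable (D) in
/-- Grouped coordinates. -/
def qq (p : F4 × F4) (r : F4) : G := q D (p.1, p.2, r)

variable (D) in
/-- The type of an element of `N`. -/
def Ty (sw fr : Bool) (g : G) : Prop := ∃ a ∈ D.A, P D sw fr (a * g)

variable (D) in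
/-- The conclusion of `outinv`. -/
def OI (g : G) : Prop := ∃ x ∈ D.A, ∃ y ∈ D.A, ∃ a ∈ D.A,
  g * x = x * g ∧ g * y = y * g ∧ ⁅x, y⁆ ≠ 1 ∧ ⁅x, y⁆ * ⁅x, y⁆ = 1 ∧ a * g * a⁻¹ = ⁅x, y⁆ * g

theorem cj_comm {a y z : G} (h : y * z = z * y) :
    a * y * a⁻¹ * (a * z * a⁻¹) = a * z * a⁻¹ * (a * y * a⁻¹) := by rw [conj_mul, conj_mul, h]

theorem OI.conj {g c : G} (hc : c ∈ D.A) (h : OI D (c * g * c⁻¹)) : OI D g := by
  obtain ⟨x, hx, y, hy, a, ha, e1, e2, e3, e4, e5⟩ := h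
  have e : c⁻¹ * (c * g * c⁻¹) * c⁻¹⁻¹ = g := by group
  refine ⟨_, cjm (inv_mem hc) hx, _, cjm (inv_mem hc) hy, _, cjm (inv_mem hc) ha,
    e ▸ cj_comm e1, e ▸ cj_comm e2, ?_, ?_, ?_⟩ <;> rw [← conjugate_commutatorElement]
  · rwa [Ne, conj_eq_one_iff]
  · rw [conj_mul, e4]; group
  · rw [← e, conj_mul, conj_mul, ← e5]; group

theorem mem_AK {g : G} : g ∈ D.A ⊔ D.K ↔ ∃ a ∈ D.A, a * g ∈ D.K := by
  refine ⟨fun hg => ?_, fun ⟨a, ha, hk⟩ => by
    simpa using mul_mem (mem_sup_left (inv_mem ha) : _ ∈ D.A ⊔ D.K) (mem_sup_right hk)⟩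
  rw [← SetLike.mem_coe, coe_mul_of_right_le_normalizer_left _ _ fun _ => KN] at hg
  obtain ⟨a, ha, k, hk, rfl⟩ := hg
  exact ⟨a⁻¹, inv_mem ha, by simpa using hk⟩

theorem mem_of_cop {H : Subgroup G} {g : G} {a b : ℕ} (hc : a.Coprime b) (h1 : g ^ a ∈ H)
    (h2 : g ^ b ∈ H) : g ∈ H := by
  have e := Nat.gcd_eq_gcd_ab a b
  rw [hc.gcd_eq_one, Nat.cast_one] at e
  rw [← zpow_one g, e, zpow_add, zpow_mul, zpow_mul, zpow_natCast, zpow_natCast]
  exact mul_mem (zpow_mem h1 _) (zpow_mem h2 _)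

section Rel

variable (h : D.Rel)
include h

theorem g_q {x : T3} {g : G} {sw fr : Bool} {l m : F4} (s : D.St (T D sw) (q D x * g) l m fr)
    (y : T3) : g * q D y * g⁻¹ = q D (al x sw fr l m y) := by
  rw [al, ← q_mul h, ← q_mul h, ← q_inv h (iv x), ← q_inv h x, ← st_q h s]; group

theorem g_v {u g : G} (hu : u ∈ D.U) {sw fr : Bool} {l m : F4} (s : D.St (T D sw) (u * g) l m fr)
    (t : F4) : g * D.xv t * g⁻¹ = D.xv (l * m * pw fr t) := by
  rw [← cj (Uv h (inv_mem hu) (l * m * pw fr t)), ← T_v sw, ← s.v, T_v]; group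

theorem g_b {u g : G} (hu : u ∈ D.U) {sw fr : Bool} {l m : F4} (s : D.St (T D sw) (u * g) l m fr)
    (p : F4 × F4) (r : F4) : ∃ r', g * qq D p r * g⁻¹ = qq D (ab sw fr l m p) r' := by
  obtain ⟨x, rfl⟩ := unf h hu
  refine ⟨(al x sw fr l m (p.1, p.2, r)).2.2, ?_⟩
  have k : ∀ a b : F4, a + b + a = b := by decide +kernel
  rw [qq, g_q h s, qq]
  congr 1
  cases sw <;> simp [al, mu, iv, act, ab, k]

theorem qq_inj {p p' : F4 × F4} {r r' : F4} (e : qq D p r = qq D p' r') : p = p' ∧ r = r' := by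
  have := q_inj h e
  simp only [Prod.mk.injEq] at this
  exact ⟨Prod.ext this.1 this.2.1, this.2.2⟩

theorem qq_div (p p' : F4 × F4) (r r' : F4) : ∃ r1, qq D p r * (qq D p' r')⁻¹ = qq D (p + p') r1 :=
  ⟨_, by rw [qq, qq, q_inv h, q_mul h]; rfl⟩

theorem st_triv {u g : G} (hu : u ∈ D.U) {sw fr : Bool} {l m : F4}
    (s : D.St (T D sw) (u * g) l m fr) (hg : ∀ u ∈ D.U, ⁅g, u⁆ ∈ D.V) :
    sw = false ∧ fr = false ∧ l = 1 ∧ m = 1 := by
  have k : ∀ (sw fr : Bool) (l m : F4), (∀ p, ab sw fr l m p + p = 0) →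
      sw = false ∧ fr = false ∧ l = 1 ∧ m = 1 := by decide +kernel
  refine k _ _ _ _ fun p => ?_
  obtain ⟨r, e⟩ := g_b h hu s p 0
  obtain ⟨r1, e1⟩ := qq_div h (ab sw fr l m p) p r 0
  have := hg (qq D p 0) (qU _)
  rw [commutatorElement_def, e, e1, qq, q_mem_V h] at this
  exact Prod.ext this.1 this.2

theorem st_uniq {D' : RD G} {g g' : G} {l m : F4} {fr : Bool} (s : D.St D' g l m fr)
    (s' : D.St D' g' l m fr) : g⁻¹ * g' ∈ D.K := by
  have k : ∀ (fr : Bool) (a : F4), a ≠ 0 → pw fr (a ^ 2) * pw fr a = 1 := by decide +kernel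
  have := stMul s' (stInv s)
  rw [k _ _ s.l0, k _ _ s.m0, Bool.xor_self] at this
  exact stK h this

theorem Ty.N {a b : Bool} {g : G} (s : Ty D a b g) : g ∈ D.N := by
  obtain ⟨x, hx, s⟩ := s
  simpa using mul_mem (inv_mem (AN hx)) (s.N h)

theorem Ty.mul {a b c d : Bool} {g g' : G} (s : Ty D a b g) (s' : Ty D c d g') :
    Ty D (xor a c) (xor b d) (g * g') := by
  have hg := s.N h
  obtain ⟨x, hx, s⟩ := s
  obtain ⟨y, hy, s'⟩ := s'
  exact ⟨_, mul_mem hx (cjA hg hy), by convert s.mul s' using 1; group⟩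

theorem Ty.inv {a b : Bool} {g : G} (s : Ty D a b g) : Ty D a b g⁻¹ := by
  have hg := s.N h
  obtain ⟨x, hx, s⟩ := s
  exact ⟨_, cjA' hg (inv_mem hx), by convert s.inv using 1; group⟩

omit h in
theorem TyA {a : G} (ha : a ∈ D.A) : Ty D false false a :=
  ⟨a⁻¹, inv_mem ha, 1, 1, by rw [inv_mul_cancel]; exact st_one⟩

theorem Ty.AK {g : G} (s : Ty D false false g) {n : ℕ} (hn : g ^ 2 ^ n ∈ D.A ⊔ D.K) :
    g ∈ D.A ⊔ D.K := by
  refine mem_of_cop (a := 3) (Nat.Coprime.pow_right n (by norm_num)) ?_ hn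
  have hg := s.N h
  obtain ⟨a, ha, l, m, s⟩ := s
  have k : ∀ a : F4, a ≠ 0 → a * pw false (a * pw false a) = 1 := by decide +kernel
  have s3 := stMul (stMul s s) s
  rw [k _ s.l0, k _ s.m0] at s3
  exact mem_AK.2 ⟨_, mul_mem (mul_mem ha (cjA hg ha)) (cjA hg (cjA hg ha)), by
    convert stK h s3 using 1; rw [pow_succ, pow_two]; group⟩

variable (hg : D.Glob)
include hg

omit h in
theorem cV1 {a : G} (ha : a ∈ D.A) (e : a * D.xv 1 = D.xv 1 * a) : a ∈ D.U :=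
  hg.centV 1 one_ne_zero a ha e

theorem AK {a : G} (ha : a ∈ D.A) (hk : a ∈ D.K) : a = 1 := by
  obtain ⟨t, rfl⟩ := (mem_V h).1
    (zU h (cV1 hg ha (Kc hk (xvA h 1))) fun u hu => Kc hk (U_le_A h hu))
  have e := h.rv t
  rw [← Kc hk rhoA, mul_left_inj] at e
  have k : ∀ t : F4, t = om ^ 2 * t → t = 0 := by decide +kernel
  rw [k t (xv_inj h e), zero_of h.vv]

theorem oddU [Finite G] {J : Subgroup G} (hJ : J ≤ D.A) (ho : Odd (Nat.card J))
    (hn : D.U ≤ normalizer (J : Set G)) : J = ⊥ := by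
  have k1 : ∀ t, t ≠ 0 → ∀ j ∈ J, D.xv t * j * (D.xv t)⁻¹ = j → j = 1 := fun t ht j hj e => by
    have h1 := orderOf_dvd_natCard _ (hg.centV t ht j (hJ hj) (mul_inv_eq_iff_eq_mul.1 e).symm)
    rw [cardU h, show 64 = 2 ^ 6 from rfl] at h1
    exact orderOf_eq_one_iff.1 (Nat.eq_one_of_dvd_coprimes
      (Nat.Coprime.pow_left 6 (Nat.coprime_two_left.2 ho)) h1 (orderOf_dvd_natCard _ hj))
  have k2 : ∀ t, t ≠ 0 → ∀ j ∈ J, D.xv t * j * (D.xv t)⁻¹ = j⁻¹ := fun t ht j hj => by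
    have := MonoidHom.FixedPointFree.coe_eq_inv_of_involutive
      (φ := J.normalizerMonoidHom ⟨D.xv t, hn (xvU t)⟩)
      (fun j e => Subtype.ext (k1 t ht j j.2 (congrArg Subtype.val e)))
      fun j => Subtype.ext (show D.xv t * (D.xv t * j * (D.xv t)⁻¹) * (D.xv t)⁻¹ = j by
        rw [show D.xv t * (D.xv t * j * (D.xv t)⁻¹) * (D.xv t)⁻¹ =
          D.xv t * D.xv t * j * (D.xv t * D.xv t)⁻¹ by group, sq_of h.vv]; group)
    exact congrArg Subtype.val (congrFun this ⟨j, hj⟩)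
  refine (eq_bot_iff_forall _).2 fun j hj => k1 (1 + om) (by decide) j hj ?_
  rw [h.vv, show D.xv 1 * D.xv om * j * (D.xv 1 * D.xv om)⁻¹ =
    D.xv 1 * (D.xv om * j * (D.xv om)⁻¹) * (D.xv 1)⁻¹ by group, k2 _ (by decide) j hj,
    k2 _ one_ne_zero _ (inv_mem hj), inv_inv]

omit h in
theorem exTy {g : G} (hN : g ∈ D.N) : ∃ a b, Ty D a b g := by
  obtain ⟨a, ha, l, m, fr, s | s⟩ := hg.out g hN
  exacts [⟨false, fr, a, ha, l, m, s⟩, ⟨true, fr, a, ha, l, m, s⟩]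

theorem Ty.nU {a b : Bool} {g : G} (s : Ty D a b g) (hV : g ∈ normalizer (D.V : Set G)) :
    ∃ u ∈ D.U, P D a b (u * g) := by
  obtain ⟨x, hx, s⟩ := s
  obtain ⟨i, e⟩ := hg.normV x hx (by simpa using mul_mem (s.NV h) (inv_mem hV))
  refine ⟨D.rho ^ i * x, by simpa [mul_assoc] using (P_rho h i).cU h e, ?_⟩
  simpa [mul_assoc] using (P_rho h i).mul s

theorem PA {a b : Bool} {x : G} (hx : x ∈ D.A) (s : P D a b x) : a = false ∧ b = false := by
  obtain ⟨i, e⟩ := hg.normV x hx (s.NV h)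
  obtain ⟨l, m, s1⟩ := s.mul (P_rho h i)
  have := st_triv h (one_mem _) (g := x * D.rho ^ i) (by rwa [one_mul]) fun u hu => by
    obtain ⟨y, e1⟩ := unf h e
    obtain ⟨z, rfl⟩ := unf h hu
    rw [e1, q_comm h]; exact xvV _
  simpa using And.intro this.1 this.2.1

theorem cUV [Finite G] {g : G} (hN : g ∈ D.N) (hc : ∀ u ∈ D.U, ⁅g, u⁆ ∈ D.V) :
    ∃ u ∈ D.U, ∃ k ∈ D.K, g = u * k := by
  obtain ⟨a, b, s⟩ := exTy hg hN
  obtain ⟨u, hu, l, m, s⟩ := s.nU h hg (mem_normalizer_fintype fun v hv => by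
    obtain ⟨t, rfl⟩ := (mem_V h).1 hv
    simpa [commutatorElement_def] using mul_mem (hc _ (xvU t)) (xvV t))
  obtain ⟨rfl, rfl, rfl, rfl⟩ := st_triv h hu s hc
  exact ⟨u⁻¹, inv_mem hu, _, stK h s, by group⟩

theorem cU [Finite G] {g : G} (hN : g ∈ D.N) (hc : ∀ u ∈ D.U, g * u = u * g) :
    ∃ t, ∃ k ∈ D.K, g = D.xv t * k := by
  obtain ⟨u, hu, k, hk, rfl⟩ := cUV h hg hN fun u hu => by
    rw [commutatorElement_eq_one_iff_mul_comm.2 (hc u hu)]; exact one_mem _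
  obtain ⟨t, rfl⟩ := (mem_V h).1 (zU h hu fun w hw => by
    have := hc w hw
    rwa [mul_assoc, Kc hk (U_le_A h hw), ← mul_assoc, ← mul_assoc, mul_left_inj] at this)
  exact ⟨t, k, hk, rfl⟩

theorem NV_of [Finite G] {g : G} (hN : g ∈ D.N) (e : g * D.xv 1 = D.xv 1 * g) :
    g ∈ normalizer (D.V : Set G) := mem_normalizer_fintype fun v hv => by
  have k : ∀ g ∈ D.N, g * D.xv 1 = D.xv 1 * g → ∀ u ∈ D.U, g * u * g⁻¹ ∈ D.U := fun g hN e u hu =>
    cV1 hg (cjA hN (U_le_A h hu)) (cj e ▸ cj_comm (Uv h hu 1))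
  obtain ⟨t, rfl⟩ := (mem_V h).1 hv
  refine zU h (k g hN e _ (xvU t)) fun u hu => ?_
  have := cj_comm (a := g) (Uv h (k g⁻¹ (inv_mem hN) (Commute.inv_left e) u hu) t)
  rw [show g * (g⁻¹ * u * g⁻¹⁻¹) * g⁻¹ = u by group] at this
  exact this.symm

theorem o3 [Finite G] {g : G} (hN : g ∈ D.N) (h3 : g ^ 3 = 1) (e : g * D.xv 1 = D.xv 1 * g) :
    g ∈ D.K ∨ D.U ≤ ⁅zpowers g, D.U⁆ := by
  obtain ⟨a, b, s⟩ := exTy hg hN
  obtain ⟨u, hu, l, m, s⟩ := s.nU h hg (NV_of h hg hN e)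
  have k : ∀ (sw fr : Bool) (l m : F4), 1 = l * m * pw fr 1 →
      (∀ p, ab sw fr l m (ab sw fr l m (ab sw fr l m p)) = p) →
      (sw = false ∧ fr = false ∧ l = 1 ∧ m = 1) ∨ ∀ p, ∃ p', ab sw fr l m p' + p' = p := by
    decide +kernel
  rcases k a b l m (xv_inj h ((cj e).symm.trans (g_v h hu s 1))) fun p => by
    obtain ⟨r1, e1⟩ := g_b h hu s p 0
    obtain ⟨r2, e2⟩ := g_b h hu s _ r1
    obtain ⟨r3, e3⟩ := g_b h hu s _ r2
    refine (qq_inj h (r := r3) (r' := 0) ?_).1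
    rw [← e3, ← e2, ← e1, show g * (g * (g * qq D p 0 * g⁻¹) * g⁻¹) * g⁻¹ =
      g ^ 3 * qq D p 0 * (g ^ 3)⁻¹ by rw [pow_succ, pow_two]; group, h3]
    group
    with ⟨rfl, rfl, rfl, rfl⟩ | k1
  · have hk := stK h s
    have c : Commute u⁻¹ (u * g) := (Kc hk (U_le_A h (inv_mem hu))).symm
    have e1 : u ^ 3 = (u * g) ^ 3 := by
      rw [show g = u⁻¹ * (u * g) by group, c.mul_pow, inv_pow, inv_mul_eq_one] at h3
      exact h3
    have e2 := AK h hg (pow_mem (U_le_A h hu) 3) (e1 ▸ pow_mem hk 3)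
    have e3 : u ∈ (⊥ : Subgroup G) := mem_of_cop (a := 3) (b := 64) (by norm_num) e2 (by
      rw [← cardU h]; exact orderOf_dvd_iff_pow_eq_one.1 (orderOf_dvd_natCard _ hu))
    rw [mem_bot.1 e3, one_mul] at hk
    exact Or.inl hk
  · have k2 : ∀ p, ∃ r, qq D p r ∈ ⁅zpowers g, D.U⁆ := fun p => by
      obtain ⟨p', rfl⟩ := k1 p
      obtain ⟨r, e1⟩ := g_b h hu s p' 0
      obtain ⟨r1, e2⟩ := qq_div h (ab a b l m p') p' r 0
      exact ⟨r1, by
        rw [← e2, ← e1]; exact commutator_mem_commutator (mem_zpowers g) (qU _)⟩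
    obtain ⟨r, e1⟩ := k2 (1, 0)
    have hV := nrmU h (normalizer_commutator_ge_right _ _) e1 (qU _) fun e2 =>
      one_ne_zero ((q_mem_V h).1 e2).1
    refine Or.inr fun w hw => ?_
    obtain ⟨x, rfl⟩ := unf h hw
    obtain ⟨r, e2⟩ := k2 (x.1, x.2.1)
    have := mul_mem e2 (hV (xvV (r + x.2.2)))
    rwa [qq, qv h, q_mul h, show mu (x.1, x.2.1, r) (0, 0, r + x.2.2) = x by
      clear * -; revert x r; decide +kernel] at this

theorem comm2 {z : G} (hz : z ∈ ⁅D.N, D.N⁆) {n : ℕ} (e : z ^ 2 ^ n = 1) :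
    ∃ a ∈ D.A, ∃ k ∈ D.K, z = a * k := by
  let H : Subgroup G := ⟨⟨⟨{g | Ty D false false g}, fun s s' => s.mul h s'⟩, TyA (one_mem _)⟩,
    fun s => s.inv h⟩
  have hH : ⁅D.N, D.N⁆ ≤ H := commutator_le.2 fun g h1 g' h2 => by
    obtain ⟨a, b, s⟩ := exTy hg h1
    obtain ⟨c, d, s'⟩ := exTy hg h2
    have := ((s.mul h s').mul h (s.inv h)).mul h (s'.inv h)
    have k : ∀ a c : Bool, xor (xor (xor a c) a) c = false := by decide
    rwa [k, k] at this
  obtain ⟨a, ha, hk⟩ := mem_AK.1 (Ty.AK h (hH hz) (n := n) (e ▸ one_mem _))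
  exact ⟨a⁻¹, inv_mem ha, _, hk, by group⟩

theorem fixInv [Finite G] {g : G} (hN : g ∈ D.N) (h2 : g * g ∈ D.K) :
    ∃ c ∈ D.A, c * g * c⁻¹ * D.xv 1 = D.xv 1 * (c * g * c⁻¹) := by
  classical
  have := Fintype.ofFinite D.A
  let f : Function.End D.A := fun a => ⟨g * a * g⁻¹, cjA hN a.2⟩
  have h1 := Equiv.Perm.card_fixedPoints_modEq (f := f) (p := 2) (n := 1) (funext fun a =>
    Subtype.ext (show g * (g * a * g⁻¹) * g⁻¹ = a from
      Eq.trans (by group) (cj (Kc h2 a.2))))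
  rw [← Nat.card_eq_fintype_card, ← Nat.card_eq_fintype_card, hg.card,
    Nat.card_congr (β := (centralizer {g}).subgroupOf D.A) (Equiv.subtypeEquivRight fun a => by
      rw [mem_subgroupOf, mem_centralizer_singleton_iff, eq_comm, ← mul_inv_eq_iff_eq_mul]
      exact Subtype.ext_iff)] at h1
  obtain ⟨z, hz⟩ := exists_prime_orderOf_dvd_card' 2 ((Nat.modEq_zero_iff_dvd).1
    (h1.symm.trans (by decide)))
  rw [← orderOf_coe, ← orderOf_coe] at hz
  obtain ⟨c, hc, e⟩ := hg.inv z.1 z.1.2 (by rw [← pow_two, ← hz, pow_orderOf_eq_one])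
    fun e => by simp [e] at hz
  exact ⟨c, hc, e ▸ cj_comm (mem_centralizer_singleton_iff.1 z.2).symm⟩

omit hg in
theorem OI_of {g x y a : G} (hx : x ∈ D.A) (hy : y ∈ D.A) (ha : a ∈ D.A) (e1 : g * x = x * g)
    (e2 : g * y = y * g) (e3 : ⁅x, y⁆ = D.xv 1) (e4 : a * (g * a⁻¹ * g⁻¹) = D.xv 1) : OI D g :=
  ⟨x, hx, y, hy, a, ha, e1, e2, fun e => one_ne_zero (xv_ne h (e3 ▸ e)), e3 ▸ sq_of h.vv 1, by
    rw [e3, ← e4]; group⟩

theorem outinv [Finite G] {g : G} (hN : g ∈ D.N) (h2 : g * g ∈ D.K) (h1 : g ∉ D.A ⊔ D.K) :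
    OI D g := by
  obtain ⟨c, hc, e⟩ := fixInv h hg hN h2
  refine OI.conj hc ?_
  replace hN : c * g * c⁻¹ ∈ D.N := cjm (AN hc) hN
  replace h2 : c * g * c⁻¹ * (c * g * c⁻¹) ∈ D.K := by rw [conj_mul]; exact cjK (AN hc) h2
  replace h1 : c * g * c⁻¹ ∉ D.A ⊔ D.K := fun e => h1 (by
    simpa [mul_assoc] using cjm (mem_sup_left (inv_mem hc)) e)
  generalize c * g * c⁻¹ = g at *
  obtain ⟨a, b, s0⟩ := exTy hg hN
  obtain ⟨u, hu, l, m, s⟩ := s0.nU h hg (NV_of h hg hN e)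
  have lm : l * m = 1 := by
    have := xv_inj h ((cj e).symm.trans (g_v h hu s 1))
    cases b <;> simpa [pw] using this.symm
  obtain ⟨x, rfl⟩ := unf h hu
  cases b
  · cases a
    · exact absurd (s0.AK h (n := 1) (mem_sup_right (by rwa [pow_one, pow_two]))) h1
    have s2 := stMul s (stSwap s)
    simp only [pw, Bool.false_eq_true, if_false, mul_comm m, lm] at s2
    have k2 := stK h s2
    generalize e1 : q D x * g = g0 at s k2
    obtain rfl : g = q D (iv x) * g0 := by rw [← q_inv h, ← e1]; group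
    have k : ∀ (x : T3) (l m : F4), l * m = 1 → mu x (act true false l m x) = 0 →
        ∃ w, mu (mu w x) (act true false l m (iv w)) = 0 := by decide +kernel
    obtain ⟨w, e2⟩ := k (iv x) l m lm (q_inj h (by
      rw [q_zero h]
      refine AK h hg (qA h _) ?_
      rw [← q_mul h, ← st_q h s]
      simpa [mul_assoc] using mul_mem h2 (inv_mem k2)))
    have e3 : q D w * (q D (iv x) * g0) * (q D w)⁻¹ = g0 := by
      conv_rhs => rw [← one_mul g0, ← q_zero h, ← e2, ← q_mul h, ← q_mul h, ← st_q h s,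
        ← q_inv h w]
      group
    refine OI.conj (qA h w) ?_
    rw [e3]
    have k1 : ∀ l m : F4, l * m = 1 → ∃ w, mu w (act true false l m (iv w)) = (0, 0, 1) := by
      decide +kernel
    obtain ⟨w1, e4⟩ := k1 l m lm
    refine OI_of h rhoA (xvA h (om ^ 2)) (qA h w1) ?_ ?_ ?_ ?_
    · have s1 := stMul (st_rho h) s
      have s2 := stMul s (stSwap (st_rho h)) |> fun (s2 : D.St D.swap (D.hb * D.hb * g0) _ _ _) => s2
      simp only [pw, Bool.false_eq_true, if_false, mul_comm om] at s1 s2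
      have hN0 : g0 ∈ D.N := P.N h ⟨_, _, s⟩
      refine inv_mul_eq_one.1 (AK h hg ?_ (st_uniq h s1 s2))
      simpa [mul_assoc] using mul_mem (inv_mem rhoA) (cjA' hN0 rhoA)
    · rw [← mul_inv_eq_iff_eq_mul, s.v, lm, one_mul]; rfl
    · rw [commutatorElement_def, cj (h.rv _), inv_of h.vv, ← h.vv]
      congr 1
    · rw [q_inv h, st_q h s, q_mul h, e4, qv h]
  · have k : ∀ (x : T3) (sw : Bool) (l m : F4), l * m = 1 →
        (∀ a b, al x sw true l m (al x sw true l m (a, b, 0)) = (a, b, 0)) → ∃ c c', ∃ y y' : T3,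
          (y = (if sw then 1 else l ^ 2, if sw then 1 else 0, c) ∧
            y' = (if sw then om else 0, if sw then om ^ 2 else l, c')) ∧
          al x sw true l m y = y ∧ al x sw true l m y' = y' ∧ be y y' = 1 := by
      simp only [exists_and_left, and_assoc, exists_eq_left]
      decide +kernel
    obtain ⟨-, -, y, y', -, e1, e2, e3⟩ := k x a l m lm fun a b => q_inj h (by
      rw [← g_q h s, ← g_q h s]; exact Eq.trans (by group) (cj (Kc h2 (qA h (a, b, 0)))))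
    refine OI_of h (qA h y) (qA h y') (xvA h om) ?_ ?_ ?_ ?_
    · rw [← mul_inv_eq_iff_eq_mul, g_q h s, e1]
    · rw [← mul_inv_eq_iff_eq_mul, g_q h s, e2]
    · rw [q_comm h, e3]
    · rw [inv_of h.vv, g_v h hu s, lm, ← h.vv]
      congr 1

theorem out4 [Finite G] {g x y : G} (s : Ty D true true g) (hx : x ∈ D.A) (hy : y ∈ D.A)
    (x2 : x * x = 1) (y2 : y * y = 1) (c : x * y = y * x) (x1 : x ≠ 1) (y1 : y ≠ 1) (xy : x ≠ y)
    (gx : g * x = x * g) (gy : g * y = y * g) : False := by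
  obtain ⟨a, ha, e⟩ := hg.inv x hx x2 x1
  have s1 : Ty D true true (a * g * a⁻¹) := ((TyA ha).mul h s).mul h (TyA (inv_mem ha))
  have e1 := e ▸ cj_comm (a := a) gx
  have e2 := cj_comm (a := a) gy
  obtain ⟨z, e3⟩ := unf h (cV1 hg (cjm ha hy) (e ▸ cj_comm (a := a) c.symm))
  obtain ⟨u, hu, l, m, s2⟩ := s1.nU h hg (NV_of h hg (s1.N h) e1)
  obtain ⟨w, rfl⟩ := unf h hu
  rw [e3, ← mul_inv_eq_iff_eq_mul, g_q h s2] at e2
  have k : ∀ (w z : T3) (l m : F4), 1 = l * m * pw true 1 → z.1 = 0 ∨ z.2.1 = 0 →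
      al w true true l m z = z → z = 0 ∨ z = (0, 0, 1) := by decide +kernel
  rcases k w z l m (xv_inj h ((cj e1).symm.trans (g_v h hu s2 1)))
    (sq_q h (by rw [← e3, conj_mul, y2]; group)) (q_inj h e2) with rfl | rfl
  · exact y1 (by rwa [q_zero h, conj_eq_one_iff] at e3)
  · exact xy (by rwa [← qv h, ← e, mul_left_inj, mul_right_inj, eq_comm] at e3)

end Rel

theorem par : ParStmt.{u} := fun G _ _ D h hg =>
  { AK := fun _ => AK h hg
    unf := fun _ hu => by obtain ⟨x, rfl⟩ := unf h hu; exact ⟨_, _, _, rfl⟩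
    cardU := cardU h
    syl := syl h hg.card
    invU := fun _ => invU h
    genU := fun _ => genU h
    nrmU := fun _ hJ ⟨_, h1, h2, h3⟩ => nrmU h hJ h1 h2 h3
    oddU := fun _ => oddU h hg
    stK := fun _ => stK h
    nU := fun g hN hV => by
      obtain ⟨a, b, s⟩ := exTy hg hN
      obtain ⟨u, hu, l, m, s⟩ := s.nU h hg hV
      cases a
      exacts [⟨u, hu, l, m, b, Or.inl s⟩, ⟨u, hu, l, m, b, Or.inr s⟩]
    cU := fun _ => cU h hg
    cUV := fun _ => cUV h hg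
    o3 := fun _ => o3 h hg
    comm2 := fun _ hz ⟨_, e⟩ => comm2 h hg hz e
    outinv := fun g hN h2 h1 => outinv h hg hN h2 fun e => by
      obtain ⟨a, ha, hk⟩ := mem_AK.1 e
      exact h1 a ha hk
    out4 := fun g hN g' hN' g2 g2' g3 h1 x hx y hy x2 y2 c x1 y1 xy ⟨e1, e2, e3, e4⟩ => by
      have k : ∀ {g : G}, g * g ∈ D.K → (∀ a ∈ D.A, a * g ∉ D.K) → ¬ Ty D false false g :=
        fun h2 h1 s => by
          obtain ⟨a, ha, hk⟩ := mem_AK.1
            (s.AK h (n := 1) (mem_sup_right (by rwa [pow_one, pow_two])))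
          exact h1 a ha hk
      obtain ⟨a, b, s⟩ := exTy hg hN
      obtain ⟨a', b', s'⟩ := exTy hg hN'
      have s'' := s.mul h s'
      have n1 := k g2 fun a ha => (h1 a ha).1
      have n2 := k g2' fun a ha => (h1 a ha).2.1
      have n3 := k g3 fun a ha => (h1 a ha).2.2
      have o1 := fun s => out4 h hg s hx hy x2 y2 c x1 y1 xy e1 e2
      have o2 := fun s => out4 h hg s hx hy x2 y2 c x1 y1 xy e3 e4
      have o3 := fun s => out4 h hg s hx hy x2 y2 c x1 y1 xy (Commute.mul_left e1 e3)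
        (Commute.mul_left e2 e4)
      cases a <;> cases b <;> cases a' <;> cases b' <;>
        first | exact n1 s | exact n2 s' | exact n3 s'' | exact o1 s | exact o2 s' | exact o3 s'' }

end Cfsg.Agent.H65.AL
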