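import Cfsg.Agent.H42.ACDefs
import Cfsg.Agent.H65.AlPar

/-!
# Outer involutions of `L₃(4)` in standard form
-/

set_option autoImplicit false
set_option maxRecDepth 100000
set_option synthInstance.maxSize 2000

namespace Cfsg.Agent.H65.AL

open Subgroup H28 H42.AL
open H44.AP (cj)
open scoped commutatorElement

universe u

variable {G : Type u} [Group G] {D : RD G}

theorem stf0 [Finite G] (h : D.Rel) (hg : D.Glob) {g : G} (hN : g ∈ D.N) (h2 : g * g ∈ D.K)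
    (h1 : g ∉ D.A ⊔ D.K) : ∃ a ∈ D.A, ∃ l m, l * m = 1 ∧ (D.St D (a * g * a⁻¹) l m true ∨
      D.St D.swap (a * g * a⁻¹) l m false ∨ D.St D.swap (a * g * a⁻¹) 1 1 true) := by
  obtain ⟨c, hc, e⟩ := fixInv h hg hN h2
  suffices ∃ a ∈ D.A, ∃ l m, l * m = 1 ∧ (D.St D (a * (c * g * c⁻¹) * a⁻¹) l m true ∨
      D.St D.swap (a * (c * g * c⁻¹) * a⁻¹) l m false ∨
      D.St D.swap (a * (c * g * c⁻¹) * a⁻¹) 1 1 true) by
    obtain ⟨a, ha, l, m, k⟩ := this
    exact ⟨a * c, mul_mem ha hc, l, m, by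
      rwa [show a * c * g * (a * c)⁻¹ = a * (c * g * c⁻¹) * a⁻¹ by group]⟩
  replace hN : c * g * c⁻¹ ∈ D.N := cjm (AN hc) hN
  replace h2 : c * g * c⁻¹ * (c * g * c⁻¹) ∈ D.K := by rw [conj_mul]; exact cjK (AN hc) h2
  replace h1 : c * g * c⁻¹ ∉ D.A ⊔ D.K := fun e => h1 (by
    simpa [mul_assoc] using cjm (mem_sup_left (inv_mem hc)) e)
  generalize c * g * c⁻¹ = g at *
  obtain ⟨a, b, s0⟩ := exTy hg hN
  obtain ⟨u, hu, l, m, s⟩ := s0.nU h hg (NV_of h hg hN e)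
  have lm : l * m = 1 := by
    have := xv_inj h ((cj e).symm.trans (g_v h hu s 1))
    cases b <;> simpa [pw] using this.symm
  obtain ⟨x, rfl⟩ := unf h hu
  have ab : ¬ (a = false ∧ b = false) := by
    rintro ⟨rfl, rfl⟩
    exact h1 (s0.AK h (n := 1) (mem_sup_right (by rwa [pow_one, pow_two])))
  have s2 := stMul s (stT s a)
  rw [T_T] at s2
  obtain ⟨e1, e2, e3, e4⟩ := st_triv h (g := g * g) (mul_mem hu (g_q h s x ▸ qU _ :
    g * q D x * g⁻¹ ∈ D.U)) (by convert s2 using 1; group) fun u hu => by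
      rw [commutatorElement_eq_one_iff_mul_comm.2 (Kc h2 (U_le_A h hu))]; exact one_mem _
  rw [e1, e2, e3, e4] at s2
  have k2 := stK h s2
  generalize e1 : q D x * g = g0 at s k2
  obtain rfl : g = q D (iv x) * g0 := by rw [← q_inv h, ← e1]; group
  have k : ∀ (a b : Bool) (x : T3) (l m : F4), l * m = 1 → ¬ (a = false ∧ b = false) →
      (if a then m else l) * pw b l = 1 → mu x (act a b l m x) = 0 →
      ∃ w, mu (mu w x) (act a b l m (iv w)) = 0 := by decide +kernel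
  obtain ⟨w, e5⟩ := k a b (iv x) l m lm ab e3 (q_inj h (by
    rw [q_zero h]
    refine AK h hg (qA h _) ?_
    rw [← q_mul h, ← st_q h s]
    simpa [mul_assoc] using mul_mem h2 (inv_mem k2)))
  have e6 : q D w * (q D (iv x) * g0) * (q D w)⁻¹ = g0 := by
    conv_rhs => rw [← one_mul g0, ← q_zero h, ← e5, ← q_mul h, ← q_mul h, ← st_q h s,
      ← q_inv h w]
    group
  refine ⟨_, qA h w, l, m, lm, ?_⟩
  rw [e6]
  cases a <;> cases b
  · exact absurd ⟨rfl, rfl⟩ ab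
  · exact Or.inl s
  · exact Or.inr (Or.inl s)
  · have k3 : ∀ l m : F4, l * m = 1 → m * pw true l = 1 → l = 1 ∧ m = 1 := by decide +kernel
    obtain ⟨rfl, rfl⟩ := k3 l m lm e3
    exact Or.inr (Or.inr s)

theorem stf : StfStmt.{u} := fun G _ _ D h g hN h2 h1 => by
  obtain ⟨a, ha, l, m, lm, s | s | s⟩ := stf0 h.rel h.glob hN h2 fun e => by
    obtain ⟨a, ha, hk⟩ := mem_AK.1 e
    exact h1 a ha hk
  exacts [⟨a, ha, l, m, Or.inl s⟩, ⟨a, ha, l, m, Or.inr (Or.inl ⟨s, lm⟩)⟩,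
    ⟨a, ha, 1, 1, Or.inr (Or.inr s)⟩]

end Cfsg.Agent.H65.AL
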