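import Cfsg.Agent.H65.AlU
import Cfsg.Agent.S2690
import Cfsg.Agent.S0243
import Cfsg.Agent.H26.SLBasic

/-!
# The root data of `L₃(4)`: relations and global facts
-/

set_option autoImplicit false
set_option maxRecDepth 100000
set_option synthInstance.maxSize 2000

namespace Cfsg.Agent.H65.AL

open Subgroup H28 H42.AL
open H42.AS (om)
open H44.AP (aa two0 cases4 cj zero_of sq_of inv_of)

universe u

/-- Matrices. -/
abbrev M3 : Type := Matrix (Fin 3) (Fin 3) F4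
/-- The special linear group. -/
abbrev S3 : Type := Matrix.SpecialLinearGroup (Fin 3) F4
/-- The projective group. -/
abbrev L3 : Type := Matrix.ProjectiveSpecialLinearGroup (Fin 3) F4

/-- Elementary matrices. -/
def tm (i j : Fin 3) (t : F4) : M3 :=
  Matrix.of fun a b => if a = b then 1 else if a = i ∧ b = j then t else 0

theorem det_tm : ∀ i j t, (tm i j t).det = 1 := by
  simp only [Matrix.det_fin_three]; decide +kernel

/-- Elementary matrices in the group. -/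
def tv (i j : Fin 3) (t : F4) : S3 := ⟨tm i j t, det_tm i j t⟩
/-- A reflection. -/
def n23 : S3 := ⟨!![1, 0, 0; 0, 0, 1; 0, 1, 0], by rw [Matrix.det_fin_three]; decide +kernel⟩
/-- A reflection. -/
def n12 : S3 := ⟨!![0, 1, 0; 1, 0, 0; 0, 0, 1], by rw [Matrix.det_fin_three]; decide +kernel⟩

theorem mk_eq {s s' : S3} : (s : L3) = s' ↔ ∃ c : F4, c ^ 3 = 1 ∧ s.1 = c • s'.1 := by
  rw [eq_comm, QuotientGroup.eq, Matrix.SpecialLinearGroup.mem_center_iff, Fintype.card_fin]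
  refine exists_congr fun c => and_congr_right fun _ => ⟨fun e => ?_, fun e => ?_⟩
  · have e1 : s.1 = s'.1 * (s'⁻¹ * s).1 := by
      rw [← Matrix.SpecialLinearGroup.coe_mul, mul_inv_cancel_left]
    rw [e1, ← e, Matrix.scalar_apply, ← Matrix.smul_one_eq_diagonal, mul_smul_comm, mul_one]
  · rw [Matrix.SpecialLinearGroup.coe_mul, e, mul_smul_comm, ← Matrix.SpecialLinearGroup.coe_mul,
      inv_mul_cancel, Matrix.scalar_apply, ← Matrix.smul_one_eq_diagonal]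
    rfl

variable {G : Type u} [Group G] (φ : L3 →* G)

/-- `M` is a matrix of `a`. -/
class Cd (a : G) (M : outParam M3) : Prop where
  h : ∃ s : S3, φ s = a ∧ s.1 = M

instance cdOne : Cd φ 1 1 := ⟨1, map_one _, rfl⟩

instance cdMul {a b : G} {M N : M3} [h1 : Cd φ a M] [h2 : Cd φ b N] : Cd φ (a * b) (M * N) := by
  obtain ⟨a, rfl, rfl⟩ := h1
  obtain ⟨b, rfl, rfl⟩ := h2
  exact ⟨a * b, map_mul φ (a : L3) b, rfl⟩

instance cdPow2 {a : G} {M : M3} [Cd φ a M] : Cd φ (a ^ 2) (M * M) := by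
  rw [pow_two]; infer_instance

instance cdPow3 {a : G} {M : M3} [Cd φ a M] : Cd φ (a ^ 3) (M * M * M) := by
  rw [pow_succ]; infer_instance

theorem eqc {a b : G} {M N : M3} [h1 : Cd φ a M] [h2 : Cd φ b N]
    (h : ∃ c : F4, c ^ 3 = 1 ∧ M = c • N) : a = b := by
  obtain ⟨a, rfl, rfl⟩ := h1
  obtain ⟨b, rfl, rfl⟩ := h2
  rw [mk_eq.2 h]

theorem eqc1 {a b : G} {M N : M3} [Cd φ a M] [Cd φ b N] (h : M = N) : a = b :=
  eqc φ ⟨1, one_pow _, by rw [one_smul, h]⟩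

theorem ceq (hφ : Function.Injective φ) {a b : G} {M N : M3} [h1 : Cd φ a M] [h2 : Cd φ b N]
    (h : a = b) : ∃ c : F4, c ^ 3 = 1 ∧ M = c • N := by
  obtain ⟨a, rfl, rfl⟩ := h1
  obtain ⟨b, rfl, rfl⟩ := h2
  exact mk_eq.1 (hφ h)

theorem Cd.of {a : G} {M : M3} [h : Cd φ a M] {N : M3} (e : M = N) : Cd φ a N := e ▸ h

/-- The root data. -/
def D0 : RD G where
  xe t := φ (tv 1 2 t)
  xb t := φ (tv 0 1 t)
  xv t := φ (tv 0 2 t)
  ne := φ n23
  nb := φ n12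

instance cds (s : S3) : Cd φ (φ s) s.1 := ⟨s, rfl, rfl⟩
instance cdt (i j : Fin 3) (t : F4) : Cd φ (φ (tv i j t)) (tm i j t) := ⟨_, rfl, rfl⟩
instance cde (t : F4) : Cd φ ((D0 φ).xe t) (tm 1 2 t) := ⟨_, rfl, rfl⟩
instance cdb (t : F4) : Cd φ ((D0 φ).xb t) (tm 0 1 t) := ⟨_, rfl, rfl⟩
instance cdv (t : F4) : Cd φ ((D0 φ).xv t) (tm 0 2 t) := ⟨_, rfl, rfl⟩
instance cdne : Cd φ (D0 φ).ne !![1, 0, 0; 0, 0, 1; 0, 1, 0] := ⟨_, rfl, rfl⟩
instance cdnb : Cd φ (D0 φ).nb !![0, 1, 0; 1, 0, 0; 0, 0, 1] := ⟨_, rfl, rfl⟩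
instance cdhe : Cd φ (D0 φ).he !![1, 0, 0; 0, om, 0; 0, 0, om + 1] :=
  Cd.of φ (a := (D0 φ).xe om * (D0 φ).ne * (D0 φ).xe (om ^ 2) * (D0 φ).ne * (D0 φ).xe om *
    (D0 φ).ne) (by decide +kernel)
instance cdhb : Cd φ (D0 φ).hb !![om, 0, 0; 0, om + 1, 0; 0, 0, 1] :=
  Cd.of φ (a := (D0 φ).xb om * (D0 φ).nb * (D0 φ).xb (om ^ 2) * (D0 φ).nb * (D0 φ).xb om *
    (D0 φ).nb) (by decide +kernel)
instance cdrho : Cd φ (D0 φ).rho !![om + 1, 0, 0; 0, om, 0; 0, 0, 1] :=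
  Cd.of φ (a := (D0 φ).hb * (D0 φ).hb) (by decide +kernel)

theorem nf0 : ∀ t1 t2 t3 : F4, (∃ c : F4, c ^ 3 = 1 ∧
    tm 1 2 t1 * tm 0 1 t2 * tm 0 2 t3 = c • (1 : M3)) → t1 = 0 ∧ t2 = 0 ∧ t3 = 0 := by
  decide +kernel

theorem rel (hφ : Function.Injective φ) : (D0 φ).Rel where
  ee := fun t u => eqc1 φ (by revert t u; decide +kernel)
  bb := fun t u => eqc1 φ (by revert t u; decide +kernel)
  vv := fun t u => eqc1 φ (by revert t u; decide +kernel)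
  be := fun t u => eqc1 φ (by revert t u; decide +kernel)
  bv := fun t u => eqc1 φ (by revert t u; decide +kernel)
  ev := fun t u => eqc1 φ (by revert t u; decide +kernel)
  ne2 := eqc1 φ (by decide +kernel)
  nb2 := eqc1 φ (by decide +kernel)
  neb := fun t => eqc1 φ (by revert t; decide +kernel)
  nbe := fun t => eqc1 φ (by revert t; decide +kernel)
  ne3 := eqc1 φ (by decide +kernel)
  nb3 := eqc1 φ (by decide +kernel)
  braid := eqc1 φ (by decide +kernel)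
  heb := eqc φ (by decide +kernel)
  r3 := eqc1 φ (by decide +kernel)
  re := fun t => eqc1 φ (by revert t; decide +kernel)
  rb := fun t => eqc1 φ (by revert t; decide +kernel)
  rv := fun t => eqc1 φ (by revert t; decide +kernel)
  ner := eqc φ (by decide +kernel)
  nbr := eqc1 φ (by decide +kernel)
  nf := fun t1 t2 t3 h => nf0 t1 t2 t3 (ceq φ hφ h)

theorem t21 (t : F4) : (D0 φ).ne * (D0 φ).xe t * (D0 φ).ne = φ (tv 2 1 t) :=
  eqc1 φ (by revert t; decide +kernel)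
theorem t10 (t : F4) : (D0 φ).nb * (D0 φ).xb t * (D0 φ).nb = φ (tv 1 0 t) :=
  eqc1 φ (by revert t; decide +kernel)
theorem t02 (t : F4) : (D0 φ).nb * (D0 φ).xe t * (D0 φ).nb = φ (tv 0 2 t) :=
  eqc1 φ (by revert t; decide +kernel)
theorem t20 (t : F4) : (D0 φ).ne * φ (tv 1 0 t) * (D0 φ).ne = φ (tv 2 0 t) :=
  eqc1 φ (by revert t; decide +kernel)

variable {φ}

theorem φA (s : S3) : φ s ∈ (D0 φ).A := by
  induction s using H26.sl_transvection_induction with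
  | hone => exact (map_one φ).symm ▸ one_mem _
  | hmul a b h1 h2 => exact (map_mul φ (a : L3) b).symm ▸ mul_mem h1 h2
  | htransvec i j h c =>
    have k : ∀ i j : Fin 3, i ≠ j → ∀ c, Matrix.transvection i j c = tm i j c := by decide +kernel
    rw [show Matrix.SpecialLinearGroup.transvection h c = tv i j c from Subtype.ext (k i j h c)]
    have h10 : φ (tv 1 0 c) ∈ (D0 φ).A := t10 φ c ▸ mul_mem (mul_mem nbA (xbA c)) nbA
    have k1 : ∀ i j : Fin 3, i ≠ j → (i = 0 ∧ j = 1) ∨ (i = 0 ∧ j = 2) ∨ (i = 1 ∧ j = 0) ∨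
      (i = 1 ∧ j = 2) ∨ (i = 2 ∧ j = 0) ∨ (i = 2 ∧ j = 1) := by decide
    rcases k1 i j h with ⟨rfl, rfl⟩ | ⟨rfl, rfl⟩ | ⟨rfl, rfl⟩ | ⟨rfl, rfl⟩ | ⟨rfl, rfl⟩ | ⟨rfl, rfl⟩
    exacts [xbA (D := D0 φ) c, t02 φ c ▸ mul_mem (mul_mem nbA (xeA c)) nbA, h10, xeA (D := D0 φ) c,
      t20 φ c ▸ mul_mem (mul_mem neA h10) neA, t21 φ c ▸ mul_mem (mul_mem neA (xeA c)) neA]

theorem A_eq : (D0 φ).A = φ.range := by
  refine le_antisymm (A_le (fun t => ⟨_, rfl⟩) (fun t => ⟨_, rfl⟩) ⟨_, rfl⟩ ⟨_, rfl⟩) ?_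
  rintro _ ⟨y, rfl⟩
  obtain ⟨s, rfl⟩ := QuotientGroup.mk_surjective y
  exact φA s

theorem memA {a : G} (h : a ∈ (D0 φ).A) : ∃ s : S3, φ s = a := by
  rw [A_eq] at h
  obtain ⟨y, rfl⟩ := h
  obtain ⟨s, rfl⟩ := QuotientGroup.mk_surjective y
  exact ⟨s, rfl⟩

theorem tri : ∀ d e x y z : F4, d * e * d = 1 → d ^ 3 = 1 ∧ !![d, x, y; 0, e, z; 0, 0, d] =
    d • (tm 1 2 (d ^ 2 * z) * tm 0 1 (d ^ 2 * x) * tm 0 2 (d ^ 2 * y)) := by decide +kernel

theorem centV1 (hφ : Function.Injective φ) {a : G} (ha : a ∈ (D0 φ).A)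
    (e : a * (D0 φ).xv 1 = (D0 φ).xv 1 * a) : a ∈ (D0 φ).U := by
  obtain ⟨s, rfl⟩ := memA ha
  obtain ⟨c, -, e1⟩ := ceq φ hφ e
  have hd := s.2
  rw [Matrix.det_fin_three] at hd
  have k := fun i j => congrFun (congrFun e1 i) j
  have k10 := k 1 0
  have k11 := k 1 1
  have k12 := k 1 2
  have k22 := k 2 2
  have k01 := k 0 1
  have k02 := k 0 2
  simp [tm, Matrix.mul_apply, Fin.sum_univ_three] at k10 k11 k12 k22 k01 k02
  have c1 : c = 1 := by
    by_contra hc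
    have k2 : ∀ c x : F4, c ≠ 1 → x = c * x → x = 0 := by decide +kernel
    have e10 := k2 _ _ hc k10
    have e11 := k2 _ _ hc k11
    rw [e10, zero_add] at k12
    rw [e10, e11, k2 _ _ hc k12] at hd
    simp at hd
  subst c1
  simp only [one_mul] at k12 k22 k01 k02
  have e10 : s.1 1 0 = 0 := by linear_combination k12
  have e20 : s.1 2 0 = 0 := by linear_combination k22
  have e21 : s.1 2 1 = 0 := by linear_combination -k01
  have e22 : s.1 2 2 = s.1 0 0 := by linear_combination -k02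
  rw [e10, e20, e21, e22] at hd
  obtain ⟨h1, h2⟩ := tri (s.1 0 0) (s.1 1 1) (s.1 0 1) (s.1 0 2) (s.1 1 2) (by linear_combination hd)
  have e3 := Matrix.eta_fin_three s.1
  rw [e10, e20, e21, e22, h2] at e3
  rw [eqc φ (a := φ s) (b := (D0 φ).xe _ * (D0 φ).xb _ * (D0 φ).xv _) ⟨_, h1, e3⟩]
  exact qU (_, _, _)

theorem sigma_pw (σ : F4 ≃+* F4) : ∃ fr, ∀ t, σ t = pw fr t := by
  have k : ∀ fr, σ om = pw fr om → ∀ t, σ t = pw fr t := fun fr e t => by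
    rcases cases4 t with rfl | rfl | rfl | rfl
    · rw [map_zero]; cases fr <;> decide +kernel
    · rw [map_one]; cases fr <;> decide +kernel
    · exact e
    · rw [map_pow, e]; cases fr <;> decide +kernel
  rcases cases4 (σ om) with e | e | e | e
  · exact absurd (σ.map_eq_zero_iff.1 e) (by decide)
  · exact absurd (σ.injective (e.trans (map_one σ).symm)) (by decide)
  exacts [⟨false, k _ e⟩, ⟨true, k _ e⟩]

theorem inn_diag {δ : MulAut L3} (hδ : IsInnerDiagonalAutPSL δ) : ∃ d : F4, d ≠ 0 ∧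
    ∀ W : M3, W.det = d → ∃ a : L3, ∀ s s' : S3, W * s.1 = s'.1 * W → a * δ s * a⁻¹ = s' := by
  obtain ⟨g, hg⟩ := hδ
  have e : g.1.det * g⁻¹.1.det = 1 := by rw [← Matrix.det_mul, Units.mul_inv, Matrix.det_one]
  refine ⟨g.1.det, left_ne_zero_of_mul_eq_one e, fun W hW => ?_⟩
  obtain ⟨a, ha⟩ : ∃ a : S3, a.1 = W * g⁻¹.1 := ⟨⟨_, by rw [Matrix.det_mul, hW, e]⟩, rfl⟩
  refine ⟨a, fun s s' e1 => ?_⟩
  obtain ⟨b, hb⟩ : ∃ b : S3, b.1 = g.1 * s.1 * g⁻¹.1 :=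
    ⟨⟨_, by rw [Matrix.det_mul, Matrix.det_mul, s.2, mul_one, e]⟩, rfl⟩
  have e2 : a * b = s' * a := Subtype.ext (by
    change a.1 * b.1 = s'.1 * a.1
    rw [ha, hb, ← mul_assoc s'.1, ← e1, mul_assoc W, ← mul_assoc g⁻¹.1, ← mul_assoc g⁻¹.1,
      Units.inv_mul, one_mul, mul_assoc])
  rw [hg s b hb, mul_inv_eq_iff_eq_mul, ← QuotientGroup.mk_mul, ← QuotientGroup.mk_mul, e2]

theorem det_w : ∀ d : F4, (!![0, 0, d; 0, 1, 0; 1, 0, 0] : M3).det = d := by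
  simp only [Matrix.det_fin_three]; decide +kernel

theorem tm_sq : ∀ i j t, tm i j t * tm i j t = 1 ∧ tm j i t = (tm i j t).transpose := by
  decide +kernel

theorem aut0 (θ : MulAut L3) : ∃ (a : L3) (d : F4) (fr : Bool), d ≠ 0 ∧
    ((∀ i j t i' j' t', !![d, 0, 0; 0, 1, 0; 0, 0, 1] * tm i j (pw fr t) =
      tm i' j' t' * !![d, 0, 0; 0, 1, 0; 0, 0, 1] → a * θ (tv i j t) * a⁻¹ = tv i' j' t') ∨
    (∀ i j t i' j' t', !![0, 0, d; 0, 1, 0; 1, 0, 0] * tm j i (pw fr t) =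
      tm i' j' t' * !![0, 0, d; 0, 1, 0; 1, 0, 0] → a * θ (tv i j t) * a⁻¹ = tv i' j' t')) := by
  have : Fact (Nat.Prime 2) := ⟨Nat.prime_two⟩
  obtain ⟨δ, f, γ, σ, hδ, hf, hγ, rfl⟩ := S2690.result (p := 2) (f := 2) card_F4 (by norm_num)
    (by norm_num) (by norm_num) θ
  obtain ⟨d, d0, hd⟩ := inn_diag hδ
  obtain ⟨fr, hσ⟩ := sigma_pw σ
  have k : ∀ i j t, f (tv i j t) = tv i j (pw fr t) := fun i j t => hf _ _
    (Matrix.ext fun a b => by simp [tv, tm, apply_ite σ, ← hσ])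
  rcases hγ with rfl | hγ
  · obtain ⟨a, ha⟩ := hd !![d, 0, 0; 0, 1, 0; 0, 0, 1] (by simp [Matrix.det_fin_three])
    exact ⟨a, d, fr, d0, Or.inl fun i j t i' j' t' e => by
      rw [mul_one, MulAut.mul_apply, k]; exact ha (tv i j _) (tv i' j' t') e⟩
  · obtain ⟨a, ha⟩ := hd _ (det_w d)
    have k2 : ∀ i j t, γ (tv i j t) = tv j i t := fun i j t => hγ _ _ (by
      rw [show (tv i j t)⁻¹ = tv i j t from inv_eq_of_mul_eq_one_right (Subtype.ext (tm_sq i j t).1)]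
      exact (tm_sq i j t).2)
    exact ⟨a, d, fr, d0, Or.inr fun i j t i' j' t' e => by
      rw [MulAut.mul_apply, MulAut.mul_apply, k2, k]; exact ha (tv j i _) (tv i' j' t') e⟩

theorem out0 (hφ : Function.Injective φ) {g : G} (hg : g ∈ (D0 φ).N) : ∃ a ∈ (D0 φ).A, ∃ l m fr,
    (D0 φ).St (D0 φ) (a * g) l m fr ∨ (D0 φ).St (D0 φ).swap (a * g) l m fr := by
  rw [RD.N, A_eq] at hg
  let ε : L3 ≃* φ.range := φ.ofInjective hφ
  let θ : MulAut L3 := (ε.trans (φ.range.normalizerMonoidHom ⟨g, hg⟩)).trans ε.symm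
  have hθ : ∀ y, φ (θ y) = g * φ y * g⁻¹ := fun y =>
    congrArg Subtype.val (ε.apply_symm_apply (φ.range.normalizerMonoidHom ⟨g, hg⟩ (ε y)))
  have key : ∀ {a y z}, a * θ y * a⁻¹ = z → φ a * g * φ y * (φ a * g)⁻¹ = φ z := fun e => by
    rw [← e, map_mul, map_mul, map_inv, hθ]; group
  obtain ⟨a, d, fr, d0, h | h⟩ := aut0 θ
  · refine ⟨φ a, A_eq (φ := φ) ▸ ⟨a, rfl⟩, 1, d, fr, Or.inl ⟨one_ne_zero, d0,
      fun t => key (h _ _ _ _ _ _ ?_), fun t => key (h _ _ _ _ _ _ ?_),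
      fun t => key (h _ _ _ _ _ _ ?_),
      fun t => (t21 φ t).symm ▸ (key (h _ _ _ _ _ _ ?_)).trans (t21 φ _).symm,
      fun t => (t10 φ t).symm ▸ (key (h _ _ _ _ _ _ ?_)).trans (t10 φ _).symm⟩⟩ <;>
    · clear h; revert d0; revert t d fr; decide +kernel
  · refine ⟨φ a, A_eq (φ := φ) ▸ ⟨a, rfl⟩, d, 1, fr, Or.inr ⟨d0, one_ne_zero,
      fun t => key (h _ _ _ _ _ _ ?_), fun t => key (h _ _ _ _ _ _ ?_),
      fun t => key (h _ _ _ _ _ _ ?_),
      fun t => (t21 φ t).symm ▸ (key (h _ _ _ _ _ _ ?_)).trans (t10 φ _).symm,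
      fun t => (t10 φ t).symm ▸ (key (h _ _ _ _ _ _ ?_)).trans (t21 φ _).symm⟩⟩ <;>
    · clear h; revert d0; revert t d fr; decide +kernel

theorem card_L3 : Nat.card L3 = 20160 := by
  have := S0243.result card_F4 3 (by norm_num)
  change _ * (_ * Nat.card L3) = _ at this
  generalize Nat.card L3 = n at this
  simp [Fin.prod_univ_three] at this
  omega

theorem glob [Finite G] (hφ : Function.Injective φ) : (D0 φ).Glob := by
  have h := rel φ hφ
  have hc : Nat.card (D0 φ).A = 20160 := by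
    rw [A_eq, ← card_L3]
    exact Nat.card_congr (φ.ofInjective hφ).symm.toEquiv
  refine ⟨?_, hc, fun a ha => inv_of_card h hc ha, fun t ht a ha e => ?_,
    fun a ha => normV_of h (fun a ha => centV1 hφ ha) ha, fun g => out0 hφ⟩
  · have : IsSimpleGroup L3 := H26.psl_isSimpleGroup (Or.inl (by simp))
    rw [A_eq]
    exact (φ.ofInjective hφ).symm.isSimpleGroup
  · obtain ⟨i, e1⟩ := to_one h ht
    have h1 := centV1 hφ (cjm (pow_mem rhoA i) ha) (by rw [← e1, conj_mul, conj_mul, e])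
    simpa [mul_assoc] using (P_rho h i).inv.cU h h1

theorem fact : FactStmt.{u} := fun G _ _ A ⟨ε⟩ => by
  have hφ : Function.Injective (A.subtype.comp ε.symm.toMonoidHom) :=
    A.subtype_injective.comp ε.symm.injective
  refine ⟨D0 (A.subtype.comp ε.symm.toMonoidHom), ?_, rel _ hφ, glob hφ⟩
  rw [A_eq, MonoidHom.range_comp, MonoidHom.range_eq_top.2 ε.symm.surjective,
    ← MonoidHom.range_eq_map, range_subtype]

end Cfsg.Agent.H65.AL
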