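import Cfsg.Agent.H65.AcU

/-!
# Covers of `L₃(4)` with centre of odd order: the facts `Fa'`
-/

set_option autoImplicit false
set_option linter.unusedSectionVars false
set_option maxRecDepth 100000
set_option synthInstance.maxSize 2000

namespace Cfsg.Agent.H65.AC

open Subgroup H28 H42.AL H65.AL
open H42.AS (om)
open H44.AP (cj zero_of sq_of inv_of)
open scoped commutatorElement

universe u

variable {G H : Type u} [Group G] [Group H] {D : RD G} {B : RD H} {p : G → H} {χ : F4 → G}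

theorem OI_of (h : D.Rel') {g x y a : G} (hx : x ∈ D.A) (hy : y ∈ D.A) (ha : a ∈ D.A)
    (e1 : g * x * g⁻¹ = x) (e2 : g * y * g⁻¹ = y) (e3 : ⁅x, y⁆ = D.xv 1)
    (e4 : a * (g * a⁻¹ * g⁻¹) = D.xv 1) : OI D g :=
  ⟨x, hx, y, hy, a, ha, mul_inv_eq_iff_eq_mul.1 e1, mul_inv_eq_iff_eq_mul.1 e2,
    fun e => one_ne_zero (xv_ne h (e3 ▸ e)), e3 ▸ sq_of h.vv 1, by rw [e3, ← e4]; group⟩

theorem U2 (h : D.Rel') {u : G} (hu : u ∈ D.U) : u ^ 2 ^ 6 = 1 := by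
  rw [show 2 ^ 6 = Nat.card D.U from (cardU h).symm]
  exact orderOf_dvd_iff_pow_eq_one.1 (orderOf_dvd_natCard _ hu)

theorem OI_fr (h : D.Rel') {g : G} {sw : Bool} {l m : F4} (lm : l * m = 1)
    (s : D.St (T D sw) g l m true) (e : sw = true → l = 1) : OI D g := by
  have k : ∀ (sw : Bool) (l m : F4), l * m = 1 → (sw = true → l = 1) → ∃ y y' : T3,
      act sw true l m y = y ∧ act sw true l m y' = y' ∧ be y y' = 1 := by decide +kernel
  obtain ⟨y, y', e1, e2, e3⟩ := k sw l m lm e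
  refine OI_of h (qA h y) (qA h y') (xvA h om) (by rw [st_q h s, e1]) (by rw [st_q h s, e2])
    (by rw [q_comm h, e3]) ?_
  rw [inv_of h.vv, s.v, T_v, lm, ← h.vv]
  congr 1

theorem OI_sw (h : D.Rel') {g : G} {l m : F4} (lm : l * m = 1) (hN : g ∈ D.N) (h2 : g * g ∈ D.K)
    (s : D.St D.swap g l m false) (r : D.St D D.rho om om false) : OI D g := by
  have k1 : ∀ l m : F4, l * m = 1 → ∃ w, mu w (act true false l m (iv w)) = (0, 0, 1) := by
    decide +kernel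
  obtain ⟨w, e4⟩ := k1 l m lm
  have s1 := stMul (stMul (stMul (stInv (stSwap s)) (stSwap r)) (stSwap s)) (stInv r)
  have k2 : ∀ a : F4, a ≠ 0 →
      pw false (om ^ 2) * pw false (a * pw false (om * pw false (pw false (a ^ 2)))) = 1 := by
    decide +kernel
  rw [k2 _ s.l0, k2 _ s.m0] at s1
  have hk : D.rho⁻¹ * (g * (D.rho * g⁻¹)) ∈ D.K := stK h s1
  have e : g * D.rho * g⁻¹ = D.rho * (D.rho⁻¹ * (g * (D.rho * g⁻¹))) := by group
  generalize D.rho⁻¹ * (g * (D.rho * g⁻¹)) = z at hk e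
  refine OI_of h (mul_mem rhoA (cjA hN rhoA)) (xvA h om) (qA h w) ?_ ?_ ?_ ?_
  · rw [← conj_mul, show g * (g * D.rho * g⁻¹) * g⁻¹ = g * g * D.rho * (g * g)⁻¹ by group,
      cj (Kc h2 rhoA), e, mul_assoc, Kc hk rhoA]
  · rw [s.v, lm, one_mul]; rfl
  · rw [e, commutatorElement_def, show D.rho * (D.rho * z) * D.xv om * (D.rho * (D.rho * z))⁻¹ =
      D.rho * (D.rho * (z * D.xv om * z⁻¹) * D.rho⁻¹) * D.rho⁻¹ by group, cj (Kc hk (xvA h _)),
      cj (h.rv _), cj (h.rv _), inv_of h.vv, ← h.vv]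
    congr 1
  · rw [q_inv h, st_q h (sw := true) s, q_mul h, e4, qv h]

/-- The image of a subgroup of `N`. -/
def im {A : Subgroup G} {A' : Subgroup H} (C : Cov A A' p) (J : Subgroup G) : Subgroup H :=
  (J.subgroupOf (normalizer (A : Set G))).map C.hom

variable (L : Lf D B p χ)
include L

theorem mem_im {J : Subgroup G} (hJ : J ≤ D.N) {y : H} : y ∈ im L.cov J ↔ ∃ a ∈ J, p a = y :=
  ⟨fun ⟨a, ha, e⟩ => ⟨a, ha, e⟩, fun ⟨a, ha, e⟩ => ⟨⟨a, hJ ha⟩, ha, e⟩⟩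

theorem pm {a b : G} (ha : a ∈ D.N) (hb : b ∈ D.N) : p (a * b) = p a * p b := L.cov.mul a ha b hb

theorem pq (x : T3) : p (q D x) = q B x := by
  rw [q, pm L (AN (mul_mem (xeA _) (xbA _))) (AN (cj (L.nbe _) ▸ cjm nbA (xeA _))),
    pm L (AN (xeA _)) (AN (xbA _)), L.pe, L.pb, L.pv, q]

theorem prho : p D.rho = B.rho := by
  have : p D.hb = B.hb := by
    have b : ∀ t, D.xb t ∈ D.N := fun t => AN (xbA t)
    have n : D.nb ∈ D.N := AN nbA
    rw [RD.hb, RD.hb, pm L _ n, pm L _ (b _), pm L _ n, pm L _ (b _), pm L (b _) n, L.pb, L.pb,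
      L.pnb] <;> apply_rules [mul_mem]
  rw [RD.rho, pm L (AN hbA) (AN hbA), this, RD.rho]

theorem lift {y : H} (hy : y ∈ B.A) : ∃ a ∈ D.A, p a = y := (L.cov.img y).1 hy

theorem liftU {y : H} (hy : y ∈ B.U) : ∃ a ∈ D.U, p a = y := by
  obtain ⟨x, rfl⟩ := AL.unf L.fa.rel hy
  exact ⟨_, qU x, pq L x⟩

theorem K1 {y : H} (hy : y ∈ B.K) : y = 1 := L.cov.eq_one hy

theorem toK {g : G} (hg : g ∈ D.N) (e : p g ∈ B.K) : g ∈ D.K := (L.cov.ker g hg).1 (K1 L e)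

theorem ofK {g : G} (hg : g ∈ D.N) (e : g * g ∈ D.K) : p g * p g ∈ B.K := by
  rw [← pm L hg hg, L.cov.K e]; exact one_mem _

theorem pc {a b : G} (ha : a ∈ D.N) (hb : b ∈ D.N) (e : a * b = b * a) :
    p a * p b = p b * p a := by rw [← pm L ha hb, e, pm L hb ha]

theorem eqK {a b : G} (ha : a ∈ D.N) (hb : b ∈ D.N) (e : p a = p b) : ∃ k ∈ D.K, b = a * k :=
  ⟨_, (L.cov.eq_iff ha hb).1 e, by group⟩

theorem pout {g : G} (hg : g ∈ D.N) (e : ∀ a ∈ D.A, a * g ∉ D.K) : ∀ a ∈ B.A, a * p g ∉ B.K :=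
  fun y hy hk => by
    obtain ⟨a, ha, rfl⟩ := lift L hy
    exact e a ha (toK L (mul_mem (AN ha) hg) (pm L (AN ha) hg ▸ hk))

theorem pst {g : G} (hg : g ∈ D.N) {l m : F4} {fr : Bool}
    (s : B.St B (p g) l m fr ∨ B.St B.swap (p g) l m fr) :
    D.St D g l m fr ∨ D.St D.swap g l m fr := s.imp (L.st g hg _ _ _) (L.st' g hg _ _ _)

variable (hχ : ∀ x, χ x = 1)
include hχ

theorem rel : D.Rel' :=
  { L with
    be := fun t u => by simpa [hχ] using L.be t u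
    bv := fun t u => by simpa [hχ] using (L.vb u t).symm
    ev := fun t u => by simpa [hχ] using (L.ve u t).symm
    nf := fun a b c e => L.fa.rel.nf a b c
      ((pq L (a, b, c)).symm.trans ((congrArg p e).trans L.cov.one)) }

theorem gen1 {z : G} (hz : z ∈ D.A) (hk : z ∈ D.K) {n : ℕ} (e : z ^ 2 ^ n = 1) : z = 1 :=
  mem_bot.1 ((closure_le ⊥).2 (by rintro _ ⟨x, rfl⟩; exact hχ x) (L.gen z hz hk n e))

theorem eq2 {a b : G} (ha : a ∈ D.A) (hb : b ∈ D.A) {n m : ℕ} (e1 : a ^ 2 ^ n = 1)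
    (e2 : b ^ 2 ^ m = 1) (e : p a = p b) : a = b := by
  obtain ⟨k, hk, rfl⟩ := eqK L (AN ha) (AN hb) e
  rw [gen1 L hχ ((mul_mem_cancel_left ha).1 hb) hk (n := n + m) ?_, mul_one]
  have c : Commute a k := (Kc hk ha).symm
  have := c.mul_pow (2 ^ (n + m))
  rwa [pow_add, pow_mul a, e1, one_pow, one_mul, mul_comm (2 ^ n), pow_mul (a * k), e2, one_pow,
    mul_comm (2 ^ m), ← pow_add, eq_comm] at this

theorem pU {u : G} (hu : u ∈ D.U) : p u ∈ B.U := by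
  obtain ⟨x, rfl⟩ := unf (rel L hχ) hu
  exact pq L x ▸ qU x

theorem pV {u : G} (hu : u ∈ D.V) : p u ∈ B.V := by
  obtain ⟨x, rfl⟩ := (mem_V (rel L hχ)).1 hu
  exact L.pv x ▸ xvV x

theorem UN {u : G} (hu : u ∈ D.U) : u ∈ D.N := AN (U_le_A (rel L hχ) hu)

theorem UK {a : G} (ha : a ∈ D.N) (e : p a ∈ B.U) : ∃ u ∈ D.U, ∃ k ∈ D.K, a = u * k := by
  obtain ⟨u, hu, e⟩ := liftU L e
  exact ⟨u, hu, eqK L (UN L hχ hu) ha e⟩

theorem toU {a : G} (ha : a ∈ D.A) {n : ℕ} (e1 : a ^ 2 ^ n = 1) (e : p a ∈ B.U) : a ∈ D.U := by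
  obtain ⟨u, hu, e⟩ := liftU L e
  exact eq2 L hχ (U_le_A (rel L hχ) hu) ha (U2 (rel L hχ) hu) e1 e ▸ hu

variable [Finite G] [Finite H]

theorem pNV {g : G} (hg : g ∈ D.N) (hV : g ∈ normalizer (D.V : Set G)) :
    p g ∈ normalizer (B.V : Set H) := mem_normalizer_fintype fun v hv => by
  obtain ⟨t, rfl⟩ := (AL.mem_V L.fa.rel).1 hv
  rw [← L.pv, ← L.cov.cj hg (UN L hχ (xvU t))]
  exact pV L hχ ((mem_normalizer_iff.1 hV _).1 (xvV t))

theorem glob : D.Glob' where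
  qs := fun _ => H42.AC.qs L.cov.std
  perf := H42.AC.perf L.cov.std
  inv := fun a ha e h1 => by
    have e2 : a ^ 2 ^ 1 = 1 := by rwa [pow_one, pow_two]
    obtain ⟨z, hz, e1⟩ := L.fa.glob.inv (p a) (L.cov.memB ha)
      (by rw [← pm L (AN ha) (AN ha), e, L.cov.one])
      fun e1 => h1 (gen1 L hχ ha ((L.cov.ker a (AN ha)).1 e1) e2)
    obtain ⟨y, hy, rfl⟩ := lift L hz
    refine ⟨y, hy, eq2 L hχ (cjm hy ha) (xvA (rel L hχ) 1) (n := 1) ?_ (U2 (rel L hχ) (xvU 1)) ?_⟩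
    · rw [conj_pow, e2]; group
    · rw [L.cov.cj (AN hy) (AN ha), e1, L.pv]
  centV := fun t ht a ha e => UK L hχ (AN ha) (L.fa.glob.centV t ht _ (L.cov.memB ha)
    (L.pv t ▸ pc L (AN ha) (UN L hχ (xvU t)) e))
  normV := fun a ha hV => by
    obtain ⟨i, e⟩ := L.fa.glob.normV _ (L.cov.memB ha) (pNV L hχ (AN ha) hV)
    refine ⟨i, UK L hχ (AN (mul_mem ha (pow_mem rhoA i))) ?_⟩
    rwa [pm L (AN ha) (AN (pow_mem rhoA i)), L.cov.pow (AN rhoA), prho L]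
  out := fun g hg => by
    obtain ⟨y, hy, l, m, fr, s⟩ := L.fa.glob.out (p g) (L.cov.allN _)
    obtain ⟨a, ha, rfl⟩ := lift L hy
    exact ⟨a, ha, l, m, fr, pst L (mul_mem (AN ha) hg) (pm L (AN ha) hg ▸ s)⟩

theorem syl : H8.IsSylowIn 2 D.U D.A := by
  refine H8.isSylowIn_of_maximal (U_le_A (rel L hχ)) (IsPGroup.of_card (n := 6)
    (cardU (rel L hχ))) fun Q hQ h1 h2 a ha => ?_
  have hN : Q ≤ D.N := fun _ h => AN (h1 h)
  obtain ⟨n, e⟩ := hQ ⟨a, ha⟩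
  refine toU L hχ (h1 ha) (n := n) (congrArg Subtype.val e) ?_
  rw [← L.fa.par.syl.eq_of_le (Q := im L.cov Q) (hQ.comap_subtype.map _) (fun y hy => by
    obtain ⟨a, ha, rfl⟩ := (mem_im L hN).1 hy
    exact L.cov.memB (h1 ha)) fun y hy => by
      obtain ⟨a, ha, rfl⟩ := liftU L hy
      exact (mem_im L hN).2 ⟨a, h2 ha, rfl⟩]
  exact (mem_im L hN).2 ⟨a, ha, rfl⟩

theorem oddU {J : Subgroup G} (hJ : J ≤ D.A) (ho : Odd (Nat.card J))
    (hn : D.U ≤ normalizer (J : Set G)) : J ≤ D.K := fun a ha => by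
  have hN : J ≤ D.N := fun _ h => AN (hJ h)
  have := L.fa.par.oddU (im L.cov J) (fun y hy => by
    obtain ⟨a, ha, rfl⟩ := (mem_im L hN).1 hy
    exact L.cov.memB (hJ ha)) (ho.of_dvd_nat ((card_map_dvd _ _).trans
      (card_comap_dvd_of_injective _ _ Subtype.val_injective))) fun y hy => by
        obtain ⟨u, hu, rfl⟩ := liftU L hy
        refine mem_normalizer_fintype fun y hy => ?_
        obtain ⟨a, ha, rfl⟩ := (mem_im L hN).1 hy
        exact (mem_im L hN).2 ⟨_, (mem_normalizer_iff.1 (hn hu) a).1 ha,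
          L.cov.cj (UN L hχ hu) (hN ha)⟩
  exact (L.cov.ker a (hN ha)).1 (mem_bot.1 (this ▸ (mem_im L hN).2 ⟨a, ha, rfl⟩))

theorem o3 {g : G} (hN : g ∈ D.N) (h3 : g ^ 3 = 1) (e : g * D.xv 1 = D.xv 1 * g) :
    g ∈ D.K ∨ D.U ≤ ⁅zpowers g, D.U⁆ := by
  have e1 : p g * B.xv 1 = B.xv 1 * p g := L.pv 1 ▸ pc L hN (UN L hχ (xvU 1)) e
  refine (L.fa.par.o3 (p g) (L.cov.allN _) (L.cov.two hN h3) e1).imp (toK L hN) fun k u hu => ?_
  have h := rel L hχ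
  have hg : zpowers g ≤ normalizer (D.U : Set G) :=
    zpowers_le.2 (mem_normalizer_fintype fun u hu => toU L hχ (cjA hN (U_le_A h hu)) (n := 6)
      (by rw [conj_pow, U2 h hu]; group) (by
        rw [L.cov.cj hN (UN L hχ hu)]
        exact cV1 L.fa.glob (cjA (L.cov.allN _) (L.cov.memB (U_le_A h hu)))
          (cj e1 ▸ cj_comm (Uv L.fa.rel (pU L hχ hu) 1))))
  have h1 : ⁅zpowers g, D.U⁆ ≤ D.U := commutator_le.2 fun x hx u hu =>
    mul_mem ((mem_normalizer_iff.1 (hg hx) u).1 hu) (inv_mem hu)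
  have hN' : ⁅zpowers g, D.U⁆ ≤ D.N := fun _ h => UN L hχ (h1 h)
  have h2 : ⁅zpowers (p g), B.U⁆ ≤ im L.cov ⁅zpowers g, D.U⁆ := commutator_le.2 fun x hx y hy => by
    obtain ⟨n, rfl⟩ := mem_powers_iff_mem_zpowers.2 hx
    obtain ⟨u, hu, rfl⟩ := liftU L hy
    exact (mem_im L hN').2 ⟨_, commutator_mem_commutator (pow_mem (mem_zpowers g) n) hu, by
      rw [L.cov.cm (pow_mem hN n) (UN L hχ hu), L.cov.pow hN]⟩
  obtain ⟨w, hw, e2⟩ := (mem_im L hN').1 (h2 (k (pU L hχ hu)))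
  exact eq2 L hχ (U_le_A h (h1 hw)) (U_le_A h hu) (U2 h (h1 hw)) (U2 h hu) e2 ▸ hw

theorem outinv {g : G} (hN : g ∈ D.N) (h2 : g * g ∈ D.K) (h1 : ∀ a ∈ D.A, a * g ∉ D.K) :
    OI D g := by
  obtain ⟨y, hy, l, m, lm, s⟩ := stf0 L.fa.rel L.fa.glob (L.cov.allN _) (ofK L hN h2) fun e => by
    obtain ⟨a, ha, hk⟩ := mem_AK.1 e
    exact pout L hN h1 a ha hk
  obtain ⟨a, ha, rfl⟩ := lift L hy
  rw [← L.cov.cj (AN ha) hN] at s
  have hN' := cjm (AN ha) hN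
  refine OI.conj ha ?_
  rcases s with s | s | s
  · exact OI_fr (rel L hχ) (sw := false) lm (L.st _ hN' _ _ _ s) nofun
  · exact OI_sw (rel L hχ) lm hN' (by rw [conj_mul]; exact cjK (AN ha) h2) (L.st' _ hN' _ _ _ s)
      (L.st _ (AN rhoA) _ _ _ (prho L ▸ st_rho L.fa.rel))
  · exact OI_fr (rel L hχ) (sw := true) (mul_one 1) (L.st' _ hN' _ _ _ s) fun _ => rfl

theorem par0 : D.Par' :=
  have h := rel L hχ
  { AKo := fun a ha hk => by
      obtain ⟨n, d, hd, e⟩ := Nat.exists_eq_two_pow_mul_odd (orderOf_pos a).ne'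
      exact hd.of_dvd_nat (orderOf_dvd_of_pow_eq_one (gen1 L hχ (pow_mem ha d) (pow_mem hk d)
        (n := n) (by rw [← pow_mul, mul_comm, ← e, pow_orderOf_eq_one])))
    AK := fun _ ha hk _ => gen1 L hχ ha hk
    unf := fun _ hu => by obtain ⟨x, rfl⟩ := unf h hu; exact ⟨_, _, _, rfl⟩
    cardU := cardU h
    syl := syl L hχ
    invU := fun _ => invU h
    genU := fun _ => genU h
    nrmU := fun _ hJ ⟨_, h1, h2, h3⟩ => nrmU h hJ h1 h2 h3
    oddU := fun _ => oddU L hχ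
    stK := fun _ => stK h
    nU := fun g hN hV => by
      obtain ⟨y, hy, l, m, fr, s⟩ := L.fa.par.nU (p g) (L.cov.allN _) (pNV L hχ hN hV)
      obtain ⟨u, hu, rfl⟩ := liftU L hy
      exact ⟨u, hu, l, m, fr, pst L (mul_mem (UN L hχ hu) hN) (pm L (UN L hχ hu) hN ▸ s)⟩
    cU := fun g hN hc => by
      obtain ⟨t, k, hk, e⟩ := L.fa.par.cU (p g) (L.cov.allN _) fun y hy => by
        obtain ⟨u, hu, rfl⟩ := liftU L hy
        exact pc L hN (UN L hχ hu) (hc u hu)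
      exact ⟨t, eqK L (UN L hχ (xvU t)) hN (by rw [e, K1 L hk, mul_one, L.pv])⟩
    cUV := fun g hN hc => by
      obtain ⟨u, hu, k, hk, e⟩ := L.fa.par.cUV (p g) (L.cov.allN _) fun y hy => by
        obtain ⟨u, hu, rfl⟩ := liftU L hy
        exact L.cov.cm hN (UN L hχ hu) ▸ pV L hχ (hc u hu)
      exact UK L hχ hN (by rwa [e, K1 L hk, mul_one])
    o3 := fun _ => o3 L hχ
    comm2 := fun z hz ⟨n, e⟩ => by
      have hN : z ∈ D.N := commutator_le_self _ hz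
      obtain ⟨a, ha, k, hk, e⟩ := L.fa.par.comm2 (p z) (L.cov.comm hz) ⟨n, L.cov.two hN e⟩
      exact (L.cov.inn hN).1 (by rwa [e, K1 L hk, mul_one])
    outinv := fun _ => outinv L hχ
    out4 := fun g hN g' hN' g2 g2' g3 h1 x hx y hy x2 y2 c x1 y1 xy ⟨e1, e2, e3, e4⟩ => by
      have k : ∀ {x : G}, x * x = 1 → x ^ 2 ^ 1 = 1 := fun e => by rwa [pow_one, pow_two]
      have k1 : ∀ {x : G}, x ∈ D.A → x * x = 1 → p x * p x = 1 := fun hx e => by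
        rw [← pm L (AN hx) (AN hx), e, L.cov.one]
      have k2 : ∀ {x : G}, x ∈ D.A → x * x = 1 → x ≠ 1 → p x ≠ 1 := fun hx e e1 e2 =>
        e1 (gen1 L hχ hx ((L.cov.ker _ (AN hx)).1 e2) (k e))
      exact L.fa.par.out4 (p g) (L.cov.allN _) (p g') (L.cov.allN _) (ofK L hN g2) (ofK L hN' g2')
        (pm L hN hN' ▸ ofK L (mul_mem hN hN') g3) (fun a ha =>
          ⟨pout L hN (fun a ha => (h1 a ha).1) a ha, pout L hN' (fun a ha => (h1 a ha).2.1) a ha,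
            pm L hN hN' ▸ pout L (mul_mem hN hN') (fun a ha => (h1 a ha).2.2) a ha⟩)
        _ (L.cov.memB hx) _ (L.cov.memB hy) (k1 hx x2) (k1 hy y2) (pc L (AN hx) (AN hy) c)
        (k2 hx x2 x1) (k2 hy y2 y1) (fun e => xy (eq2 L hχ hx hy (k x2) (k y2) e))
        ⟨pc L hN (AN hx) e1, pc L hN (AN hy) e2, pc L hN' (AN hx) e3, pc L hN' (AN hy) e4⟩ }

omit L hχ in
theorem par' : ParStmt'.{u} := fun _ _ _ _ _ _ _ _ _ _ L hχ =>
  ⟨rel L hχ, glob L hχ, par0 L hχ⟩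

end Cfsg.Agent.H65.AC
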