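import Cfsg.Agent.H19.S93Kit

/-!
# S93Q-MID: the context passes to the quotient `N(O) / O`
-/

set_option autoImplicit false
open scoped Pointwise commutatorElement
open Subgroup

namespace Cfsg.Agent.H65.S93Mid
open Cfsg.Agent.H8 Cfsg.Agent.H46.S95 Cfsg.Agent.H19.S93Q

universe u

local notation "C[" A "]" => Subgroup.centralizer (SetLike.coe A)
local notation "N[" A "]" => Subgroup.normalizer (SetLike.coe A)

variable {Γ Δ : Type} [Group Γ] [Group Δ] {G : Type u} [Group G] {p : Δ →* Γ} {φ : Δ →* G} {t : G}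
  {O : Subgroup G} {H : Type u} [Group H] {π : N[O] →* H} {ψ : Γ →* H}

theorem key (h : Cx φ t O) (q : Qt p φ O π ψ) {s : N[O]} (hs : (s : G) = t) (c : N[O])
    (e : π c * π s = π s * π c) : (c : G) * t = t * c := by
  have m : (c : G) * t * (c : G)⁻¹ * t⁻¹ ∈ O := by
    have := (q.ker (c * s * c⁻¹ * s⁻¹)).1 (by
      rw [map_mul, map_mul, map_mul, map_inv, map_inv, e]; group)
    simpa [hs] using this
  obtain ⟨o, ho⟩ : ∃ o, o = (c : G) * t * (c : G)⁻¹ * t⁻¹ := ⟨_, rfl⟩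
  rw [← ho] at m
  have e1 : (c : G) * t * (c : G)⁻¹ = o * t := by rw [ho]; group
  have e2 : o * o = 1 := by
    have : (o * t) * (o * t) = 1 := by
      rw [← e1, conj_mul, h.tt]; group
    rwa [mul_assoc, ← mul_assoc t, ← h.Ot o m, mul_assoc o t t, h.tt, mul_one] at this
  rw [h.o_sq m e2, one_mul] at e1
  exact mul_inv_eq_iff_eq_mul.1 e1

theorem cx (h : Cx φ t O) (q : Qt p φ O π ψ) {s : N[O]} (hs : (s : G) = t) : Cx ψ (π s) ⊥ where
  inj := q.inj
  tt := by
    rw [← map_mul, show s * s = 1 from Subtype.ext (by simpa [hs] using h.tt), map_one]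
  t1 := fun e => h.tO (hs ▸ (q.ker s).1 e)
  AC := fun a => by
    obtain ⟨a, rfl⟩ := q.cv.surj a
    rw [← q.eq a ⟨φ a, q.mem a⟩ rfl, ← map_mul, ← map_mul]
    exact congrArg π (Subtype.ext (by simpa [hs] using h.AC a))
  NJ := fun c e => by
    obtain ⟨c, rfl⟩ := q.surj c
    exact (q.norm c).2 (h.NJ c (key h q hs c e))
  tr := fun c e hc => by
    obtain ⟨c, rfl⟩ := q.surj c
    refine (h.tr c (key h q hs c e) ((q.cent c).1 hc)).imp (fun m => (q.ker c).2 m) fun m => ?_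
    rw [← map_mul]
    exact (q.ker (c * s)).2 (by simpa [hs] using m)
  odd := by simp
  OC := bot_le
  Ot := fun o ho => by rw [mem_bot.1 ho, one_mul, mul_one]
  NO := fun c _ => by
    rw [normalizer_eq_top]
    trivial

theorem mid (hodd : H19.S93Q.OddStmt.{u}) : H19.S93Q.MidStmt.{u} := by
  intro Γ Δ _ _ G _ _ p φ hv t O H _ _ π ψ ⟨z, b, Λ, Z, rd, _⟩ h q s hs
  refine ⟨cx h q hs, fun a ha a1 i => ?_⟩
  obtain ⟨g, a', e1, e2, -⟩ := h.swapQ hv ha i
  have k := h.conj g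
  have ca : ∀ x ∈ MulAut.conj g • O, x * φ a = φ a * x := fun x hx => by
    have := k.oA hx a'
    simp only [MonoidHom.comp_apply, MulEquiv.coe_toMonoidHom, MulAut.conj_apply, e2] at this
    exact this.symm
  have ct : ∀ x ∈ MulAut.conj g • O, x * t = t * x := fun x hx => by
    have := k.Ot x hx
    rw [e1, ← mul_assoc, mul_assoc t, ← ca x hx, ← mul_assoc] at this
    exact mul_right_cancel this
  have hN : MulAut.conj g • O ≤ N[φ.range] := fun x hx => h.NJ x (ct x hx)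
  have hl : ∀ l ∈ ⁅Cz a, Cz a⁆, φ l ∈ N[MulAut.conj g • O] := fun l hl => by
    have hl' : l ∈ Cz a := commutator_le_self _ hl
    refine k.NO _ ?_
    rw [e1, ← mul_assoc, h.AC, mul_assoc, mul_assoc, ← map_mul, ← map_mul, mem_Cz.1 hl']
  have pa : p a * p a = 1 := by rw [← map_mul, ha, map_one]
  have pa1 : p a ≠ 1 := fun e => a1 (hv.sq_one e ha)
  have hZ : IsPGroup 2 Z := IsPGroup.of_card (n := 2) rd.card
  have hU : MulAut.conj g • O ≤ C[φ.range] := by
    rcases rd.cls _ pa pa1 with j | j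
    · rcases rd.rz with e | rz
      · exact hodd Γ Δ G p φ hv h.inj z b Λ Z rd.rc hZ a ha (e ▸ j) _ k.odd hN ca hl
      · refine hodd Γ Δ G p φ hv h.inj z z _ _ rz ?_ a ha j _ k.odd hN ca hl
        rintro ⟨_, n, rfl⟩
        refine ⟨1, Subtype.ext ?_⟩
        change (z ^ n) ^ 2 ^ 1 = 1
        rw [pow_one, ← zpow_natCast, ← zpow_mul, mul_comm, zpow_mul, zpow_natCast, pow_two, rd.zz,
          one_zpow]
    · exact hodd Γ Δ G p φ hv h.inj z b Λ Z rd.rc hZ a ha j _ k.odd hN ca hl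
  have hg : g ∈ N[O] := mem_normalizer_fintype fun x hx => by
    have m : g * x * g⁻¹ ∈ MulAut.conj g • O := conj_mem_conj_smul.2 hx
    exact h.odd_centQ (ct _ m) (hU m) (k.odd_ord m)
  refine isConj_iff.2 ⟨π ⟨g, hg⟩, ?_⟩
  rw [← q.eq a ⟨φ a, q.mem a⟩ rfl, ← map_mul, ← map_inv, ← map_mul, ← map_mul]
  exact congrArg π (Subtype.ext (by simpa [hs] using e1))

end Cfsg.Agent.H65.S93Mid
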