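import Cfsg.Agent.H46.J2Defs

/-!
# S94, piece A1: the lifts of the five points
-/

set_option autoImplicit false
open Subgroup

namespace Cfsg.Agent.H65.S94A1
open Cfsg.Agent.H46.S94

universe u

section Abs
variable {G : Type u} [Group G] {V : Subgroup G}

theorem br_mul {a b b' : G} (hb : ∀ c ∈ V, b * c * b⁻¹ ∈ V) (h : a * b * a⁻¹ * b⁻¹ ∈ V)
    (h' : a * b' * a⁻¹ * b'⁻¹ ∈ V) : a * (b * b') * a⁻¹ * (b * b')⁻¹ ∈ V := by
  have := mul_mem h (hb _ h')
  convert this using 1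
  group

theorem sq_mul {a x : G} (ha : a * a = 1) (h : a * x * a⁻¹ * x⁻¹ ∈ V) (hx : x * x ∈ V) :
    a * x * (a * x) ∈ V := by
  have := mul_mem h hx
  convert this using 1
  rw [inv_eq_of_mul_eq_one_right ha]
  group

theorem zpow_cases {z c : G} (hz : z * z = 1) (hc : c ∈ zpowers z) : c = 1 ∨ c = z := by
  obtain ⟨k, rfl⟩ := hc
  have h2 : z ^ (2 : ℤ) = 1 := by rw [zpow_two, hz]
  rcases Int.even_or_odd' k with ⟨m, rfl | rfl⟩
  · left; simp only [zpow_mul, h2, one_zpow]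
  · right; simp only [zpow_add, zpow_mul, h2, one_zpow, zpow_one, one_mul]

end Abs

variable {Γ : Type} [Group Γ] {G : Type u} [Group G] {φ : Γ →* G} {t : G} {O : Subgroup G}
  {f : Γ → G} {z y y1 y2 y3 y4 e e' σ : Γ}

theorem rt_sq (l : Lf φ t z f) {r : Γ} (hr : IsConj z r) : r * r = 1 := l.inj (by
  have h1 : f r * t * f r * (f r * t * f r) = 1 := by
    calc _ = f r * (t * (f r * f r) * t) * f r := by group
      _ = 1 := by rw [l.sq r hr, mul_one, l.tt, mul_one, l.sq r hr]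
  rw [l.br r hr, mul_assoc, ← mul_assoc (φ r), l.AC, ← mul_assoc, ← mul_assoc, l.tt, one_mul] at h1
  rw [map_mul, h1, map_one])

theorem pts (q : QF z y y1 y2 y3 y4 e e' σ) :
    ∀ v ∈ [y, y1, y2, y3, y4], IsConj z v ∧ Commute z v := by
  have he : e⁻¹ = e := inv_eq_of_mul_eq_one_right q.ee
  have he' : e'⁻¹ = e' := by rw [← q.s3, conj_inv, he]
  have c1 : Commute e' y := by
    rw [← q.s3, ← q.s1]; exact (show Commute e z from q.ez).conj σ
  have c2 : Commute e' (z * y) := by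
    rw [← q.s3, ← q.s2]; exact (show Commute e y from q.ey).conj σ
  have c3 : Commute z e' := by
    have := c2.mul_right c1.inv_right
    rw [mul_inv_cancel_right] at this
    exact this.symm
  have c4 : Commute z e := q.ez.symm
  have k : ∀ g v, g⁻¹ = g → Commute z g → IsConj z v ∧ Commute z v →
      IsConj z (g * v * g) ∧ Commute z (g * v * g) := fun g v h1 h2 h3 =>
    ⟨h3.1.trans (isConj_iff.2 ⟨g, by rw [h1]⟩), (h2.mul_right h3.2).mul_right h2⟩
  have p1 : IsConj z y1 ∧ Commute z y1 := ⟨q.r1, q.c1⟩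
  have p2 : IsConj z y2 ∧ Commute z y2 := q.d2 ▸ k e y1 he c4 p1
  simp only [List.forall_mem_cons, List.not_mem_nil, IsEmpty.forall_iff, implies_true, and_true]
  exact ⟨⟨isConj_iff.2 ⟨σ, q.s1⟩, q.c0⟩, p1, p2, q.d3 ▸ k e' y1 he' c3 p1,
    q.d4 ▸ k e' y2 he' c3 p2⟩

/-- The relations between the lifts. -/
structure Rel (φ : Γ →* G) (t : G) (f : Γ → G) (z : Γ) (L : List Γ) : Prop where
  zz : z * z = 1
  ff : f z * f z = 1
  fz : Commute (f z) (φ z)
  zt : f z * t * f z = t * φ z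
  sq : ∀ v ∈ L, f v * f v = 1
  vv : ∀ v ∈ L, v * v = 1
  zv : ∀ v ∈ L, Commute z v
  c1 : ∀ v ∈ L, Commute (f v) (f z)
  c2 : ∀ v ∈ L, Commute (f v) (φ z)
  c3 : ∀ v ∈ L, Commute (f z) (φ v)
  a1 : ∀ v ∈ L, MulAut.conj (f v) t = t * φ v
  a2 : ∀ v ∈ L, MulAut.conj (f v) (φ v) = φ v
  a3 : ∀ v ∈ L, ∀ u ∈ L, u ≠ v → MulAut.conj (f v) (φ u) = φ u * f z
  a4 : ∀ v ∈ L, MulAut.conj (f v) (f z) = f z
  br : ∀ u ∈ L, ∀ v ∈ L, u ≠ v → u * v = v * u * z

theorem rel (q : QF z y y1 y2 y3 y4 e e' σ) (l : Lf φ t z f) (ex : Ex z f) :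
    Rel φ t f z [y, y1, y2, y3, y4] := by
  have hp := pts q
  have zz := rt_sq l (IsConj.refl z)
  have cm : ∀ a r, IsConj z r → Commute a r → Commute (f r) (φ a) := fun a r hr h => by
    have := l.eq a r hr
    rw [h.eq, mul_inv_cancel_right, eq_mul_inv_iff_mul_eq] at this
    exact this
  have br : ∀ u ∈ [y, y1, y2, y3, y4], ∀ v ∈ [y, y1, y2, y3, y4], u ≠ v → u * v = v * u * z := by
    have : Std.Symm fun u v : Γ => u * v = v * u * z :=
      ⟨fun u v h => by rw [h, mul_assoc, zz, mul_one]⟩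
    exact fun u hu v hv h => q.br.forall hu hv h
  have n01 : y ≠ y1 := fun h => q.z1 (by
    have := List.rel_of_pairwise_cons q.br List.mem_cons_self
    rw [h] at this
    exact left_eq_mul.1 this)
  have nz : ∀ v ∈ [y, y1, y2, y3, y4], v ≠ z := fun v hv h => q.z1 (by
    obtain ⟨u, hu, h1⟩ : ∃ u ∈ [y, y1, y2, y3, y4], u ≠ v := by
      by_cases h2 : y = v
      · exact ⟨y1, by simp, h2 ▸ n01.symm⟩
      · exact ⟨y, by simp, h2⟩
    have := br u hu v hv h1
    rw [h, (hp u hu).2.eq] at this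
    exact left_eq_mul.1 this)
  have e1 : ∀ v ∈ [y, y1, y2, y3, y4], f v * f z = f (v * z) := fun v hv =>
    ex v z (hp v hv).1 (IsConj.refl z) (hp v hv).2.eq.symm (nz v hv)
  have c1 : ∀ v ∈ [y, y1, y2, y3, y4], Commute (f v) (f z) := fun v hv => by
    rw [Commute, SemiconjBy, e1 v hv, ← (hp v hv).2.eq]
    exact (ex z v (IsConj.refl z) (hp v hv).1 (hp v hv).2.eq (nz v hv).symm).symm
  have iv : ∀ v ∈ [y, y1, y2, y3, y4], (f v)⁻¹ = f v := fun v hv =>
    inv_eq_of_mul_eq_one_right (l.sq v (hp v hv).1)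
  have c3 : ∀ v ∈ [y, y1, y2, y3, y4], Commute (f z) (φ v) :=
    fun v hv => cm v z (IsConj.refl z) (hp v hv).2.symm
  refine ⟨zz, l.sq z (IsConj.refl z), cm z z (IsConj.refl z) (Commute.refl z),
    l.br z (IsConj.refl z), fun v hv => l.sq v (hp v hv).1, fun v hv => rt_sq l (hp v hv).1,
    fun v hv => (hp v hv).2, c1, fun v hv => cm z v (hp v hv).1 (hp v hv).2, c3,
    fun v hv => ?_, fun v hv => ?_, fun v hv u hu h => ?_, fun v hv => ?_, br⟩
  · rw [MulAut.conj_apply, iv v hv, l.br v (hp v hv).1]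
  · rw [MulAut.conj_apply, (cm v v (hp v hv).1 (Commute.refl v)).eq, mul_inv_cancel_right]
  · have h1 := l.eq u v (hp v hv).1
    rw [br u hu v hv h, mul_assoc v, ← (hp u hu).2.eq, ← mul_assoc, mul_inv_cancel_right,
      ← e1 v hv, eq_mul_inv_iff_mul_eq] at h1
    rw [MulAut.conj_apply, iv v hv, mul_assoc, ← h1, ← mul_assoc, ← mul_assoc,
      l.sq v (hp v hv).1, one_mul, (c3 u hu).eq]
  · rw [MulAut.conj_apply, (c1 v hv).eq, mul_inv_cancel_right]

theorem comm_cl {a b x w : G} (ha : Commute x a) (hb : Commute x b) (hw : w ∈ closure {a, b}) :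
    Commute x w := by
  have : closure {a, b} ≤ centralizer {x} := (closure_le _).2 (by
    rintro _ (rfl | rfl)
    exacts [mem_centralizer_singleton_iff.2 ha.symm, mem_centralizer_singleton_iff.2 hb.symm])
  exact (mem_centralizer_singleton_iff.1 (this hw) : Commute w x).symm

theorem sq_cl {a b w : G} (ha : a * a = 1) (hb : b * b = 1) (hab : Commute a b)
    (hw : w ∈ closure {a, b}) : w * w = 1 := by
  induction hw using closure_induction with
  | mem x hx => rcases hx with rfl | rfl <;> assumption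
  | one => exact mul_one 1
  | mul x y hx hy h1 h2 =>
    have c : Commute y x := comm_cl (comm_cl (Commute.refl a) hab hy).symm
      (comm_cl hab.symm (Commute.refl b) hy).symm hx
    rw [mul_assoc, ← mul_assoc y, c.eq, mul_assoc, h2, mul_one, h1]
  | inv x _ h1 => rw [← _root_.mul_inv_rev, h1, inv_one]

theorem key (q : QF z y y1 y2 y3 y4 e e' σ) (h : Cx φ t O) (lo : LO O z f)
    (r : Rel φ t f z [y, y1, y2, y3, y4]) {d : G}
    (h1 : MulAut.conj d t = t ∨ MulAut.conj d t = t * φ z)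
    (h2 : ∀ v ∈ [y, y1, y2, y3, y4], MulAut.conj d (φ v) = φ v) (h3 : Commute d (f z)) :
    ∃ w ∈ closure {f z, φ z}, ∃ o ∈ O, d = w * o ∧
      (MulAut.conj d t = t * φ z → w = f z ∨ w = f z * φ z) := by
  have Zs : φ z * φ z = 1 := by rw [← map_mul, r.zz, map_one]
  have Z1 : φ z ≠ 1 := fun e => q.z1 (h.inj (by rw [e, map_one]))
  have m1 : f z ∈ closure {f z, φ z} := subset_closure (by simp)
  have m2 : φ z ∈ closure {f z, φ z} := subset_closure (by simp)
  have fi : (f z)⁻¹ = f z := inv_eq_of_mul_eq_one_right r.ff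
  have k : ∀ d, MulAut.conj d t = t → (∀ v ∈ [y, y1, y2, y3, y4], MulAut.conj d (φ v) = φ v) →
      Commute d (f z) → ∃ o ∈ O, d = 1 * o ∨ d = φ z * o := fun d h1 h2 h3 => by
    have h5 : d * t = t * d := mul_inv_eq_iff_eq_mul.1 h1
    obtain ⟨α, hα⟩ := h.aut h5
    obtain ⟨c, hc, e⟩ := q.cQ α fun v hv => h.inj ((hα v).trans (h2 v hv))
    obtain ⟨o, ho, e | e⟩ := h.split' h5 hα e
    · refine ⟨o, ho, ?_⟩
      rcases zpow_cases r.zz hc with rfl | rfl
      · exact .inl (by rw [e, map_one])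
      · exact .inr e
    · have c1 : Commute (φ c) (f z) := by
        rcases zpow_cases r.zz hc with rfl | rfl
        · rw [map_one]; exact Commute.one_left _
        · exact r.fz.symm
      have c2 : Commute o (f z) := (lo z (IsConj.refl z) o ho).symm
      have c3 := (c1.inv_left.mul_left h3).mul_left c2.inv_left
      rw [e, mul_assoc (φ c), inv_mul_cancel_left, mul_inv_cancel_right] at c3
      have := r.zt
      rw [← c3.eq, mul_assoc, r.ff, mul_one] at this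
      exact (Z1 (left_eq_mul.1 this)).elim
  rcases h1 with h1 | h1
  · have n : MulAut.conj d t ≠ t * φ z := fun e => Z1 (left_eq_mul.1 (h1.symm.trans e))
    obtain ⟨o, ho, e | e⟩ := k d h1 h2 h3
    · exact ⟨1, one_mem _, o, ho, e, fun e => (n e).elim⟩
    · exact ⟨_, m2, o, ho, e, fun e => (n e).elim⟩
  · obtain ⟨o, ho, e | e⟩ := k (f z * d) (by
      rw [map_mul, MulAut.mul_apply, h1, map_mul, MulAut.conj_apply, MulAut.conj_apply, fi, r.zt,
        r.fz.eq, mul_assoc (φ z), r.ff, mul_one, mul_assoc, Zs, mul_one]) (fun v hv => by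
      rw [map_mul, MulAut.mul_apply, h2 v hv, MulAut.conj_apply, (r.c3 v hv).eq,
        mul_inv_cancel_right]) ((Commute.refl _).mul_left h3)
    · exact ⟨_, m1, o, ho, by rw [eq_inv_mul_of_mul_eq e, fi, one_mul], fun _ => .inl rfl⟩
    · exact ⟨_, mul_mem m1 m2, o, ho, by rw [eq_inv_mul_of_mul_eq e, fi, mul_assoc],
        fun _ => .inr rfl⟩

theorem o_one (h : Cx φ t O) (lo : LO O z f) (r : Rel φ t f z [y, y1, y2, y3, y4]) {w o : G}
    (hw : w ∈ closure {f z, φ z}) (ho : o ∈ O) (h4 : (w * o) ^ 4 = 1) : o = 1 := by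
  have c : Commute o w := comm_cl (lo z (IsConj.refl z) o ho).symm (h.oA ho z).symm hw
  have s := sq_cl r.ff (by rw [← map_mul, r.zz, map_one]) r.fz hw
  rw [c.symm.mul_pow, show w ^ 4 = w * w * (w * w) by rw [pow_succ, pow_succ, pow_two, mul_assoc],
    s, one_mul, one_mul] at h4
  exact h.o_one ho (n := 2) h4

theorem pair (q : QF z y y1 y2 y3 y4 e e' σ) (h : Cx φ t O) (lo : LO O z f)
    (r : Rel φ t f z [y, y1, y2, y3, y4]) {u v : Γ} (hu : u ∈ [y, y1, y2, y3, y4])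
    (hv : v ∈ [y, y1, y2, y3, y4]) (n : u ≠ v) :
    (f u * f v) ^ 2 = f z ∨ (f u * f v) ^ 2 = f z * φ z := by
  have g1 : MulAut.conj (f u * f v) (f z) = f z := by
    rw [map_mul, MulAut.mul_apply, r.a4 v hv, r.a4 u hu]
  have g2 : ∀ w ∈ [y, y1, y2, y3, y4], MulAut.conj (f u * f v) (φ w) = φ w ∨
      MulAut.conj (f u * f v) (φ w) = φ w * f z := fun w hw => by
    rw [map_mul, MulAut.mul_apply]
    by_cases h1 : w = v
    · rw [h1, r.a2 v hv, r.a3 u hu v hv n.symm]; exact .inr rfl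
    · rw [r.a3 v hv w hw h1, map_mul, r.a4 u hu]
      by_cases h2 : w = u
      · rw [h2, r.a2 u hu]; exact .inr rfl
      · rw [r.a3 u hu w hw h2, mul_assoc, r.ff, mul_one]; exact .inl rfl
  have g3 : MulAut.conj ((f u * f v) ^ 2) t = t * φ z := by
    have e1 : φ u * φ v * (φ u * φ v) = φ z := by
      rw [← map_mul, ← map_mul]
      congr 1
      calc _ = u * (v * u) * v := by group
        _ = u * (u * v * z) * v := by rw [r.br v hv u hu n.symm]
        _ = u * u * (v * (z * v)) := by group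
        _ = z := by rw [r.vv u hu, (r.zv v hv).eq, ← mul_assoc v, r.vv v hv, one_mul, one_mul]
    have z1 : ∀ x, f z * (f z * x) = x := fun x => by rw [← mul_assoc, r.ff, one_mul]
    have z2 : ∀ x, f z * (φ u * x) = φ u * (f z * x) := fun x => (r.c3 u hu).left_comm x
    have z3 : ∀ x, f z * (φ v * x) = φ v * (f z * x) := fun x => (r.c3 v hv).left_comm x
    rw [← e1, pow_two]
    simp only [map_mul, MulAut.mul_apply, r.a1 u hu, r.a1 v hv, r.a2 u hu, r.a2 v hv,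
      r.a3 u hu v hv n.symm, r.a3 v hv u hu n, r.a4 u hu, r.a4 v hv, mul_assoc, z1, z2, z3, r.ff,
      mul_one]
  obtain ⟨w, hw, o, ho, e1, e2⟩ := key q h lo r (.inr g3) (fun w hw => by
    rw [pow_two, map_mul, MulAut.mul_apply]
    rcases g2 w hw with e | e
    · rw [e, e]
    · rw [e, map_mul, e, g1, mul_assoc, r.ff, mul_one])
    (((r.c1 u hu).mul_left (r.c1 v hv)).pow_left 2)
  have c1 : Commute (f u) ((f u * f v) ^ 2) := e1 ▸
    (comm_cl (r.c1 u hu) (r.c2 u hu) hw).mul_right (lo u (pts q u hu).1 o ho)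
  have e3 : ((f u * f v) ^ 2) ^ 4 = 1 := by
    have e4 : (f u * f v) ^ 2 * (f u * f v) ^ 2 = 1 := by
      calc _ = (f u * f v) ^ 2 * (f u * f u) * (f u * f v) ^ 2 := by rw [r.sq u hu, mul_one]
        _ = (f u * f v) ^ 2 * f u * ((f u * f v) ^ 2 * f u) := by
          rw [mul_assoc, mul_assoc, c1.eq, mul_assoc]
        _ = f u * (f v * (f u * (f v * f u * f u * f v) * f u) * f v) * f u := by
          simp only [pow_two, mul_assoc]
        _ = 1 := by
          rw [mul_assoc (f v) (f u) (f u), r.sq u hu, mul_one, r.sq v hv, mul_one, r.sq u hu,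
            mul_one, r.sq v hv, mul_one, r.sq u hu]
    rw [show (4 : ℕ) = 2 * 2 from rfl, pow_mul, pow_two ((f u * f v) ^ 2), e4, one_pow]
  rw [e1] at e3
  rw [e1, o_one h lo r hw ho e3, mul_one]
  exact e2 g3

/-- **A1** -/
theorem a1 : A1Stmt.{u} := by
  intro Γ _ G _ _ φ t O f z y y1 y2 y3 y4 e e' σ _ q h l lo ex
  have r := rel q l ex
  have hn : [y, y1, y2, y3, y4].Pairwise (· ≠ ·) := q.br.imp fun {u v} h1 (h2 : u = v) => q.z1 (by
    rw [h2] at h1
    exact left_eq_mul.1 h1)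
  refine ⟨hn.imp_of_mem fun hu hv n => pair q h lo r hu hv n, ?_⟩
  have m0 : y ∈ [y, y1, y2, y3, y4] := by simp
  have m1 : y1 ∈ [y, y1, y2, y3, y4] := by simp
  have m2 : y2 ∈ [y, y1, y2, y3, y4] := by simp
  have m3 : y3 ∈ [y, y1, y2, y3, y4] := by simp
  have m4 : y4 ∈ [y, y1, y2, y3, y4] := by simp
  simp only [List.pairwise_cons, List.forall_mem_cons, List.not_mem_nil, IsEmpty.forall_iff,
    implies_true, and_true, List.Pairwise.nil] at hn
  obtain ⟨⟨n01, n02, n03, n04⟩, ⟨n12, n13, n14⟩, ⟨n23, n24⟩, n34⟩ := hn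
  have z1 : ∀ x, f z * (f z * x) = x := fun x => by rw [← mul_assoc, r.ff, one_mul]
  have z2 : ∀ v ∈ [y, y1, y2, y3, y4], ∀ x, f z * (φ v * x) = φ v * (f z * x) :=
    fun v hv x => (r.c3 v hv).left_comm x
  have g1 : MulAut.conj (f y * f y1 * f y2 * f y3 * f y4) t = t * φ (y * y1 * y2 * y3 * y4) := by
    simp only [map_mul, MulAut.mul_apply, r.a1 _ m0, r.a1 _ m1, r.a1 _ m2, r.a1 _ m3, r.a1 _ m4,
      r.a4 _ m0, r.a4 _ m1, r.a4 _ m2, r.a3 _ m0 _ m1 n01.symm, r.a3 _ m0 _ m2 n02.symm,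
      r.a3 _ m0 _ m3 n03.symm, r.a3 _ m0 _ m4 n04.symm, r.a3 _ m1 _ m2 n12.symm,
      r.a3 _ m1 _ m3 n13.symm, r.a3 _ m1 _ m4 n14.symm, r.a3 _ m2 _ m3 n23.symm,
      r.a3 _ m2 _ m4 n24.symm, r.a3 _ m3 _ m4 n34.symm, mul_assoc, z1, z2 _ m2, z2 _ m3, z2 _ m4,
      r.ff, mul_one]
  obtain ⟨w, hw, o, ho, e1, -⟩ := key q h lo r (d := f y * f y1 * f y2 * f y3 * f y4) (by
    rw [g1]
    rcases zpow_cases r.zz q.prod with e | e <;> rw [e]
    · exact .inl (by rw [map_one, mul_one])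
    · exact .inr rfl) (by
    simp only [List.forall_mem_cons, List.not_mem_nil, IsEmpty.forall_iff, implies_true, and_true,
      map_mul, MulAut.mul_apply, r.a2 _ m0, r.a2 _ m1, r.a2 _ m2, r.a2 _ m3, r.a2 _ m4,
      r.a4 _ m0, r.a4 _ m1, r.a4 _ m2, r.a4 _ m3, r.a3 _ m0 _ m1 n01.symm, r.a3 _ m0 _ m2 n02.symm,
      r.a3 _ m0 _ m3 n03.symm, r.a3 _ m0 _ m4 n04.symm, r.a3 _ m1 _ m2 n12.symm,
      r.a3 _ m1 _ m3 n13.symm, r.a3 _ m1 _ m4 n14.symm, r.a3 _ m2 _ m3 n23.symm,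
      r.a3 _ m2 _ m4 n24.symm, r.a3 _ m3 _ m4 n34.symm, r.a3 _ m1 _ m0 n01, r.a3 _ m2 _ m0 n02,
      r.a3 _ m3 _ m0 n03, r.a3 _ m4 _ m0 n04, r.a3 _ m2 _ m1 n12, r.a3 _ m3 _ m1 n13,
      r.a3 _ m4 _ m1 n14, r.a3 _ m3 _ m2 n23, r.a3 _ m4 _ m2 n24, r.a3 _ m4 _ m3 n34, mul_assoc,
      z1, r.ff, mul_one, and_self])
    (((((r.c1 _ m0).mul_left (r.c1 _ m1)).mul_left (r.c1 _ m2)).mul_left (r.c1 _ m3)).mul_left
      (r.c1 _ m4))
  have b : ∀ u ∈ [y, y1, y2, y3, y4], ∀ v ∈ [y, y1, y2, y3, y4], u ≠ v →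
      f u * f v * (f u)⁻¹ * (f v)⁻¹ ∈ closure {f z, φ z} := fun u hu v hv n => by
    rw [inv_eq_of_mul_eq_one_right (r.sq u hu), inv_eq_of_mul_eq_one_right (r.sq v hv), mul_assoc,
      ← pow_two]
    have k1 : f z ∈ closure {f z, φ z} := subset_closure (by simp)
    have k2 : φ z ∈ closure {f z, φ z} := subset_closure (by simp)
    rcases pair q h lo r hu hv n with e | e <;> rw [e]
    exacts [k1, mul_mem k1 k2]
  have c : ∀ u ∈ [y, y1, y2, y3, y4], ∀ x ∈ closure {f z, φ z},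
      f u * x * (f u)⁻¹ ∈ closure {f z, φ z} := fun u hu x hx => by
    rwa [(comm_cl (r.c1 u hu) (r.c2 u hu) hx).eq, mul_inv_cancel_right]
  have s := sq_mul (r.sq _ m0) (br_mul (c _ m1) (b _ m0 _ m1 n01) (br_mul (c _ m2)
    (b _ m0 _ m2 n02) (br_mul (c _ m3) (b _ m0 _ m3 n03) (b _ m0 _ m4 n04))))
    (sq_mul (r.sq _ m1) (br_mul (c _ m2) (b _ m1 _ m2 n12) (br_mul (c _ m3) (b _ m1 _ m3 n13)
      (b _ m1 _ m4 n14))) (sq_mul (r.sq _ m2) (br_mul (c _ m3) (b _ m2 _ m3 n23)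
        (b _ m2 _ m4 n24)) (sq_mul (r.sq _ m3) (b _ m3 _ m4 n34) (r.sq _ m4 ▸ one_mem _))))
  have s2 := sq_cl r.ff (by rw [← map_mul, r.zz, map_one]) r.fz s
  have e3 : (w * o) ^ 4 = 1 := by
    rw [← e1, ← s2]
    simp only [pow_succ, pow_zero, one_mul, mul_assoc]
  rw [e1, o_one h lo r hw ho e3, mul_one]
  exact hw

end Cfsg.Agent.H65.S94A1
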