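import Cfsg.Agent.H50.DerDefs

/-!
Derangements: a Sidon orbit forces the regular abelian subgroup to be normal.
-/

set_option autoImplicit false

namespace Cfsg.Agent.H65.DerSid

open Cfsg.Agent.H50.Der MulAction

universe u v

theorem cover {V E : Type u} [CommGroup V] [Finite V] [Group E] [Finite E] (act : E →* MulAut V)
    (inj : ∀ y : V, y ≠ 1 → ∀ a b : E, act a y = act b y → a = b)
    (hc : Nat.card V = Nat.card E * (Nat.card E - 1) + 1) (hs : Sidon act) {y : V} (hy : y ≠ 1)
    {z : V} (hz : z ≠ 1) : ∃ a b : E, z = act a y * (act b y)⁻¹ := by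
  classical
  have := Fintype.ofFinite V
  have := Fintype.ofFinite E
  have h := Finset.surj_on_of_inj_on_of_card_le (s := (Finset.univ : Finset E).offDiag)
    (t := (Finset.univ : Finset V).erase 1) (fun p _ => act p.1 y * (act p.2 y)⁻¹)
    (fun p hp => by
      rw [Finset.mem_offDiag] at hp
      exact Finset.mem_erase.2 ⟨fun h => hp.2.2 (inj y hy _ _ (mul_inv_eq_one.1 h)),
        Finset.mem_univ _⟩)
    (fun p p' hp _ h => by
      rw [Finset.mem_offDiag] at hp
      exact Prod.ext (hs y hy _ _ _ _ hp.2.2 h).1 (hs y hy _ _ _ _ hp.2.2 h).2)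
    (by
      rw [Finset.card_erase_of_mem (Finset.mem_univ _), Finset.offDiag_card, Finset.card_univ,
        Finset.card_univ, ← Nat.card_eq_fintype_card, ← Nat.card_eq_fintype_card, hc,
        Nat.add_sub_cancel, Nat.mul_sub_one]) z (Finset.mem_erase.2 ⟨hz, Finset.mem_univ _⟩)
  obtain ⟨p, -, hp⟩ := h
  exact ⟨p.1, p.2, hp⟩

theorem sid : SidStmt.{u, v} := by
  intro X Ω V _ _ _ _ _ q ι ω E act c H h2 hc hs g
  have inj : ∀ y : V, y ≠ 1 → ∀ a b : E, act a y = act b y → a = b := fun y hy a b h => by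
    have := c.semi (b⁻¹ * a) y hy (by
      rw [map_mul, MulAut.mul_apply, h, ← MulAut.mul_apply, ← map_mul, inv_mul_cancel, map_one,
        MulAut.one_apply])
    exact (inv_mul_eq_one.1 this).symm
  have uq : ∀ a b : V, ι a • ω = ι b • ω → a = b := fun a b h => by
    have := c.free (b⁻¹ * a) (by rw [map_mul, mul_smul, h, ← mul_smul, ← map_mul, inv_mul_cancel,
      map_one, one_smul])
    exact (inv_mul_eq_one.1 this).symm
  obtain ⟨y, hy⟩ : ∃ y : V, y ≠ 1 := by
    have : Nontrivial V := Finite.one_lt_card_iff_nontrivial.1 (by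
      have : 2 * 1 ≤ Nat.card E * (Nat.card E - 1) := Nat.mul_le_mul h2 (by omega)
      omega)
    exact exists_ne 1
  choose T hT using fun v : V => c.tr (g • ι v • ω)
  have Tinj : ∀ v w, T v = T w → v = w := fun v w h =>
    uq _ _ (smul_left_cancel g (by rw [← hT, ← hT, h]))
  have s1 : ∀ (v : V) (x : E), ∃ x' : E, T (v * act x y) = T v * act x' y := fun v x => by
    obtain ⟨x1, h1⟩ := H ((ι (T v))⁻¹ * g * ι v) (by
      rw [mul_smul, mul_smul, ← hT, inv_smul_smul]) (act x y)
    refine ⟨x1 * x, uq _ _ ?_⟩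
    rw [hT, map_mul act, MulAut.mul_apply, map_mul ι (T v), mul_smul, ← h1, map_mul, mul_smul,
      mul_smul, mul_smul, smul_inv_smul]
  choose σ hσ using s1
  have σinj : ∀ v, Function.Injective (σ v) := fun v a b h =>
    inj y hy _ _ (mul_left_cancel (Tinj (v * act a y) (v * act b y) (by rw [hσ, hσ, h])))
  have s2 : ∀ (v : V) (a b : E), b ≠ a → σ (v * act a y) b = σ v b := fun v a b hab => by
    have h1 : T (v * act a y * act b y) = T (v * act b y * act a y) := by rw [mul_right_comm]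
    rw [hσ, hσ, hσ, hσ, mul_assoc, mul_assoc, mul_right_inj] at h1
    refine (hs y hy (σ v b) (σ v a) _ (σ (v * act b y) a) (fun h => hab (σinj v h)) ?_).1.symm
    rw [mul_inv_eq_iff_eq_mul, mul_right_comm, mul_comm (act (σ (v * act a y) b) y), h1,
      mul_inv_cancel_right]
  have s3 : ∀ (v : V) (a : E), σ (v * act a y) = σ v := fun v a => by
    funext b
    by_cases hab : b = a
    · subst hab
      obtain ⟨d, hd⟩ := Finite.surjective_of_injective (σinj v) (σ (v * act b y) b)
      by_cases hdb : d = b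
      · rw [← hd, hdb]
      · exact absurd (σinj _ ((s2 v b d hdb).trans hd)) hdb
    · exact s2 v a b hab
  have s4 : ∀ v, σ v = σ 1 := fun v => by
    by_cases hv : v = 1
    · rw [hv]
    · obtain ⟨a, b, h⟩ := cover act inj hc hs hy hv
      rw [← s3 v b, ← s3 1 a, h, inv_mul_cancel_right, one_mul]
  have s5 : ∀ a : E, g * ι (act a y) * g⁻¹ = ι (act (σ 1 a) y) := fun a => by
    refine (inv_mul_eq_one.1 (c.faith _ fun p => ?_)).symm
    obtain ⟨v, hv⟩ := c.tr (g⁻¹ • p)
    have h1 : p = ι (T v) • ω := by rw [hT, hv, smul_inv_smul]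
    rw [mul_smul, mul_smul, mul_smul, ← hv, ← mul_smul (ι _) (ι v), ← map_mul, mul_comm,
      ← hT, hσ, s4 v, mul_comm, map_mul, mul_smul, inv_smul_smul, h1]
  intro z
  by_cases hz : z = 1
  · exact ⟨1, by rw [hz, map_one, mul_one, mul_inv_cancel]⟩
  · obtain ⟨a, b, h⟩ := cover act inj hc hs hy hz
    refine ⟨act (σ 1 a) y * (act (σ 1 b) y)⁻¹, ?_⟩
    rw [h, map_mul, map_mul, map_inv, map_inv, ← s5, ← s5]
    group

end Cfsg.Agent.H65.DerSid
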