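import Cfsg.Agent.H56.HLDefs

/-! Project HL: the action of a flag on the vertices, in the model `SL₃(K)`. -/

set_option autoImplicit false

namespace Cfsg.Agent.H65.HlMc

open Subgroup Matrix Cfsg.Agent.H83 Cfsg.Agent.H56.TT Cfsg.Agent.H56.HL Cfsg.Agent.H32
open scoped Cfsg.Agent.H63

universe u

variable {K : Type} [Field K]

theorem dep {ψ u v w : Fin 3 → K} (h0 : ψ ≠ 0) (hv : v ≠ 0) (hu : ¬ ∃ c : K, u = c • v)
    (h1 : ψ ⬝ᵥ v = 0) (h2 : ψ ⬝ᵥ u = 0) (h3 : ψ ⬝ᵥ w = 0) : ∃ a b : K, w = a • u + b • v := by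
  by_contra hw
  have l1 : LinearIndependent K ![u, v] := by
    rw [LinearIndependent.pair_symm_iff, LinearIndependent.pair_iff' hv]
    exact fun a h => hu ⟨a, h.symm⟩
  have l2 : LinearIndependent K (Fin.cons w ![u, v] : Fin 3 → Fin 3 → K) := by
    refine linearIndependent_finCons.2 ⟨l1, fun h => hw ?_⟩
    rw [Matrix.range_cons_cons_empty, Submodule.mem_span_pair] at h
    obtain ⟨a, b, h⟩ := h
    exact ⟨a, b, h.symm⟩
  have l3 := l2.span_eq_top_of_card_eq_finrank' (by simp)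
  refine h0 (dotProduct_eq_zero ψ fun x => ?_)
  have hx : x ∈ Submodule.span K (Set.range (Fin.cons w ![u, v] : Fin 3 → Fin 3 → K)) := by
    rw [l3]; trivial
  induction hx using Submodule.span_induction with
  | mem x hx =>
    obtain ⟨i, rfl⟩ := hx
    fin_cases i
    exacts [h3, h2, h1]
  | zero => exact dotProduct_zero ψ
  | add x y _ _ hx hy => rw [dotProduct_add, hx, hy, add_zero]
  | smul a x _ hx => rw [dotProduct_smul, hx, smul_zero]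

theorem exd {u v : Fin 3 → K} (hu : ¬ ∃ c : K, u = c • v) (c : K) :
    ∃ ψ : Fin 3 → K, ψ ⬝ᵥ v = 0 ∧ ψ ⬝ᵥ u = c := by
  obtain ⟨f, h1, h2⟩ := H26.exists_dot_eq_one_of_notMem (Submodule.span K {v}) (v := u) (by
    rw [Submodule.mem_span_singleton]
    exact fun ⟨a, h⟩ => hu ⟨a, h.symm⟩)
  exact ⟨c • f, by rw [smul_dotProduct, h2 v (Submodule.mem_span_singleton_self v), smul_zero],
    by rw [smul_dotProduct, h1, smul_eq_mul, mul_one]⟩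

theorem mc : MCStmt.{u} := by
  intro G _ _ K _ _ π N h v φ hv hφ hvφ
  have sm : ∀ (w : Fin 3 → K) (c : K), w ≠ 0 → c ≠ 0 → EP π (c • w) = EP π w := fun w c hw hc =>
    ((h.eqE w (c • w) hw (smul_ne_zero hc hw)).2 ⟨c, rfl⟩).symm
  have np : ∀ u : Fin 3 → K, u ≠ 0 → EP π u ≠ EP π v → ¬ ∃ c : K, u = c • v := fun u hu h1 h2 =>
    h1 ((h.eqE v u hv hu).2 h2).symm
  have key : ∀ u w ψ : Fin 3 → K, u ≠ 0 → w ≠ 0 → ψ ≠ 0 → ψ ⬝ᵥ v = 0 → ψ ⬝ᵥ u = 0 → ψ ⬝ᵥ w = 0 →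
      EP π u ≠ EP π v → EP π w ≠ EP π v → ∃ d : K, EP π (u + d • v) = EP π w := by
    intro u w ψ hu hw h0 h1 h2 h3 h4 h5
    obtain ⟨a, b, e⟩ := dep h0 hv (np u hu h4) h1 h2 h3
    have ha : a ≠ 0 := fun ha => np w hw h5 ⟨b, by rw [e, ha, zero_smul, zero_add]⟩
    refine ⟨a⁻¹ * b, ?_⟩
    rw [← sm w a⁻¹ hw (inv_ne_zero ha), e, smul_add, smul_smul, smul_smul, inv_mul_cancel₀ ha,
      one_smul]
  refine ⟨fun t ht t1 X hX => ?_, fun X Y hX hY h1 h2 => ?_, fun X Y hX hY h1 h2 => ?_,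
    fun M X Y hM hMF hX hY h1 h2 => ?_⟩
  · obtain ⟨c, rfl⟩ := (h.memZ v φ t hv hφ hvφ).1 ht
    obtain ⟨u, hu, rfl⟩ := (h.sameE X v hv).1 hX
    have hc : c ≠ 0 := fun hc => t1 (by rw [hc, zero_smul, ts_zero_right, map_one])
    have h1 : (c • φ) ⬝ᵥ v = 0 := by rw [smul_dotProduct, hvφ, smul_zero]
    rw [← cj_eq_self_iff, cj_EP, ts_mulVec h1, h.adj u φ hu hφ, smul_dotProduct]
    refine ⟨fun e => ?_, fun e => by rw [e, smul_zero, zero_smul, add_zero]⟩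
    by_contra h2
    have h3 : φ ⬝ᵥ (u + (c • (φ ⬝ᵥ u)) • v) = φ ⬝ᵥ u := by
      rw [dotProduct_add, dotProduct_smul, hvφ, smul_zero, add_zero]
    obtain ⟨d, hd⟩ := (h.eqE u _ hu (fun h0 => h2 (by rw [← h3, h0, dotProduct_zero]))).1 e.symm
    rw [hd, dotProduct_smul, smul_eq_mul, mul_eq_right₀ h2] at h3
    rw [h3, one_smul, add_eq_left] at hd
    exact smul_ne_zero (smul_ne_zero hc h2) hv hd
  · obtain ⟨u, hu, rfl⟩ := (h.sameE X v hv).1 hX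
    obtain ⟨w, hw, rfl⟩ := (h.sameE Y v hv).1 hY
    rw [h.adj u φ hu hφ] at h1
    rw [h.adj w φ hw hφ] at h2
    have h3 : φ ⬝ᵥ ((φ ⬝ᵥ w)⁻¹ • w - (φ ⬝ᵥ u)⁻¹ • u) = 0 := by
      rw [dotProduct_sub, dotProduct_smul, dotProduct_smul, smul_eq_mul, smul_eq_mul,
        inv_mul_cancel₀ h1, inv_mul_cancel₀ h2, sub_self]
    refine ⟨_, ⟨_, h3, rfl⟩, ?_⟩
    rw [cj_EP, ts_mulVec h3, smul_sub, smul_smul, smul_smul, mul_inv_cancel₀ h1, one_smul,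
      add_sub_cancel, sm w _ hw (mul_ne_zero h1 (inv_ne_zero h2))]
  · obtain ⟨u, hu, h3, rfl⟩ := (h.adjF X φ hφ).1 hX
    obtain ⟨w, hw, h4, rfl⟩ := (h.adjF Y φ hφ).1 hY
    obtain ⟨d, hd⟩ := key u w φ hu hw hφ hvφ h3 h4 h1 h2
    obtain ⟨ψ, h5, h6⟩ := exd (np u hu h1) d
    exact ⟨_, ⟨ψ, h5, rfl⟩, by rw [cj_EP, ts_mulVec h5, h6, hd]⟩
  · obtain ⟨ψ, h0, h3, rfl⟩ := (h.adjE M v hv).1 hM
    obtain ⟨u, hu, h4, rfl⟩ := (h.adjF X ψ h0).1 hX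
    obtain ⟨w, hw, h5, rfl⟩ := (h.adjF Y ψ h0).1 hY
    obtain ⟨d, hd⟩ := key u w ψ hu hw h0 h3 h4 h5 h1 h2
    have h6 : φ ⬝ᵥ u ≠ 0 := fun h6 => by
      obtain ⟨χ, h7, h8⟩ := exd (np u hu h1) 1
      obtain ⟨a, b, e⟩ := dep (w := χ) hv hφ (fun e => hMF ((h.eqF φ ψ hφ h0).2 e).symm)
        (by rwa [dotProduct_comm]) (by rwa [dotProduct_comm]) (by rwa [dotProduct_comm])
      rw [e, add_dotProduct, smul_dotProduct, smul_dotProduct, h4, h6, smul_zero, smul_zero,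
        add_zero] at h8
      exact zero_ne_one h8
    have h7 : ((d * (φ ⬝ᵥ u)⁻¹) • φ) ⬝ᵥ v = 0 := by rw [smul_dotProduct, hvφ, smul_zero]
    refine ⟨_, (h.memZ v φ _ hv hφ hvφ).2 ⟨d * (φ ⬝ᵥ u)⁻¹, rfl⟩, ?_⟩
    rw [cj_EP, ts_mulVec h7, smul_dotProduct, smul_eq_mul, inv_mul_cancel_right₀ h6, hd]

end Cfsg.Agent.H65.HlMc
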