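import Mathlib
import Cfsg.Agent.H65.UOddB
import Cfsg.Agent.S3279

/-!
# Split doubly transitive simple groups with cyclic two-point stabilizer of order divisible by `8`
have `2`-rank at most `2`
-/

set_option autoImplicit false

namespace Cfsg.Agent.H65.UO

open Subgroup MulAction Cfsg.Agent.H72 Cfsg.Agent.H85 Cfsg.Agent.H61

universe u

theorem odd_quot {p f : ℕ} (hp : Odd p) (h1 : 1 < p) (hf : 0 < f) (m : ℕ) (h : p ^ f + 1 ∣ p ^ m + 1) :
    ∃ c, Odd c ∧ p ^ m + 1 = (p ^ f + 1) * c := by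
  induction m using Nat.strong_induction_on with
  | _ m ih =>
  rcases lt_or_ge m f with h2 | h2
  · have := Nat.le_of_dvd (by positivity) h
    have := Nat.pow_lt_pow_right h1 h2
    omega
  obtain ⟨r, rfl⟩ := Nat.exists_eq_add_of_le h2
  obtain ⟨x, hx⟩ : ∃ x, p ^ f = x + 1 := ⟨p ^ f - 1, by have := Nat.one_le_pow f p (by omega); omega⟩
  rcases lt_or_ge r f with h3 | h3
  · obtain ⟨y, hy⟩ : ∃ y, p ^ r = y + 1 := ⟨p ^ r - 1, by have := Nat.one_le_pow r p (by omega); omega⟩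
    have e : (p ^ f + 1) * p ^ r = (p ^ (f + r) + 1) + y := by rw [pow_add, hy]; ring
    have d : p ^ f + 1 ∣ y := (Nat.dvd_add_right h).1 (e ▸ dvd_mul_right _ _)
    have := Nat.pow_lt_pow_right h1 h3
    obtain rfl : y = 0 := Nat.eq_zero_of_dvd_of_lt d (by omega)
    exact ⟨1, odd_one, by rw [pow_add, hy]; ring⟩
  obtain ⟨s, rfl⟩ := Nat.exists_eq_add_of_le h3
  have e : p ^ (f + (f + s)) + 1 = (p ^ f + 1) * (x * p ^ s) + (p ^ s + 1) := by
    rw [pow_add, pow_add, hx]; ring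
  obtain ⟨c, oc, hc⟩ := ih s (by omega) ((Nat.dvd_add_right (dvd_mul_right _ _)).1 (e ▸ h))
  have ex : Even x := by
    have := hp.pow (n := f)
    rwa [hx, Nat.odd_add_one, Nat.not_odd_iff_even] at this
  exact ⟨x * p ^ s + c, (ex.mul_right _).add_odd oc, by rw [e, hc]; ring⟩

section Two

variable {G Ω : Type*} [Group G] [MulAction G Ω]

theorem card_two [Finite G] [Finite Ω]
    (h : ∀ a b c d : Ω, a ≠ b → c ≠ d → ∃ g : G, g • a = c ∧ g • b = d) {a b : Ω} (hab : a ≠ b) :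
    Nat.card G = Nat.card Ω * ((Nat.card Ω - 1) * Nat.card (stab2 G a b)) := by
  classical
  have : IsPretransitive G Ω := ⟨fun x y => by
    by_cases e : x = y
    · exact ⟨1, by rw [one_smul, e]⟩
    · obtain ⟨g, h1, -⟩ := h x y y x e (Ne.symm e)
      exact ⟨g, h1⟩⟩
  have e : stabilizer G a ≃ Σ x : {x : Ω // x ≠ a}, {g : G // g • a = a ∧ g • b = x.1} := by
    refine (Equiv.ofBijective (fun y : Σ x : {x : Ω // x ≠ a}, {g : G // g • a = a ∧ g • b = x.1} =>
      (⟨y.2.1, y.2.2.1⟩ : stabilizer G a)) ⟨?_, ?_⟩).symm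
    · rintro ⟨⟨x, hx⟩, g, hg1, hg2⟩ ⟨⟨y, hy⟩, k, hk1, hk2⟩ hgk
      have hgk' : g = k := congrArg Subtype.val hgk
      subst hgk'
      have : x = y := hg2.symm.trans hk2
      subst this
      rfl
    · rintro ⟨g, hg⟩
      have hg' : g • a = a := hg
      exact ⟨⟨⟨g • b, fun hh => hab (smul_left_cancel g (hg'.trans hh.symm))⟩, g, hg, rfl⟩, rfl⟩
  rw [← (stabilizer G a).index_mul_card, index_stabilizer_of_transitive, Nat.card_congr e]
  congr 1
  have := Fintype.ofFinite {x : Ω // x ≠ a}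
  rw [Nat.card_sigma, ← natCard_ne a]
  have : ∀ x : {x : Ω // x ≠ a}, Nat.card {g : G // g • a = a ∧ g • b = x.1} =
      Nat.card (stab2 G a b) := by
    intro x
    obtain ⟨s, hs1, hs2⟩ := h a b a x.1 hab x.2.symm
    exact card_transporter s hs1 hs2
  simp [this]

theorem isKer_cj {U : Subgroup G} {a : Ω} (h : IsKer U a) (g : G) : IsKer (cj g U) (g • a) where
  fix := by
    rintro _ ⟨u, hu, rfl⟩
    simp [mul_smul, h.fix u hu]
  conj := fun k hk u hu => by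
    rw [mem_cj] at hu ⊢
    have := h.conj (g⁻¹ * k * g) (by rw [mul_smul, mul_smul, hk, inv_smul_smul]) _ hu
    convert this using 1
    group
  trans := fun y z hy hz => by
    obtain ⟨u, hu, e⟩ := h.trans (g⁻¹ • y) (g⁻¹ • z) (fun e => hy (inv_smul_eq_iff.1 e))
      (fun e => hz (inv_smul_eq_iff.1 e))
    exact ⟨_, conj_mem_cj hu, by rw [mul_smul, mul_smul, e, smul_inv_smul]⟩
  free := by
    rintro _ ⟨u, hu, rfl⟩ y hy e
    have : u • g⁻¹ • y = g⁻¹ • y := by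
      rw [eq_inv_smul_iff, ← mul_smul, ← mul_smul]; exact e
    rw [h.free u hu _ (fun e => hy (inv_smul_eq_iff.1 e)) this, map_one]

/-- The fixed points of `J`, under the centralizer of `J`. -/
def Fix (Ω : Type*) [MulAction G Ω] (J : Subgroup G) : SubMulAction (centralizer (J : Set G)) Ω where
  carrier := {c | ∀ x ∈ J, x • c = c}
  smul_mem' := fun g c hc x hx => by
    rw [Subgroup.smul_def, ← mul_smul, mem_centralizer_iff.1 g.2 x hx, mul_smul, hc x hx]

theorem mem_Fix {J : Subgroup G} {c : Ω} : c ∈ Fix Ω J ↔ ∀ x ∈ J, x • c = c := Iff.rfl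

theorem mem_cent_of_ker {U J : Subgroup G} {c d : Ω} (h : IsKer U c) (hc : c ∈ Fix Ω J)
    (hd : d ∈ Fix Ω J) (hdc : d ≠ c) {u : G} (hu : u ∈ U) (he : u • d ∈ Fix Ω J) :
    u ∈ centralizer (J : Set G) := mem_centralizer_iff.2 fun x hx => by
  rw [← mul_inv_eq_iff_eq_mul]
  refine h.eq_of_smul_eq (h.conj x (hc x hx) u hu) hu hdc ?_
  rw [mul_smul, mul_smul, hd _ (J.inv_mem hx), he x hx]

end Two

/-- The situation: `G` is doubly transitive, `U` is a regular normal subgroup of `G_a` on the other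
points, `G_{ab}` is cyclic, and `J ≤ G_{ab}` is maximal among the subgroups fixing a third point. -/
structure Sit (G Ω : Type*) [Group G] [MulAction G Ω] (U J : Subgroup G) (a b : Ω) : Prop where
  two : ∀ a b c d : Ω, a ≠ b → c ≠ d → ∃ g : G, g • a = c ∧ g • b = d
  ne : a ≠ b
  ker : IsKer U a
  cyc : IsCyclic (stab2 G a b)
  le : J ≤ stab2 G a b
  third : ∃ c ∈ Fix Ω J, c ≠ a ∧ c ≠ b
  max : ∀ x ∈ stab2 G a b, ∀ c ∈ Fix Ω J, c ≠ a → c ≠ b → x • c = c → x ∈ J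

namespace Sit

variable {G Ω : Type*} [Group G] [MulAction G Ω] {U J : Subgroup G} {a b : Ω} (h : Sit G Ω U J a b)
include h

theorem ha : a ∈ Fix Ω J := fun _ hx => (mem_stab2.1 (h.le hx)).1

theorem hb : b ∈ Fix Ω J := fun _ hx => (mem_stab2.1 (h.le hx)).2

theorem comm {x y : G} (hx : x ∈ stab2 G a b) (hy : y ∈ stab2 G a b) : x * y = y * x := by
  have := h.cyc
  exact congrArg Subtype.val (mul_comm' (⟨x, hx⟩ : stab2 G a b) ⟨y, hy⟩)

theorem H_le : stab2 G a b ≤ centralizer (J : Set G) := fun _ hx =>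
  mem_centralizer_iff.2 fun _ hy => h.comm (h.le hy) hx

theorem move {c d e : Ω} (hc : c ∈ Fix Ω J) (hd : d ∈ Fix Ω J) (he : e ∈ Fix Ω J) (hdc : d ≠ c)
    (hec : e ≠ c) : ∃ g ∈ centralizer (J : Set G), g • c = c ∧ g • d = e := by
  obtain ⟨g, rfl, -⟩ := h.two a b c d h.ne hdc.symm
  have k := isKer_cj h.ker g
  obtain ⟨u, hu, e1⟩ := k.trans d e hdc hec
  exact ⟨u, mem_cent_of_ker k hc hd hdc hu (e1 ▸ he), k.fix u hu, e1⟩

theorem two' (c d c' d' : Fix Ω J) (h1 : c ≠ d) (h2 : c' ≠ d') :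
    ∃ g : centralizer (J : Set G), g • c = c' ∧ g • d = d' := by
  obtain ⟨g, hg, e⟩ : ∃ g ∈ centralizer (J : Set G), g • (c : Ω) = c' := by
    obtain ⟨e, he, ea, eb⟩ := h.third
    obtain ⟨x, hx, x1, x2⟩ : ∃ x ∈ Fix Ω J, (c : Ω) ≠ x ∧ (c' : Ω) ≠ x := by
      have := h.ne
      by_contra hh
      push Not at hh
      have h1 := hh a h.ha
      have h2 := hh b h.hb
      have h3 := hh e he
      by_cases c1 : (c : Ω) = a
      · exact eb ((h3 (c1 ▸ ea.symm)).symm.trans (h2 (c1 ▸ this)))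
      · by_cases c2 : (c : Ω) = b
        · exact ea ((h3 (c2 ▸ eb.symm)).symm.trans (h1 c1))
        · exact this ((h1 c1).symm.trans (h2 c2))
    obtain ⟨g, hg, -, e⟩ := h.move hx c.2 c'.2 x1 x2
    exact ⟨g, hg, e⟩
  obtain ⟨k, hk, e1, e2⟩ := h.move c'.2 ((Fix Ω J).smul_mem ⟨g, hg⟩ d.2) d'.2
    (fun e' => h1 (Subtype.ext (smul_left_cancel g (e.trans e'.symm))))
    (fun e' => h2 (Subtype.ext e'.symm))
  refine ⟨⟨k * g, mul_mem hk hg⟩, Subtype.ext ?_, Subtype.ext ?_⟩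
  · exact (mul_smul k g _).trans (by rw [e, e1])
  · exact (mul_smul k g _).trans e2

theorem three (g : centralizer (J : Set G)) (c d e : Fix Ω J) (h1 : c ≠ d) (h2 : d ≠ e) (h3 : c ≠ e)
    (gc : g • c = c) (gd : g • d = d) (ge : g • e = e) : (g : G) ∈ J := by
  obtain ⟨k, k1, k2⟩ := h.two' c d ⟨a, h.ha⟩ ⟨b, h.hb⟩ h1 (fun e => h.ne (congrArg Subtype.val e))
  have fx : ∀ x : Fix Ω J, g • x = x → (k * g * k⁻¹) • k • x = k • x := fun x hx => by
    rw [mul_smul, mul_smul, inv_smul_smul, hx]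
  have m : ((k * g * k⁻¹ : centralizer (J : Set G)) : G) ∈ J := by
    refine h.max _ (mem_stab2.2 ⟨?_, ?_⟩) _ (k • e).2 (fun e' => h3 (smul_left_cancel k ?_))
      (fun e' => h2 (smul_left_cancel k ?_)) (congrArg Subtype.val (fx e ge))
    · have := fx c gc
      rw [k1] at this
      exact congrArg Subtype.val this
    · have := fx d gd
      rw [k2] at this
      exact congrArg Subtype.val this
    · rw [k1]; exact Subtype.ext e'.symm
    · rw [k2]; exact Subtype.ext e'.symm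
  have := mem_centralizer_iff.1 k.2 _ m
  simp only [coe_mul, coe_inv, mul_assoc, mul_right_inj, inv_mul_cancel,
    mul_one] at this
  simp only [coe_mul, coe_inv] at m
  rw [this, ← mul_assoc]
  exact m

/-- The action on the fixed points of `J`. -/
abbrev act (Ω : Type*) [MulAction G Ω] (J : Subgroup G) :
    centralizer (J : Set G) →* Equiv.Perm (Fix Ω J) := toPermHom (centralizer (J : Set G)) (Fix Ω J)

theorem act_eq_one {g : centralizer (J : Set G)} : act Ω J g = 1 ↔ (g : G) ∈ J := by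
  constructor
  · intro e
    obtain ⟨c, hc, c1, c2⟩ := h.third
    have k : ∀ x : Fix Ω J, g • x = x := fun x => DFunLike.congr_fun e x
    exact h.three g ⟨a, h.ha⟩ ⟨b, h.hb⟩ ⟨c, hc⟩ (fun e => h.ne (congrArg Subtype.val e))
      (fun e => c2 (congrArg Subtype.val e).symm) (fun e => c1 (congrArg Subtype.val e).symm)
      (k _) (k _) (k _)
  · intro hg
    ext x
    exact x.2 g hg

theorem isZ : IsZ (act Ω J).range (Fix Ω J) where
  trans := fun c d c' d' h1 h2 => by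
    obtain ⟨g, g1, g2⟩ := h.two' c d c' d' h1 h2
    exact ⟨⟨_, g, rfl⟩, g1, g2⟩
  three := by
    rintro ⟨_, g, rfl⟩ c d e h1 h2 h3 gc gd ge
    exact Subtype.ext (h.act_eq_one.2 (h.three g c d e h1 h2 h3 gc gd ge))
  faithful := fun g hg => Subtype.ext (Equiv.ext hg)

variable [Finite G] [Finite Ω]

theorem card_fix {p m : ℕ} (hp : p.Prime) (hU : Nat.card U = p ^ m) :
    ∃ f, 0 < f ∧ Nat.card (Fix Ω J) = p ^ f + 1 := by
  have := Fact.mk hp
  have hab : (⟨b, h.hb⟩ : Fix Ω J) ≠ ⟨a, h.ha⟩ := fun e => h.ne (congrArg Subtype.val e).symm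
  have k : IsKer (U.subgroupOf (centralizer (J : Set G))) (⟨a, h.ha⟩ : Fix Ω J) :=
    ⟨fun u hu => Subtype.ext (h.ker.fix u hu),
      fun g hg u hu => h.ker.conj g (congrArg Subtype.val hg) u hu,
      fun y z hy hz => by
        have hy' : (y : Ω) ≠ a := fun e => hy (Subtype.ext e)
        obtain ⟨u, hu, e⟩ := h.ker.trans y z hy' fun e => hz (Subtype.ext e)
        exact ⟨⟨u, mem_cent_of_ker h.ker h.ha y.2 hy' hu (e ▸ z.2)⟩, hu, Subtype.ext e⟩,
      fun u hu y hy e => Subtype.ext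
        (h.ker.free u hu y (fun e => hy (Subtype.ext e)) (congrArg Subtype.val e))⟩
  obtain ⟨f, hf⟩ := (IsPGroup.iff_card (p := p)).1
    ((IsPGroup.of_card hU).comap_subtype (K := centralizer (J : Set G)))
  have c := k.card_eq hab
  obtain ⟨c, hc, c1, c2⟩ := h.third
  have h3 : 2 < Nat.card (Fix Ω J) := by
    have := Fintype.ofFinite (Fix Ω J)
    rw [Nat.card_eq_fintype_card, Fintype.two_lt_card_iff]
    exact ⟨⟨a, h.ha⟩, ⟨b, h.hb⟩, ⟨c, hc⟩, hab.symm, fun e => c1 (congrArg Subtype.val e).symm,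
      fun e => c2 (congrArg Subtype.val e).symm⟩
  change Nat.card (U.subgroupOf _) = _ at hf
  refine ⟨f, Nat.pos_of_ne_zero ?_, by omega⟩
  rintro rfl
  rw [pow_zero] at hf
  omega

theorem odd_index {p m : ℕ} (hp : p.Prime) (hp2 : Odd p) (hU : Nat.card U = p ^ m) :
    Odd (centralizer (J : Set G)).index := by
  obtain ⟨f, f0, hf⟩ := h.card_fix hp hU
  have c1 := card_two h.two h.ne
  have c2 := card_two h.two' (a := ⟨a, h.ha⟩) (b := ⟨b, h.hb⟩) fun e => h.ne (congrArg Subtype.val e)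
  have c3 : stab2 (centralizer (J : Set G)) (⟨a, h.ha⟩ : Fix Ω J) ⟨b, h.hb⟩ =
      (stab2 G a b).subgroupOf (centralizer (J : Set G)) := by
    ext g
    rw [mem_stab2, mem_subgroupOf, mem_stab2, Subtype.ext_iff, Subtype.ext_iff]
    rfl
  rw [c3, Nat.card_congr (subgroupOfEquivOfLe h.H_le).toEquiv, hf, Nat.add_sub_cancel] at c2
  have c4 := h.ker.card_eq h.ne.symm
  have : Nonempty Ω := ⟨a⟩
  have c5 : Nat.card Ω = p ^ m + 1 := by have := Nat.card_pos (α := Ω); omega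
  rw [c5, Nat.add_sub_cancel, ← (centralizer (J : Set G)).card_mul_index, c2] at c1
  have c6 : (p ^ f + 1) * (p ^ f * (centralizer (J : Set G)).index) = (p ^ m + 1) * p ^ m :=
    Nat.eq_of_mul_eq_mul_right (Nat.card_pos (α := stab2 G a b)) (by linear_combination c1)
  have cop : (p ^ f + 1).Coprime (p ^ m) := by
    refine Nat.Coprime.pow_right _ ?_
    obtain ⟨f, rfl⟩ := Nat.exists_eq_add_of_lt f0
    rw [pow_succ, add_comm, Nat.coprime_add_mul_right_left]
    exact Nat.coprime_one_left _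
  obtain ⟨c, oc, hc⟩ := odd_quot hp2 hp.one_lt f0 m (cop.dvd_of_dvd_mul_right (c6 ▸ dvd_mul_right _ _))
  rw [hc, mul_assoc] at c6
  have := Nat.eq_of_mul_eq_mul_left (by positivity) c6
  have o : Odd (c * p ^ m) := oc.mul hp2.pow
  rw [← this] at o
  exact (Nat.odd_mul.1 o).2

omit [Finite G] [Finite Ω] in
theorem mem_pair {x g : G} (hx : x ∈ stab2 G a b) (hJ : x ∉ J) (hg : g ∈ centralizer (J : Set G))
    (h1 : x • g • a = g • a) (h2 : x • g • b = g • b) : g ∈ pairStab G a b := by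
  have k : ∀ c ∈ Fix Ω J, x • g • c = g • c → g • c = a ∨ g • c = b := fun c hc e => by
    by_contra hh
    push Not at hh
    exact hJ (h.max x hx _ ((Fix Ω J).smul_mem ⟨g, hg⟩ hc) hh.1 hh.2 e)
  have ne : g • a ≠ g • b := fun e => h.ne (smul_left_cancel g e)
  rcases k a h.ha h1 with e1 | e1 <;> rcases k b h.hb h2 with e2 | e2
  exacts [absurd (e1.trans e2.symm) ne, Or.inl ⟨e1, e2⟩, Or.inr ⟨e1, e2⟩, absurd (e1.trans e2.symm) ne]

omit h [Finite G] [Finite Ω] in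
theorem pair_mul {x y : G} (hx : x ∈ pairStab G a b) (hy : y ∈ pairStab G a b)
    (h1 : x ∉ stab2 G a b) (h2 : y ∉ stab2 G a b) : x * y ∈ stab2 G a b := by
  obtain ⟨x1, x2⟩ := hx.resolve_left h1
  obtain ⟨y1, y2⟩ := hy.resolve_left h2
  exact mem_stab2.2 ⟨by rw [mul_smul, y1, x2], by rw [mul_smul, y2, x1]⟩

omit [Finite Ω] in
/-- the case that the generator of `S_{ab}` has order at least `4` modulo `J` -/
theorem rank_big {S : Subgroup G} (hS : IsSyl 2 S ⊤) (hSC : S ≤ centralizer (J : Set G)) {x : G}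
    (hxS : x ∈ S) (hx : x ∈ stab2 G a b) (hJ : x * x ∉ J) : PRankLE 2 2 G := by
  have hle : S ≤ pairStab G a b := by
    by_contra hn
    obtain ⟨g, ⟨gS, gN⟩, hg⟩ := SetLike.exists_of_lt (lt_inf_normalizer_of_lt hS.isPGroup
      (Q := S ⊓ pairStab G a b) (inf_lt_left.2 hn))
    have m : g⁻¹ * x * g ∈ S ⊓ pairStab G a b := by
      have := (mem_normalizer_iff.1 (inv_mem gN) x).1 ⟨hxS, stab2_le_pairStab a b hx⟩
      rwa [inv_inv] at this
    have m2 : g⁻¹ * x * g * (g⁻¹ * x * g) ∈ stab2 G a b := by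
      by_cases e : g⁻¹ * x * g ∈ stab2 G a b
      · exact mul_mem e e
      · exact pair_mul m.2 m.2 e e
    rw [show g⁻¹ * x * g * (g⁻¹ * x * g) = g⁻¹ * (x * x) * g by group, mem_stab2, mul_smul, mul_smul,
      mul_smul _ g, mul_smul _ (x * x), inv_smul_eq_iff, inv_smul_eq_iff] at m2
    exact hg ⟨gS, h.mem_pair (mul_mem hx hx) hJ (hSC gS) m2.1 m2.2⟩
  by_contra hr
  have := h.cyc
  obtain ⟨t, ht⟩ : ∃ t : G, ∀ s ∈ stab2 G a b, s * s = 1 → s ≠ 1 → s = t := by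
    by_cases e : ∃ t ∈ stab2 G a b, t * t = 1 ∧ t ≠ 1
    · obtain ⟨t, t1, t2, t3⟩ := e
      exact ⟨t, fun s s1 s2 s3 => cyc_inv h.cyc s s1 t t1 s2 t2 s3 t3⟩
    · exact ⟨1, fun s s1 s2 s3 => absurd ⟨s, s1, s2, s3⟩ e⟩
  obtain ⟨c, hc, d, hd, hcd, n1, n2, n3⟩ := exists_tri hS hr (t := t)
  exact n3 (ht _ (pair_mul (hle hc) (hle hd) (fun e => n1 (ht c e hcd.sa hcd.na))
    (fun e => n2 (ht d e hcd.sb hcd.nb))) hcd.mul.sb hcd.mul.nb)

omit [Finite Ω] in
/-- the case that the generator of `S_{ab}` has order `2` modulo `J` -/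
theorem pp_mid {S : Subgroup G} (hS : IsPGroup 2 S) (hSC : S ≤ centralizer (J : Set G)) {x : G}
    (hxS : x ∈ S) (hx : x ∈ stab2 G a b) (hgen : ∀ s ∈ S, s ∈ stab2 G a b → s ∈ zpowers x)
    (hJ : x ∉ J) (hJ2 : x * x ∈ J) : PP ((act Ω J).comp (inclusion hSC)).range := by
  classical
  set f := (act Ω J).comp (inclusion hSC) with hf
  have fk : ∀ s : S, f s = 1 ↔ (s : G) ∈ J := fun s => h.act_eq_one
  have hX : IsPGroup 2 f.range := hS.of_surjective _ f.rangeRestrict_surjective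
  have := Finite.of_surjective _ f.rangeRestrict_surjective
  set y : f.range := f.rangeRestrict ⟨x, hxS⟩ with hy
  have y1 : y ≠ 1 := fun e => hJ ((fk ⟨x, hxS⟩).1 (congrArg Subtype.val e))
  have y2 : y * y = 1 := by
    rw [hy, ← map_mul]; exact Subtype.ext ((fk _).2 hJ2)
  have k0 : ∀ s : S, (s : G) ∈ stab2 G a b → f.rangeRestrict s ∈ zpowers y := fun s hs => by
    obtain ⟨k, hk⟩ := hgen s s.2 hs
    exact ⟨k, by rw [hy]; simp only; rw [← map_zpow]; congr 1; exact Subtype.ext hk⟩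
  have k1 : ∀ s : S, f.rangeRestrict s ∈ centralizer ({y} : Set f.range) →
      (s : G) ∈ pairStab G a b := fun s hs => by
    have e : f (s * ⟨x, hxS⟩) = f (⟨x, hxS⟩ * s) := by
      rw [map_mul, map_mul]; exact congrArg Subtype.val (mem_c1.1 hs)
    have e' : ∀ c : Fix Ω J, ((s : G) * x) • (c : Ω) = (x * s) • (c : Ω) := fun c =>
      congrArg Subtype.val (DFunLike.congr_fun e c)
    refine h.mem_pair hx hJ (hSC s.2) ?_ ?_
    · rw [← mul_smul, ← e' ⟨a, h.ha⟩, mul_smul, (mem_stab2.1 hx).1]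
    · rw [← mul_smul, ← e' ⟨b, h.hb⟩, mul_smul, (mem_stab2.1 hx).2]
  refine pp_of_top (pp_of_cent hX (ord2 y2 y1) ?_)
  have hle : zpowers y ≤ centralizer {y} := zpowers_le.2 (mem_c1.2 rfl)
  have c := (zpowers y).subgroupOf (centralizer ({y} : Set f.range)) |>.card_mul_index
  rw [Nat.card_congr (subgroupOfEquivOfLe hle).toEquiv, Nat.card_zpowers, ord2 y2 y1] at c
  have d : ((zpowers y).subgroupOf (centralizer ({y} : Set f.range))).index ∣ 2 := by
    rw [index_dvd_two_iff]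
    by_cases e : ∃ s : S, f.rangeRestrict s ∈ centralizer ({y} : Set f.range) ∧
        (s : G) ∉ stab2 G a b
    · obtain ⟨s, s1, s2⟩ := e
      refine ⟨⟨_, s1⟩, fun ⟨z, hz⟩ => ?_⟩
      obtain ⟨r, rfl⟩ := f.rangeRestrict_surjective z
      by_cases e : (r : G) ∈ stab2 G a b
      · exact Or.inr (k0 r e)
      · left
        rw [mem_subgroupOf, coe_mul, ← map_mul]
        exact k0 _ (pair_mul (k1 r hz) (k1 s s1) e s2)
    · push Not at e
      refine ⟨1, fun ⟨z, hz⟩ => Or.inr ?_⟩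
      obtain ⟨r, rfl⟩ := f.rangeRestrict_surjective z
      exact k0 r (e r hz)
  have := Nat.le_of_dvd two_pos d
  omega

/-- the case that `S_{ab} ≤ J` -/
theorem pp_small {p m : ℕ} (hp : p.Prime) (hp2 : Odd p) (hU : Nat.card U = p ^ m) {S T : Subgroup G}
    (hS : IsPGroup 2 S) (hSC : S ≤ centralizer (J : Set G)) (hT : IsSyl 2 T (stab2 G a b))
    (hJ : T ≤ J) : PP ((act Ω J).comp (inclusion hSC)).range := by
  obtain ⟨f, f0, hf⟩ := h.card_fix hp hU
  have hab : (⟨a, h.ha⟩ : Fix Ω J) ≠ ⟨b, h.hb⟩ := fun e => h.ne (congrArg Subtype.val e)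
  have hle : ((act Ω J).comp (inclusion hSC)).range ≤ (act Ω J).range := by
    rintro _ ⟨s, rfl⟩; exact ⟨_, rfl⟩
  have hX : IsPGroup 2 ((act Ω J).comp (inclusion hSC)).range :=
    hS.of_surjective _ (MonoidHom.rangeRestrict_surjective _)
  have ho : Odd (Nat.card (stab2 (act Ω J).range (⟨a, h.ha⟩ : Fix Ω J) ⟨b, h.hb⟩)) := by
    let φ : stab2 G a b →* (act Ω J).range := (act Ω J).rangeRestrict.comp (inclusion h.H_le)
    have e : stab2 (act Ω J).range (⟨a, h.ha⟩ : Fix Ω J) ⟨b, h.hb⟩ = φ.range := by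
      ext ⟨_, g, rfl⟩
      rw [mem_stab2]
      constructor
      · rintro ⟨h1, h2⟩
        exact ⟨⟨g, mem_stab2.2 ⟨congrArg Subtype.val h1, congrArg Subtype.val h2⟩⟩, rfl⟩
      · rintro ⟨⟨k, hk⟩, e⟩
        rw [← e]
        exact ⟨Subtype.ext (mem_stab2.1 hk).1, Subtype.ext (mem_stab2.1 hk).2⟩
    rw [e, ← index_ker]
    have d : φ.ker.index ∣ T.relIndex (stab2 G a b) := index_dvd_of_le fun t ht =>
      Subtype.ext (h.act_eq_one.2 (hJ ht))
    exact Odd.of_dvd_nat (Nat.odd_iff.2 (Nat.two_dvd_ne_zero.1 hT.not_dvd_relIndex)) d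
  have := (pp_isZ h.isZ hab ho (by rw [hf]; exact hp2.pow.add_one)
    (((act Ω J).comp (inclusion hSC)).range.subgroupOf (act Ω J).range)
    hX.comap_subtype).map (subtype_injective _)
  rwa [map_subgroupOf_eq_of_le hle] at this

theorem rank [IsSimpleGroup G] (hG : ¬ ∀ x y : G, x * y = y * x) {p m : ℕ} (hp : p.Prime) (hp2 : Odd p)
    (hU : Nat.card U = p ^ m) (h8 : 8 ∣ Nat.card (stab2 G a b)) : PRankLE 2 2 G := by
  obtain ⟨T, hT⟩ := exists_isSyl 2 (stab2 G a b)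
  obtain ⟨S, hS0, hTS⟩ := exists_isSyl_ge hT.isPGroup (hT.le.trans h.H_le)
  have hSC := hS0.le
  have hS : IsSyl 2 S ⊤ := isSyl_of_not_dvd_relIndex le_top hS0.isPGroup (by
    rw [relIndex_top_right, ← relIndex_mul_index hSC, Nat.prime_two.dvd_mul, not_or]
    exact ⟨hS0.not_dvd_relIndex, (h.odd_index hp hp2 hU).not_two_dvd_nat⟩)
  have hST : S ⊓ stab2 G a b = T := hT.eq_of_le hS.isPGroup.to_inf_left (le_inf hTS hT.le) inf_le_right
  have := h.cyc
  have hc : IsCyclic T := isCyclic_of_le hT.le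
  obtain ⟨⟨x, hx⟩, hgen⟩ := hc.exists_generator
  have hgen' : ∀ s ∈ T, s ∈ zpowers x := fun s hs => by
    obtain ⟨k, hk⟩ := hgen ⟨s, hs⟩
    exact ⟨k, congrArg Subtype.val hk⟩
  by_cases h1 : x * x ∈ J
  swap
  · exact h.rank_big hS hSC (hTS hx) (hT.le hx) h1
  have hP : PP ((act Ω J).comp (inclusion hSC)).range := by
    by_cases h2 : x ∈ J
    · exact h.pp_small hp hp2 hU hS.isPGroup hSC hT fun s hs => zpowers_le.2 h2 (hgen' s hs)
    · exact h.pp_mid hS.isPGroup hSC (hTS hx) (hT.le hx) (fun s h1 h2 => hgen' s (hST ▸ ⟨h1, h2⟩)) h2 h1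
  obtain ⟨r, hr⟩ := (IsPGroup.iff_card (p := 2)).1 hT.isPGroup
  have ox : orderOf x = 2 ^ r := by
    rw [← hr, ← Nat.card_zpowers, le_antisymm (zpowers_le.2 hx) hgen']
  obtain ⟨r, rfl⟩ : ∃ s, r = s + 3 := by
    have c := (T.subgroupOf (stab2 G a b)).card_mul_index
    rw [Nat.card_congr (subgroupOfEquivOfLe hT.le).toEquiv, hr] at c
    rw [← c, show 8 = 2 ^ 3 from rfl] at h8
    have := (Nat.Coprime.pow_left 3 ((Nat.prime_two.coprime_iff_not_dvd).2
      hT.not_dvd_relIndex)).dvd_of_dvd_mul_right h8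
    exact ⟨r - 3, by have := (Nat.pow_dvd_pow_iff_le_right one_lt_two).1 this; omega⟩
  have jJ : (x * x) ^ 2 ^ r ∈ J := pow_mem h1 _
  have jT : (x * x) ^ 2 ^ r ∈ T := pow_mem (mul_mem hx hx) _
  have oj : orderOf ((x * x) ^ 2 ^ r) = 4 := by
    rw [← sq, ← pow_mul, ← pow_succ', orderOf_pow_of_dvd (by positivity) (ox ▸ pow_dvd_pow 2 (by omega)),
      ox, Nat.pow_div (by omega) two_pos, show r + 3 - (r + 1) = 2 by omega]
    rfl
  generalize (x * x) ^ 2 ^ r = j at jJ jT oj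
  have j4 : j * j * (j * j) = 1 := by
    rw [← pow_orderOf_eq_one j, oj]; simp [pow_succ, mul_assoc]
  have j2 : j * j ≠ 1 := fun e => by
    have := orderOf_dvd_of_pow_eq_one (x := j) (n := 2) (by rw [sq, e])
    rw [oj] at this
    omega
  have cen : ∀ z ∈ J, ∀ s ∈ S, s * z = z * s := fun z hz s hs =>
    (mem_centralizer_iff.1 (hSC hs) z hz).symm
  obtain ⟨g, g1, g2⟩ := S3279.not_isolated hG hS.toSylowTop (ord2 j4 j2)
  refine rank_of_ext hS _ hP (hTS jT) j4 j2 (cen j jJ) (h.act_eq_one.2 (mul_mem jJ jJ))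
    (fun z hz => ?_) g1 g2 (isConj_iff.2 ⟨g, rfl⟩)
  have zJ : (z : G) ∈ J := h.act_eq_one.1 hz
  refine ⟨cen z zJ, fun z2 => or_iff_not_imp_left.2 fun z1 => ?_⟩
  exact cyc_inv h.cyc _ (h.le zJ) _ (h.le (mul_mem jJ jJ)) z2 j4 (fun e => z1 (Subtype.ext e)) j2

end Sit

/-- A simple doubly transitive group whose point stabilizer has a regular normal `p`-subgroup, `p` odd,
on the other points, with cyclic two-point stabilizer of order divisible by `8`, has `2`-rank `≤ 2`. -/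
theorem rank_le {G Ω : Type*} [Group G] [MulAction G Ω] [Finite G] [Finite Ω] [IsSimpleGroup G]
    (hG : ¬ ∀ x y : G, x * y = y * x)
    (two : ∀ a b c d : Ω, a ≠ b → c ≠ d → ∃ g : G, g • a = c ∧ g • b = d) {a b : Ω} (hab : a ≠ b)
    {U : Subgroup G} (ker : IsKer U a) (cyc : IsCyclic (stab2 G a b)) {p m : ℕ} (hp : p.Prime)
    (hp2 : Odd p) (hm : 0 < m) (hU : Nat.card U = p ^ m) (h8 : 8 ∣ Nat.card (stab2 G a b)) :
    PRankLE 2 2 G := by
  have h3 : ∃ c : Ω, c ≠ a ∧ c ≠ b := by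
    have c := ker.card_eq hab.symm
    have := Nat.one_lt_pow hm.ne' hp.one_lt
    have := Fintype.ofFinite Ω
    obtain ⟨x, y, z, h1, h2, h3⟩ := Fintype.two_lt_card_iff.1
      (show 2 < Fintype.card Ω by rw [← Nat.card_eq_fintype_card]; omega)
    by_contra hh
    push Not at hh
    by_cases e1 : x = a
    · exact h3 ((hh y (e1 ▸ h1.symm)).trans (hh z (e1 ▸ h2.symm)).symm)
    by_cases e2 : y = a
    · exact h2 ((hh x e1).trans (hh z (e2 ▸ h3.symm)).symm)
    exact h1 ((hh x e1).trans (hh y e2).symm)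
  obtain ⟨J, ⟨J1, J2⟩, hJ⟩ := (Set.toFinite {J : Subgroup G | J ≤ stab2 G a b ∧
      ∃ c ∈ Fix Ω J, c ≠ a ∧ c ≠ b}).exists_maximal ⟨⊥, bot_le, by
    obtain ⟨c, hc⟩ := h3
    exact ⟨c, fun x hx => by rw [mem_bot.1 hx, one_smul], hc⟩⟩
  refine Sit.rank (J := J) ⟨two, hab, ker, cyc, J1, J2, fun x hx c hc c1 c2 e => ?_⟩ hG hp hp2 hU h8
  refine hJ (y := J ⊔ zpowers x) ⟨sup_le J1 (zpowers_le.2 hx), c, ?_, c1, c2⟩ le_sup_left
    (mem_sup_right (mem_zpowers x))
  exact (sup_le hc (zpowers_le.2 e) : J ⊔ zpowers x ≤ stabilizer G c)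

end Cfsg.Agent.H65.UO
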