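import Mathlib
import Cfsg.Agent.H65.UOddC
import Cfsg.Agent.H65.UOddD
import Cfsg.Agent.S0322

/-!
# Split `(B,N)`-pairs of rank one of odd unitary type have `2`-rank at most `2`
-/

set_option autoImplicit false

namespace Cfsg.Agent.H65.UO

open Subgroup MulAction Cfsg.Agent.H61

/-- The permutation group form of a split `(B,N)`-pair of rank one. -/
theorem bn_perm {G : Type*} [Group G] [Finite G] (P : BNPair G) (h1 : P.rank = 1)
    (U : Subgroup G) (hUB : U ≤ P.B) (hUn : ∀ b ∈ P.B, ∀ u ∈ U, b * u * b⁻¹ ∈ U)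
    (hsplit : U ⊔ (P.B ⊓ P.N) = P.B) (hdisj : U ⊓ (P.B ⊓ P.N) = ⊥)
    (hind : P.B.index = Nat.card U + 1) :
    (∀ a b c d : G ⧸ P.B, a ≠ b → c ≠ d → ∃ g : G, g • a = c ∧ g • b = d) ∧
      ∃ a b : G ⧸ P.B, a ≠ b ∧ IsKer U a ∧ stab2 G a b = P.B ⊓ P.N := by
  obtain ⟨w, hw⟩ : ∃ w, P.S = {w} := Set.ncard_eq_one.1 h1
  have wS : w ∈ P.S := hw ▸ rfl
  have wB : w ∉ P.B := fun h => P.conj_ne w wS (by
    ext g
    constructor
    · rintro ⟨b, hb, rfl⟩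
      exact P.B.mul_mem (P.B.mul_mem h hb) h
    · exact fun hg => ⟨w⁻¹ * g * w⁻¹, P.B.mul_mem (P.B.mul_mem (P.B.inv_mem h) hg) (P.B.inv_mem h),
        by simp [mul_assoc]⟩)
  have two : ∀ a b c d : G ⧸ P.B, a ≠ b → c ≠ d → ∃ g : G, g • a = c ∧ g • b = d :=
    fun _ _ _ _ h2 h3 => is_two_pretransitive_iff.1 (S0322.result P h1) h2 h3
  set a : G ⧸ P.B := ((1 : G) : G ⧸ P.B) with ha
  set b : G ⧸ P.B := (w : G ⧸ P.B) with hb
  have hab : a ≠ b := fun e => wB (by simpa using QuotientGroup.eq.1 e)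
  have fa : ∀ g : G, g • a = a ↔ g ∈ P.B := fun g => by
    rw [← mem_stabilizer_iff, ha, stabilizer_quotient]
  have hle : P.B ⊓ P.N ≤ stab2 G a b := fun t ht => mem_stab2.2 ⟨(fa t).2 ht.1, by
    have := P.conj_mem _ (P.N.inv_mem (P.subset wS)) t⁻¹ (inv_mem ht)
    exact QuotientGroup.eq.2 (by simpa [mul_assoc] using this)⟩
  have dec : ∀ g ∈ P.B, ∃ u ∈ U, ∃ t ∈ P.B ⊓ P.N, u * t = g := fun g hg =>
    (H85.mem_sup_of_le_normalizer (A := U) (B := P.B ⊓ P.N)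
      (fun t ht => H72.mem_norm (hUn t ht.1))).1 (by rw [hsplit]; exact hg)
  have cB : Nat.card P.B = Nat.card U * Nat.card ↥(P.B ⊓ P.N) := by
    rw [← Nat.card_prod]
    refine (Nat.card_congr (Equiv.ofBijective (fun x : U × ↥(P.B ⊓ P.N) =>
      (⟨x.1 * x.2, P.B.mul_mem (hUB x.1.2) x.2.2.1⟩ : P.B)) ⟨?_, fun g => ?_⟩)).symm
    · rintro ⟨u, t⟩ ⟨v, s⟩ e
      have e : (u : G) * t = v * s := congrArg Subtype.val e
      have e1 : (v : G)⁻¹ * u = s * (t : G)⁻¹ := by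
        rw [inv_mul_eq_iff_eq_mul, ← mul_assoc, ← e, mul_inv_cancel_right]
      have m : (v : G)⁻¹ * u ∈ U ⊓ (P.B ⊓ P.N) :=
        ⟨U.mul_mem (U.inv_mem v.2) u.2, e1 ▸ (P.B ⊓ P.N).mul_mem s.2 ((P.B ⊓ P.N).inv_mem t.2)⟩
      rw [hdisj, mem_bot] at m
      rw [m, eq_comm, mul_inv_eq_one] at e1
      exact Prod.ext (Subtype.ext (inv_mul_eq_one.1 m).symm) (Subtype.ext e1.symm)
    · obtain ⟨u, hu, t, ht, e⟩ := dec g g.2
      exact ⟨(⟨u, hu⟩, ⟨t, ht⟩), Subtype.ext e⟩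
  have hH : stab2 G a b = P.B ⊓ P.N := by
    refine (eq_of_le_of_card_ge hle (le_of_eq ?_)).symm
    have c := card_two two hab
    rw [← P.B.index_mul_card, cB, ← index_eq_card, hind, Nat.add_sub_cancel] at c
    exact (Nat.eq_of_mul_eq_mul_left Nat.card_pos (Nat.eq_of_mul_eq_mul_left (by omega) c)).symm
  have orb : ∀ y, y ≠ a → ∃ u ∈ U, u • b = y := fun y hy => by
    obtain ⟨g, g1, g2⟩ := two a b a y hab hy.symm
    obtain ⟨u, hu, t, ht, rfl⟩ := dec g ((fa g).1 g1)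
    exact ⟨u, hu, by rw [← g2, mul_smul, (mem_stab2.1 (hle ht)).2]⟩
  refine ⟨two, a, b, hab, ⟨fun u hu => (fa u).2 (hUB hu), fun g hg => hUn g ((fa g).1 hg),
    fun y z hy hz => ?_, fun u hu y hy e => ?_⟩, hH⟩
  · obtain ⟨u, hu, rfl⟩ := orb y hy
    obtain ⟨v, hv, rfl⟩ := orb z hz
    exact ⟨v * u⁻¹, U.mul_mem hv (U.inv_mem hu), by rw [mul_smul, inv_smul_smul]⟩
  · obtain ⟨v, hv, rfl⟩ := orb y hy
    have m0 : v⁻¹ * u * v ∈ U := U.mul_mem (U.mul_mem (U.inv_mem hv) hu) hv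
    have m : v⁻¹ * u * v ∈ U ⊓ (P.B ⊓ P.N) := ⟨m0, hH ▸ mem_stab2.2 ⟨(fa _).2 (hUB m0), by
      rw [mul_smul, mul_smul, e, inv_smul_smul]⟩⟩
    rw [hdisj, mem_bot] at m
    simpa [mul_assoc] using congrArg (fun x => v * x * v⁻¹) m

theorem bn_rank {G : Type*} [Group G] [Finite G] [IsSimpleGroup G]
    (P : BNPair G) (h1 : P.rank = 1) {p n : ℕ} (hp : p.Prime) (hp2 : p ≠ 2) (hn : 1 ≤ n)
    (U : Subgroup G) (hUB : U ≤ P.B) (hUn : ∀ b ∈ P.B, ∀ u ∈ U, b * u * b⁻¹ ∈ U)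
    (hsplit : U ⊔ (P.B ⊓ P.N) = P.B) (hdisj : U ⊓ (P.B ⊓ P.N) = ⊥)
    (hind : P.B.index = p ^ (3 * n) + 1) (hU : Nat.card U = p ^ (3 * n))
    (hHc : IsCyclic ↥(P.B ⊓ P.N))
    (hH : Nat.gcd 3 (p ^ n + 1) * Nat.card ↥(P.B ⊓ P.N) = p ^ (2 * n) - 1) :
    ¬ IsMulCommutative G ∧ PRankLE 2 2 G ∧ Ord (Nat.card G) p n := by
  have op : Odd p := hp.odd_of_ne_two hp2
  obtain ⟨two, a, b, hab, ker, hs⟩ := bn_perm P h1 U hUB hUn hsplit hdisj (hU ▸ hind)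
  have hG : ¬ ∀ x y : G, x * y = y * x := fun hc => by
    have h0 := Nat.one_lt_pow (show 3 * n ≠ 0 by omega) hp.one_lt
    rcases (show U.Normal from ⟨fun u hu g => by rwa [hc g u, mul_inv_cancel_right]⟩).eq_bot_or_eq_top
      with e | e
    · rw [e, card_bot] at hU; omega
    · rw [e, top_le_iff] at hUB
      rw [hUB, index_top] at hind; omega
  refine ⟨fun hc => hG hc.1.1, rank_le hG two hab ker (hs ▸ hHc) hp op (by omega) hU ?_, hp, op, hn, ?_⟩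
  · rw [hs]
    have d : 8 ∣ p ^ (2 * n) - 1 := by
      obtain ⟨s, hs⟩ := op.pow (n := n)
      obtain ⟨t, ht⟩ := Nat.even_mul_succ_self s
      refine ⟨t, ?_⟩
      rw [mul_comm, pow_mul, hs, Nat.sub_eq_iff_eq_add (Nat.one_le_pow _ _ (by omega))]
      linear_combination 4 * ht
    refine Nat.Coprime.dvd_of_dvd_mul_left ?_ (hH ▸ d)
    rcases gcd3 (p ^ n + 1) with e | e <;> rw [e] <;> norm_num
  · rw [card_two two hab, ← index_eq_card, hind, Nat.add_sub_cancel, hs, ← pow_mul, ← pow_mul,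
      mul_comm n 3, mul_comm n 2, ← hH]
    ring

end Cfsg.Agent.H65.UO
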