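import Mathlib

/-!
# Recognition of the affine group of the plane over the field with four elements
-/

set_option autoImplicit false

namespace Cfsg.Agent.H65.A45

open MulAction Subgroup

instance factF4 : Fact (∀ r : ZMod 2, r ^ 2 ≠ 1 + 1 * r) := ⟨by decide⟩

/-- the field with four elements -/
abbrev F4 : Type := QuadraticAlgebra (ZMod 2) 1 1

noncomputable instance fintypeF4 : Fintype F4 := Fintype.ofEquiv _ (QuadraticAlgebra.equivProd 1 1).symm

theorem card_F4 : Fintype.card F4 = 4 := by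
  rw [Fintype.card_congr (QuadraticAlgebra.equivProd (1 : ZMod 2) 1)]; simp

theorem card_aff : Finite ((Fin 2 → F4) ≃ᵃ[F4] (Fin 2 → F4)) ∧
    Nat.card ((Fin 2 → F4) ≃ᵃ[F4] (Fin 2 → F4)) ≤ 2880 := by
  refine ⟨Finite.of_injective _ AffineEquiv.toEquiv_injective, ?_⟩
  have e := (Matrix.GeneralLinearGroup.toLin (n := Fin 2) (R := F4)).trans
    (LinearMap.GeneralLinearGroup.generalLinearEquiv F4 (Fin 2 → F4))
  have : Finite ((Fin 2 → F4) ≃ₗ[F4] (Fin 2 → F4)) := Finite.of_equiv _ e.toEquiv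
  refine (Nat.card_le_card_of_injective (fun f : (Fin 2 → F4) ≃ᵃ[F4] (Fin 2 → F4) => (f 0, f.linear))
    fun f g h => AffineEquiv.ext fun x => ?_).trans ?_
  · have h1 := f.map_vadd 0 x
    have h2 := g.map_vadd 0 x
    simp only [Prod.mk.injEq] at h
    simp only [vadd_eq_add, add_zero] at h1 h2
    rw [h1, h2, h.1, h.2]
  · rw [Nat.card_prod, ← Nat.card_congr e.toEquiv, Matrix.card_GL_field, Nat.card_eq_fintype_card]
    simp [card_F4]

open scoped IsMulCommutative in
theorem agl {G Ω : Type*} [Group G] [Finite G] [MulAction G Ω] [FaithfulSMul G Ω] (a : Ω)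
    (N : Subgroup G) [hN : N.Normal] (hc : ∀ x ∈ N, x * x = 1) (ht : ∀ y, ∃ n ∈ N, n • a = y)
    (hr : ∀ n ∈ N, n • a = a → n = 1) (h16 : Nat.card N = 16) {ω : G}
    (hω : ∀ n ∈ N, ω * (ω * n * ω⁻¹) * ω⁻¹ = n * (ω * n * ω⁻¹))
    (hcen : ∀ g : G, g • a = a → g * ω = ω * g) (hG : Nat.card G = 2880) :
    Nonempty (G ≃* ((Fin 2 → F4) ≃ᵃ[F4] (Fin 2 → F4))) := by
  have comm : ∀ x ∈ N, ∀ y ∈ N, x * y = y * x := fun x hx y hy => by
    have h1 := inv_eq_of_mul_eq_one_right (hc _ (N.mul_mem hx hy))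
    rw [mul_inv_rev, inv_eq_of_mul_eq_one_right (hc x hx), inv_eq_of_mul_eq_one_right (hc y hy)] at h1
    exact h1.symm
  have : IsMulCommutative N := ⟨⟨fun x y => Subtype.ext (comm x x.2 y y.2)⟩⟩
  let _ : Module (ZMod 2) (Additive N) := AddCommGroup.zmodModule fun x => by
    rw [two_nsmul]; exact congrArg Additive.ofMul (Subtype.ext (hc _ x.toMul.2) : x.toMul * x.toMul = 1)
  let c : G → (Additive N →+ Additive N) := fun g =>
    MonoidHom.toAdditive (MulAut.conjNormal (H := N) g).toMonoidHom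
  have cv : ∀ g x, ((c g x).toMul : G) = g * x.toMul * g⁻¹ := fun g x => rfl
  have ext : ∀ x y : Additive N, (x.toMul : G) = y.toMul → x = y := fun x y h =>
    Additive.toMul.injective (Subtype.ext h)
  let u : Module.End (ZMod 2) (Additive N) := (c ω).toZModLinearMap 2
  let φ : F4 →ₐ[ZMod 2] Module.End (ZMod 2) (Additive N) := QuadraticAlgebra.lift ⟨u, by
    refine LinearMap.ext fun x => ext _ _ ?_
    simp only [one_smul]
    exact hω _ x.toMul.2⟩
  let _ : Module F4 (Additive N) := Module.compHom _ φ.toRingHom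
  have sm : ∀ (z : F4) (x : Additive N), z • x = z.re • x + z.im • c ω x := fun z x => rfl
  have hfr : Module.finrank F4 (Additive N) = Module.finrank F4 (Fin 2 → F4) := by
    have h1 := Module.natCard_eq_pow_finrank (K := F4) (V := Additive N)
    rw [Nat.card_eq_fintype_card (α := F4), card_F4, show Nat.card (Additive N) = 16 from h16] at h1
    rw [Module.finrank_fin_fun]
    exact (Nat.pow_right_injective (by norm_num : 2 ≤ 4) (h1.symm.trans (by norm_num)))
  let e : Additive N ≃ₗ[F4] (Fin 2 → F4) := LinearEquiv.ofFinrankEq _ _ hfr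
  have cc : ∀ g x, c g (c ω x) = c ω (c g x) := fun g x => ext _ _ (by
    obtain ⟨n, hn, e⟩ := ht (g • a)
    have h1 := hcen (n⁻¹ * g) (by rw [mul_smul, ← e, inv_smul_smul])
    have h2 : ∀ y ∈ N, g * y * g⁻¹ = (n⁻¹ * g) * y * (n⁻¹ * g)⁻¹ := fun y hy => by
      have := comm _ (hN.conj_mem y hy g) n hn
      rw [mul_inv_rev, inv_inv, mul_assoc n⁻¹, mul_assoc n⁻¹, ← mul_assoc _ g⁻¹, this, inv_mul_cancel_left]
    rw [cv, cv, cv, cv, h2 _ (hN.conj_mem _ x.toMul.2 ω), h2 _ x.toMul.2]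
    generalize n⁻¹ * g = k at h1
    calc _ = (k * ω) * x.toMul * (k * ω)⁻¹ := by group
      _ = _ := by rw [h1]; group)
  let L : G → (Additive N ≃ₗ[F4] Additive N) := fun g =>
    { toFun := c g
      map_add' := (c g).map_add
      map_smul' := fun z x => by
        simp only [sm, map_add, RingHom.id_apply, ZMod.map_smul, cc]
      invFun := c g⁻¹
      left_inv := fun x => ext _ _ (by rw [cv, cv]; group)
      right_inv := fun x => ext _ _ (by rw [cv, cv]; group) }
  let β : Additive N ≃ Ω := Equiv.ofBijective (fun x => (x.toMul : G) • a) ⟨fun x y h => ext _ _ (by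
    have := hr _ (N.mul_mem (N.inv_mem y.toMul.2) x.toMul.2) (by
      rw [mul_smul, inv_smul_eq_iff]; exact h)
    exact (inv_mul_eq_one.1 this).symm), fun y => by
      obtain ⟨n, hn, e⟩ := ht y
      exact ⟨Additive.ofMul ⟨n, hn⟩, e⟩⟩
  have βv : ∀ x, β x = (x.toMul : G) • a := fun x => rfl
  have act : ∀ (g : G) x, β.symm (g • β x) = c g x + β.symm (g • β 0) := fun g x => by
    rw [Equiv.symm_apply_eq, βv (_ + _), toMul_add, Subgroup.coe_mul, mul_smul, ← βv, Equiv.apply_symm_apply,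
      cv, βv, βv]
    simp [mul_smul]
  let Φ : G →* ((Fin 2 → F4) ≃ᵃ[F4] (Fin 2 → F4)) := MonoidHom.mk' (fun g =>
    AffineEquiv.mk' (fun x => e (β.symm (g • β (e.symm x)))) (e.symm ≪≫ₗ L g ≪≫ₗ e) 0 fun x => by
      rw [act, map_add, e.symm.map_zero]; simp [L]) fun g h => AffineEquiv.ext fun x => by
      change e (β.symm ((g * h) • β (e.symm x))) =
        e (β.symm (g • β (e.symm (e (β.symm (h • β (e.symm x)))))))
      simp [mul_smul]
  have hΦ : Function.Injective Φ := (injective_iff_map_eq_one Φ).2 fun g hg =>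
    FaithfulSMul.eq_of_smul_eq_smul (α := Ω) fun y => by
      have : Φ g (e (β.symm y)) = e (β.symm y) := by rw [hg]; rfl
      have h1 : e (β.symm (g • β (e.symm (e (β.symm y))))) = e (β.symm y) := this
      simpa using h1
  have := card_aff.1
  exact ⟨MulEquiv.ofBijective Φ (hΦ.bijective_of_nat_card_le (hG ▸ card_aff.2))⟩

end Cfsg.Agent.H65.A45
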