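import Mathlib
import Cfsg.Agent.H56.TTDefs2
import Cfsg.Agent.S0680

/-!
# Counting tools for doubly transitive actions on an invariant set
-/

set_option autoImplicit false

namespace Cfsg.Agent.H65.A45

open MulAction Subgroup

theorem dcount {α β : Type*} [Finite α] [Finite β] (s : Set α) (t : Set β) (r : α → β → Prop)
    (m n : ℕ) (hm : ∀ a ∈ s, {b | b ∈ t ∧ r a b}.ncard = m)
    (hn : ∀ b ∈ t, {a | a ∈ s ∧ r a b}.ncard = n) : s.ncard * m = t.ncard * n := by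
  classical
  have := Fintype.ofFinite α
  have := Fintype.ofFinite β
  rw [Set.ncard_eq_toFinset_card' s, Set.ncard_eq_toFinset_card' t]
  refine Finset.card_mul_eq_card_mul r (fun a ha => ?_) (fun b hb => ?_)
  · rw [← hm a (by simpa using ha), Set.ncard_eq_toFinset_card']
    congr 1; ext b; simp [Finset.mem_bipartiteAbove]
  · rw [← hn b (by simpa using hb), Set.ncard_eq_toFinset_card']
    congr 1; ext a; simp [Finset.mem_bipartiteBelow]

variable {G Ω : Type*} [Group G] [MulAction G Ω]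

theorem ncard_conj {K : Subgroup G} {X : Set G} (hX : ∀ k ∈ K, ∀ x ∈ X, k * x * k⁻¹ ∈ X) {g : G}
    (hg : g ∈ K) {P Q : G → Prop} (h : ∀ x, P x ↔ Q (g * x * g⁻¹)) :
    {x | x ∈ X ∧ P x}.ncard = {x | x ∈ X ∧ Q x}.ncard := by
  refine Set.ncard_congr (fun x _ => g * x * g⁻¹) (fun x hx => ⟨hX g hg x hx.1, (h x).1 hx.2⟩)
    (fun x y _ _ e => by simpa using e) (fun y hy => ⟨g⁻¹ * y * g, ⟨?_, (h _).2 ?_⟩, by group⟩)
  · simpa using hX g⁻¹ (K.inv_mem hg) y hy.1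
  · simpa [mul_assoc] using hy.2

theorem conj_smul_iff (g x : G) (p q : Ω) : (g * x * g⁻¹) • g • p = g • q ↔ x • p = q := by
  rw [mul_smul, inv_smul_smul, mul_smul, smul_left_cancel_iff]

/-- `K` is doubly transitive on `Φ`, seen from the pair `a, b`. -/
def TwoOn (K : Subgroup G) (Φ : Set Ω) (a b : Ω) : Prop :=
  ∀ c ∈ Φ, ∀ d ∈ Φ, c ≠ d → ∃ k ∈ K, k • a = c ∧ k • b = d

/-- The general count for an invariant set `X` of elements with `f` fixed points on `Φ`. -/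
theorem count [Finite G] [Finite Ω] {K : Subgroup G} {Φ : Set Ω} {a b : Ω} (ha : a ∈ Φ) (hb : b ∈ Φ)
    (hab : a ≠ b) (h2 : TwoOn K Φ a b) {X : Set G} (hX : ∀ k ∈ K, ∀ x ∈ X, k * x * k⁻¹ ∈ X)
    (hXa : ∀ x ∈ X, x • a ∈ Φ) {f : ℕ} (hf : ∀ x ∈ X, {c | c ∈ Φ ∧ x • c = c}.ncard = f) :
    {x | x ∈ X ∧ x • a = a}.ncard * (f - 1) =
        (Φ.ncard - 1) * {x | x ∈ X ∧ (x • a = a ∧ x • b = b)}.ncard ∧
      {x | x ∈ X ∧ (x • a = a ∧ x • b = b)}.ncard * Φ.ncard =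
        {x | x ∈ X ∧ (x • a = a ∧ x • b = b)}.ncard * f +
          {x | x ∈ X ∧ x • a = b}.ncard * (f * (f - 1)) := by
  set m := {x | x ∈ X ∧ x • a = a}.ncard with hm
  set j := {x | x ∈ X ∧ (x • a = a ∧ x • b = b)}.ncard with hj
  set j1 := {x | x ∈ X ∧ x • a = b}.ncard with hj1
  have hφ : (Φ \ {a}).ncard = Φ.ncard - 1 := Set.ncard_sdiff_singleton_of_mem ha
  have e1 : m * (f - 1) = (Φ.ncard - 1) * j := by
    rw [← hφ]
    refine dcount _ _ (fun x c => x • c = c) _ _ (fun x hx => ?_) (fun c hc => ?_)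
    · rw [← hf x hx.1, ← Set.ncard_sdiff_singleton_of_mem (a := a)
        (s := {c | c ∈ Φ ∧ x • c = c}) ⟨ha, hx.2⟩]
      congr 1; ext c; simp only [Set.mem_ofPred_eq, Set.mem_sdiff]; tauto
    · obtain ⟨k, hk, k1, k2⟩ := h2 a ha c hc.1 (fun e => hc.2 e.symm)
      rw [hj, ncard_conj hX hk (Q := fun x => x • a = a ∧ x • c = c)]
      · congr 1; ext x; simp only [Set.mem_ofPred_eq]; tauto
      · intro x
        rw [← conj_smul_iff k x a a, ← conj_smul_iff k x b b, k1, k2]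
  have e2 : X.ncard * f = Φ.ncard * m := by
    refine dcount _ _ (fun x c => x • c = c) _ _ hf (fun c hc => ?_)
    obtain ⟨k, hk, k1⟩ : ∃ k ∈ K, k • a = c := by
      by_cases hc' : c = a
      · exact ⟨1, K.one_mem, by rw [one_smul, hc']⟩
      · obtain ⟨k, hk, k1, -⟩ := h2 c hc a ha hc'
        exact ⟨k, hk, k1⟩
    exact (ncard_conj hX hk (Q := fun x => x • c = c) fun x => by
      rw [← conj_smul_iff k x a a, k1]).symm
  have e3 : {x | x ∈ X ∧ ¬ x • a = a}.ncard * 1 = (Φ.ncard - 1) * j1 := by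
    rw [← hφ]
    refine dcount _ _ (fun x c => x • a = c) _ _ (fun x hx => ?_) (fun c hc => ?_)
    · rw [Set.ncard_eq_one]
      refine ⟨x • a, Set.ext fun c => ⟨fun hc => hc.2.symm, fun hc => ?_⟩⟩
      rw [Set.mem_singleton_iff] at hc
      subst hc
      exact ⟨⟨hXa x hx.1, hx.2⟩, rfl⟩
    · obtain ⟨k, hk, k1, k2⟩ := h2 a ha c hc.1 (fun e => hc.2 e.symm)
      rw [hj1, ncard_conj hX hk (Q := fun x => x • a = c)]
      · congr 1; ext x; simp only [Set.mem_ofPred_eq]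
        exact ⟨fun h => ⟨h.1.1, h.2⟩, fun h => ⟨⟨h.1, fun e => hc.2 (h.2.symm.trans e)⟩, h.2⟩⟩
      · intro x
        rw [← conj_smul_iff k x a b, k1, k2]
  have e4 : X.ncard = m + {x | x ∈ X ∧ ¬ x • a = a}.ncard := by
    rw [hm, ← Set.ncard_union_eq (Set.disjoint_left.2 fun x h h' => h'.2 h.2)]
    congr 1; ext x; simp only [Set.mem_union, Set.mem_ofPred_eq]; tauto
  refine ⟨e1, ?_⟩
  have h2φ : 1 < Φ.ncard := (Set.one_lt_ncard (Set.toFinite _)).2 ⟨a, ha, b, hb, hab⟩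
  obtain ⟨p, hp⟩ : ∃ p, Φ.ncard = p + 1 := ⟨Φ.ncard - 1, by omega⟩
  rw [hp] at e1 e2 e3 h2φ ⊢
  rw [mul_one] at e3
  rw [e3] at e4
  rw [e4] at e2
  simp only [Nat.add_sub_cancel] at e1 e2
  rcases f with _ | f
  · have : j = 0 := by
      simp only [zero_tsub, mul_zero] at e1
      rcases Nat.mul_eq_zero.1 e1.symm with h | h <;> omega
    simp [this]
  · simp only [Nat.add_sub_cancel] at e1 ⊢
    refine Nat.eq_of_mul_eq_mul_left (show 0 < p by omega) ?_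
    have : p * (j * (p + 1)) = (p + 1) * m * f := by rw [mul_assoc, e1]; ring
    rw [this, ← e2]
    have : p * (j * (f + 1)) = m * f * (f + 1) := by rw [e1]; ring
    rw [mul_add p, this]; ring

/-- A sharply doubly transitive action on an invariant set has prime power degree. -/
theorem sharp [Finite Ω] {K : Subgroup G} {Φ : Set Ω} {a b : Ω} (ha : a ∈ Φ) (hb : b ∈ Φ)
    (hab : a ≠ b) (h2 : TwoOn K Φ a b) (hK : ∀ k ∈ K, ∀ c ∈ Φ, k • c ∈ Φ)
    (hs : ∀ k ∈ K, k • a = a → k • b = b → ∀ c ∈ Φ, k • c = c) :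
    ∃ p i : ℕ, p.Prime ∧ Φ.ncard = p ^ i := by
  classical
  let S : SubMulAction K Ω := ⟨Φ, fun k c hc => hK k k.2 c hc⟩
  have : Fintype S := Fintype.ofFinite _
  let R := (toPermHom K S).range
  have key : ∀ c d : S, c ≠ d → ∃ g : R, g • (⟨a, ha⟩ : S) = c ∧ g • (⟨b, hb⟩ : S) = d := by
    intro c d hcd
    obtain ⟨k, hk, k1, k2⟩ := h2 c c.2 d d.2 (fun e => hcd (Subtype.ext e))
    exact ⟨⟨_, ⟨k, hk⟩, rfl⟩, Subtype.ext k1, Subtype.ext k2⟩
  have : IsMultiplyPretransitive R S 2 := by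
    rw [is_two_pretransitive_iff]
    intro c d c' d' h1 h2
    obtain ⟨g, g1, g2⟩ := key c d h1
    obtain ⟨g', g1', g2'⟩ := key c' d' h2
    exact ⟨g' * g⁻¹, by rw [mul_smul, ← g1, inv_smul_smul, g1'], by rw [mul_smul, ← g2, inv_smul_smul, g2']⟩
  have hcard : Fintype.card S = Φ.ncard := by
    rw [← Nat.card_eq_fintype_card, ← Nat.card_coe_set_eq]; rfl
  suffices hst : ∀ x : Fin 2 ↪ S, stabilizer R x = ⊥ by
    obtain ⟨p, i, hp, -, e, -⟩ := Cfsg.Agent.S0680.result R hst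
      (by rw [hcard]; exact (Set.one_lt_ncard (Set.toFinite _)).2 ⟨a, ha, b, hb, hab⟩)
    exact ⟨p, i, hp, hcard ▸ e⟩
  · intro x
    rw [eq_bot_iff]
    intro g hg
    rw [mem_stabilizer_iff] at hg
    have h0 : g • x 0 = x 0 := congrArg (fun y : Fin 2 ↪ S => y 0) hg
    have h1 : g • x 1 = x 1 := congrArg (fun y : Fin 2 ↪ S => y 1) hg
    obtain ⟨r, r1, r2⟩ := key (x 0) (x 1) (fun e => absurd (x.injective e) (by decide))
    obtain ⟨⟨k, hk⟩, e⟩ := (r⁻¹ * g * r).2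
    have k1 : (r⁻¹ * g * r) • (⟨a, ha⟩ : S) = ⟨a, ha⟩ := by
      rw [mul_smul, mul_smul, r1, h0, ← r1, inv_smul_smul]
    have k2 : (r⁻¹ * g * r) • (⟨b, hb⟩ : S) = ⟨b, hb⟩ := by
      rw [mul_smul, mul_smul, r2, h1, ← r2, inv_smul_smul]
    have ev : ∀ c : S, (((r⁻¹ * g * r) • c : S) : Ω) = k • (c : Ω) := fun c => by
      change (((r⁻¹ * g * r : R) : Equiv.Perm S) c : Ω) = _
      rw [← e]; rfl
    have : r⁻¹ * g * r = 1 := by
      refine Subtype.ext (Equiv.ext fun c => Subtype.ext ?_)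
      exact (ev c).trans (hs k hk (by rw [← ev ⟨a, ha⟩, k1]) (by rw [← ev ⟨b, hb⟩, k2]) c c.2)
    rw [mem_bot]
    simpa [mul_eq_one_iff_eq_inv, inv_mul_eq_iff_eq_mul] using this

end Cfsg.Agent.H65.A45
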