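import Mathlib
import Cfsg.Agent.H65.A45Cnt
import Cfsg.Agent.H65.OddTwoA
import Cfsg.Agent.S2119

/-!
# Doubly transitive groups whose two-point stabiliser is `A₄` or `A₅`: the common setup
-/

set_option autoImplicit false

namespace Cfsg.Agent.H65.A45

open MulAction Subgroup Cfsg.Agent.H56.TT Cfsg.Agent.H63

universe u v

/-- Target of the odd degree case, `A₅`. -/
def OddA5Stmt : Prop :=
  ∀ (G : Type u) (Ω : Type v) [Group G] [Finite G] [Finite Ω] [MulAction G Ω] [FaithfulSMul G Ω],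
    Two G Ω → Odd (Nat.card Ω) → ∀ (a b : Ω), a ≠ b → ¬ RNS G Ω →
      Nonempty (DD G a b ≃* alternatingGroup (Fin 5)) →
      Nat.card Ω = 7 ∧ Nonempty (G ≃* alternatingGroup (Fin 7))

/-- Target of the odd degree case, `A₄`. -/
def OddA4Stmt : Prop :=
  ∀ (G : Type u) (Ω : Type v) [Group G] [Finite G] [Finite Ω] [MulAction G Ω] [FaithfulSMul G Ω],
    Two G Ω → Odd (Nat.card Ω) → ∀ (a b : Ω), a ≠ b →
      Nonempty (DD G a b ≃* alternatingGroup (Fin 4)) →
      (Nat.card Ω = 15 ∧ Nonempty (G ≃* alternatingGroup (Fin 7))) ∨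
        ∃ J : G, orderOf J = 2 ∧ centralizer ({J} : Set G) ⊔ Cfsg.oddCore G = ⊤

section Model

open Equiv Equiv.Perm

/-- The finite facts about the symmetric group of degree `m` (four or five). -/
structure Model (m j j0 : ℕ) (t v ρ : Perm (Fin m)) : Prop where
  st : sign t = 1
  sv : sign v = 1
  t2 : t * t = 1
  t1 : t ≠ 1
  v2 : v * v = 1
  v1 : v ≠ 1
  tv : t ≠ v
  comm : t * v = v * t
  cent : ∀ x : Perm (Fin m), sign x = 1 → x * t = t * x → x = 1 ∨ x = t ∨ x = v ∨ x = t * v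
  conj : ∀ x : Perm (Fin m), sign x = 1 → x * x = 1 → x ≠ 1 →
    ∃ d : Perm (Fin m), sign d = 1 ∧ d * t = x * d
  ρt : ρ * t = t * ρ
  ρv : ρ * v = t * v * ρ
  odd : ∀ x : Perm (Fin m), sign x ≠ 1 → x * x = 1 → ∃ d : Perm (Fin m), sign d = 1 ∧ d * ρ = x * d
  cnt : (Finset.univ.filter fun x : Perm (Fin m) => sign x ≠ 1 ∧ x * x = 1).card = j0
  ctr : ∀ x : Perm (Fin m), sign x = 1 → (∀ d : Perm (Fin m), sign d = 1 → x * d = d * x) → x = 1
  card : m.factorial = 8 * j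
  oddj : j % 2 = 1
  m4 : 4 ≤ m
  m6 : m ≠ 6

theorem model4 : Model 4 3 6 (swap 0 1 * swap 2 3) (swap 0 2 * swap 1 3) (swap 0 1) := by
  constructor <;> decide +kernel

theorem model5 : Model 5 15 10 (swap 0 1 * swap 2 3) (swap 0 2 * swap 1 3) (swap 0 1) := by
  constructor <;> decide +kernel

end Model

theorem ord2 {G : Type*} [Group G] {x : G} : orderOf x = 2 ↔ x * x = 1 ∧ x ≠ 1 := by
  have : Fact (Nat.Prime 2) := ⟨Nat.prime_two⟩
  rw [orderOf_eq_prime_iff, pow_two]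

theorem ord_conj {G : Type*} [Group G] (g x : G) : orderOf (g * x * g⁻¹) = orderOf x :=
  (MulAut.conj g).orderOf_eq x

/-- The common setup: `{1, t, v, t v}` is a self-centralising four-group of `D = G_ab`. -/
structure Set45 (G : Type u) {Ω : Type v} [Group G] [MulAction G Ω] (a b : Ω) (t v : G) (j : ℕ) :
    Prop where
  two : Two G Ω
  ne : a ≠ b
  tD : t ∈ DD G a b
  vD : v ∈ DD G a b
  ot : orderOf t = 2
  ov : orderOf v = 2
  tv : t ≠ v
  comm : t * v = v * t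
  cent : ∀ x ∈ DD G a b, x * t = t * x → x = 1 ∨ x = t ∨ x = v ∨ x = t * v
  conj : ∀ x ∈ DD G a b, orderOf x = 2 → ∃ d ∈ DD G a b, d * t * d⁻¹ = x
  card : Nat.card (DD G a b) = 4 * j
  oddj : Odd j
  ctr : ∀ x ∈ DD G a b, (∀ d ∈ DD G a b, x * d = d * x) → x = 1

variable {G : Type u} {Ω : Type v} [Group G] [MulAction G Ω]

theorem mem_DD {a b : Ω} {x : G} : x ∈ DD G a b ↔ x • a = a ∧ x • b = b := Iff.rfl

theorem conj_mem_DD {a b : Ω} {x : G} (g : G) : g * x * g⁻¹ ∈ DD G (g • a) (g • b) ↔ x ∈ DD G a b := by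
  rw [mem_DD, mem_DD, conj_smul_iff, conj_smul_iff]

theorem conj_mem_DD' {a b : Ω} {x : G} (g : G) : g⁻¹ * x * g ∈ DD G a b ↔ x ∈ DD G (g • a) (g • b) := by
  rw [← conj_mem_DD g]; simp [mul_assoc]

theorem card_DD_smul (a b : Ω) (g : G) : Nat.card (DD G (g • a) (g • b)) = Nat.card (DD G a b) :=
  Nat.card_congr ⟨fun x => ⟨g⁻¹ * x * g, (conj_mem_DD' g).2 x.2⟩,
    fun x => ⟨g * x * g⁻¹, (conj_mem_DD g).2 x.2⟩, fun x => Subtype.ext (by simp [mul_assoc]),
    fun x => Subtype.ext (by simp [mul_assoc])⟩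

theorem swap_of_inv {a b : Ω} {s : G} (hs : orderOf s = 2) (h : s • a = b) : s • b = a := by
  rw [← h, ← mul_smul, (ord2.1 hs).1, one_smul]

theorem swap_conj_mem {a b : Ω} {s x : G} (h1 : s • a = b) (h2 : s • b = a) (hx : x ∈ DD G a b) :
    s * x * s⁻¹ ∈ DD G a b := by
  have := (conj_mem_DD s).2 hx
  rw [h1, h2] at this
  exact ⟨this.2, this.1⟩

theorem swap_mul_mem {a b : Ω} {s x : G} (h1 : s • a = b) (h2 : s • b = a) (h3 : x • a = b)
    (h4 : x • b = a) : x * s⁻¹ ∈ DD G a b :=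
  mem_DD.2 ⟨by rw [mul_smul, inv_smul_eq_iff.2 h2.symm, h4],
    by rw [mul_smul, inv_smul_eq_iff.2 h1.symm, h3]⟩

theorem card_twoOn [Finite Ω] {K : Subgroup G} {Φ : Set Ω} {a b : Ω} (ha : a ∈ Φ) (hb : b ∈ Φ) (hab : a ≠ b)
    (h2 : TwoOn K Φ a b) (hK : ∀ k ∈ K, ∀ c ∈ Φ, k • c ∈ Φ) :
    Nat.card K = Φ.ncard * Nat.card ↥(K ⊓ stabilizer G a) ∧
      Nat.card ↥(K ⊓ stabilizer G a) = (Φ.ncard - 1) * Nat.card ↥(K ⊓ DD G a b) := by
  refine ⟨OT.card_orb K a fun y => ⟨fun hy => ?_, fun ⟨k, hk, e⟩ => e ▸ hK k hk a ha⟩, ?_⟩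
  · by_cases e : y = a
    · exact ⟨1, K.one_mem, by rw [one_smul, e]⟩
    · obtain ⟨k, hk, k1, -⟩ := h2 y hy a ha e
      exact ⟨k, hk, k1⟩
  · rw [← Set.ncard_sdiff_singleton_of_mem ha, ← inf_assoc]
    refine OT.card_orb _ b fun y => ⟨fun hy => ?_, fun ⟨k, hk, e⟩ => e ▸ ⟨hK k hk.1 b hb, fun e' => ?_⟩⟩
    · obtain ⟨k, hk, k1, k2⟩ := h2 a ha y hy.1 (fun e => hy.2 e.symm)
      exact ⟨k, ⟨hk, k1⟩, k2⟩
    · exact hab (smul_left_cancel k ((show k • a = a from hk.2).trans (Eq.symm e')))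

/-- the normaliser in `C(t)` of the four-group -/
def NV (t v : G) : Subgroup G := C1[t] ⊓ normalizer ({v, t * v} : Set G)

/-- the `C(t)`-conjugates of `v` and `t v` -/
def XV (t v : G) : Set G := {x | ∃ c, c * t = t * c ∧ (c * v * c⁻¹ = x ∨ c * (t * v) * c⁻¹ = x)}

namespace Set45

variable {a b : Ω} {t v : G} {j : ℕ} (h : Set45 G a b t v j)
include h

theorem t2 : t * t = 1 := (ord2.1 h.ot).1
theorem v2 : v * v = 1 := (ord2.1 h.ov).1
theorem t1 : t ≠ 1 := (ord2.1 h.ot).2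
theorem v1 : v ≠ 1 := (ord2.1 h.ov).2
theorem tinv : t⁻¹ = t := inv_eq_of_mul_eq_one_right h.t2
theorem vinv : v⁻¹ = v := inv_eq_of_mul_eq_one_right h.v2
theorem tv1 : t * v ≠ 1 := fun e => h.tv (by rw [← h.vinv]; exact eq_inv_of_mul_eq_one_left e)
theorem tv_ne_t : t * v ≠ t := fun e => h.v1 (by simpa using e)
theorem tv_ne_v : t * v ≠ v := fun e => h.t1 (by simpa using e)
theorem otv : orderOf (t * v) = 2 :=
  ord2.2 ⟨by rw [mul_assoc, ← mul_assoc v, ← h.comm, mul_assoc, h.v2, mul_one, h.t2], h.tv1⟩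

/-- transport of the setup -/
theorem smul (g : G) : Set45 G (g • a) (g • b) (g * t * g⁻¹) (g * v * g⁻¹) j where
  two := h.two
  ne := fun e => h.ne (smul_left_cancel g e)
  tD := (conj_mem_DD g).2 h.tD
  vD := (conj_mem_DD g).2 h.vD
  ot := by rw [ord_conj, h.ot]
  ov := by rw [ord_conj, h.ov]
  tv := fun e => h.tv (by simpa using e)
  comm := by
    have := congrArg (fun y => g * y * g⁻¹) h.comm
    simpa [mul_assoc] using this
  cent := fun x hx e => by
    have := h.cent _ ((conj_mem_DD' g).2 hx) (by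
      have := congrArg (fun y => g⁻¹ * y * g) e
      simpa [mul_assoc] using this)
    rcases this with e | e | e | e
    · left; have := congrArg (fun y => g * y * g⁻¹) e; simpa [mul_assoc] using this
    · right; left; rw [← e]; group
    · right; right; left; rw [← e]; group
    · right; right; right
      have := congrArg (fun y => g * y * g⁻¹) e; simpa [mul_assoc] using this
  conj := fun x hx e => by
    obtain ⟨d, hd, e⟩ := h.conj _ ((conj_mem_DD' g).2 hx) (by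
      rw [← e, ← ord_conj g⁻¹ x, inv_inv])
    refine ⟨g * d * g⁻¹, (conj_mem_DD g).2 hd, ?_⟩
    have := congrArg (fun y => g * y * g⁻¹) e
    simpa [mul_assoc] using this
  card := by rw [card_DD_smul, h.card]
  oddj := h.oddj
  ctr := fun x hx e => by
    have := h.ctr _ ((conj_mem_DD' g).2 hx) fun d hd => by
      have := congrArg (fun y => g⁻¹ * y * g) (e _ ((conj_mem_DD g).2 hd))
      simpa [mul_assoc] using this
    have := congrArg (fun y => g * y * g⁻¹) this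
    simpa [mul_assoc] using this

theorem conjD {d : G} (hd : d ∈ DD G a b) : Set45 G a b (d * t * d⁻¹) (d * v * d⁻¹) j := by
  have := h.smul d
  rwa [hd.1, hd.2] at this

/-- the other choice of `v` -/
theorem other : Set45 G a b t (t * v) j :=
  { h with
    vD := mul_mem h.tD h.vD
    ov := h.otv
    tv := h.tv_ne_t.symm
    comm := by rw [mul_assoc, ← h.comm]
    cent := fun x hx e => by
      rw [← mul_assoc, h.t2, one_mul]
      rcases h.cent x hx e with e | e | e | e <;> simp [e] }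

/-- An involution fixing two points is conjugate to `t`. -/
theorem isConj_of_fix {x : G} (hx : orderOf x = 2) {c d : Ω} (hcd : c ≠ d) (hc : x • c = c)
    (hd : x • d = d) : IsConj t x := by
  obtain ⟨g, g1, g2⟩ := h.two a b c d h.ne hcd
  obtain ⟨e, -, he⟩ := (h.smul g).conj x (by rw [g1, g2]; exact ⟨hc, hd⟩) hx
  exact isConj_iff.2 ⟨e * g, by rw [← he]; group⟩

/-- Witt's lemma for `t`. -/
theorem witt : TwoOn C1[t] (fixedBy Ω t) a b := fun c hc d hd hcd => by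
  obtain ⟨g, g1, g2⟩ := h.two a b c d h.ne hcd
  obtain ⟨e, he, ee⟩ := (h.smul g).conj t (by rw [g1, g2]; exact ⟨hc, hd⟩) h.ot
  rw [g1, g2] at he
  refine ⟨e * g, ?_, by rw [mul_smul, g1]; exact he.1, by rw [mul_smul, g2]; exact he.2⟩
  rw [mem_centralizer_singleton_iff, ← mul_inv_eq_iff_eq_mul]
  exact Eq.trans (by group) ee

/-- An element of `C(t)` moving `a, b` into the fixed set of `v` normalises the four-group. -/
theorem norm_of_fix {g : G} (hg : g * t = t * g) (h1 : v • g • a = g • a) (h2 : v • g • b = g • b) :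
    g * v * g⁻¹ = v ∨ g * v * g⁻¹ = t * v := by
  have e : g * t * g⁻¹ = t := by rw [hg]; simp
  have := (h.smul g).cent v ⟨h1, h2⟩ (by rw [e, h.comm])
  rw [e] at this
  rcases this with e | e | e | e
  · exact absurd e h.v1
  · exact absurd e h.tv.symm
  · exact Or.inl e.symm
  · right
    have := congrArg (fun y => t * y) e
    simp only [← mul_assoc t t, h.t2, one_mul] at this
    exact this.symm

theorem mem_NV {g : G} : g ∈ NV t v ↔ g * t = t * g ∧ (g * v * g⁻¹ = v ∨ g * v * g⁻¹ = t * v) := by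
  rw [NV, mem_inf, mem_centralizer_singleton_iff, Subgroup.mem_set_normalizer_iff]
  refine and_congr_right fun hg => ⟨fun H => by simpa using (H v).1 (by simp), fun H x => ?_⟩
  have e : g * (t * v) * g⁻¹ = t * (g * v * g⁻¹) := by rw [← mul_assoc, hg]; group
  simp only [Set.mem_insert_iff, Set.mem_singleton_iff]
  rcases H with H | H
  · rw [H] at e
    refine or_congr ⟨fun e => by rw [e, H], fun e' => by simpa using e'.trans H.symm⟩
      ⟨fun e' => by rw [e', e], fun e' => by simpa using e'.trans e.symm⟩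
  · rw [H, ← mul_assoc t t, h.t2, one_mul] at e
    rw [or_comm]
    refine or_congr ⟨fun e' => by rw [e', e], fun e' => by simpa using e'.trans e.symm⟩
      ⟨fun e => by rw [e, H], fun e' => by simpa using e'.trans H.symm⟩

/-- Witt's lemma for the four-group. -/
theorem witt2 : TwoOn (NV t v) (fixedBy Ω t ∩ fixedBy Ω v) a b := fun c hc d hd hcd => by
  obtain ⟨g, hg, g1, g2⟩ := h.witt c hc.1 d hd.1 hcd
  rw [mem_centralizer_singleton_iff] at hg
  exact ⟨g, h.mem_NV.2 ⟨hg, h.norm_of_fix hg (by rw [g1]; exact hc.2) (by rw [g2]; exact hd.2)⟩, g1, g2⟩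

theorem a_mem : a ∈ fixedBy Ω t ∩ fixedBy Ω v := ⟨h.tD.1, h.vD.1⟩
theorem b_mem : b ∈ fixedBy Ω t ∩ fixedBy Ω v := ⟨h.tD.2, h.vD.2⟩

theorem NV_smul {g : G} (hg : g ∈ NV t v) {c : Ω} (hc : c ∈ fixedBy Ω t ∩ fixedBy Ω v) :
    g • c ∈ fixedBy Ω t ∩ fixedBy Ω v := by
  obtain ⟨h1, h2⟩ := h.mem_NV.1 hg
  have e1 : t • g • c = g • c := by rw [← mul_smul, ← h1, mul_smul, hc.1]
  refine ⟨e1, ?_⟩
  have e2 : (g * v * g⁻¹) • g • c = g • c := (conj_smul_iff g v c c).2 hc.2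
  rcases h2 with h2 | h2
  · rwa [h2] at e2
  · rwa [h2, h.comm, mul_smul, e1] at e2

theorem fix_of_cent {x : G} (hx : x ∈ DD G a b) (e : x * t = t * x) {c : Ω}
    (hc : c ∈ fixedBy Ω t ∩ fixedBy Ω v) : x • c = c := by
  rcases h.cent x hx e with e | e | e | e <;> rw [e]
  · exact one_smul _ _
  · exact hc.1
  · exact hc.2
  · rw [mul_smul, hc.2, hc.1]

/-- The number of fixed points of the four-group is a prime power. -/
theorem prime_pow [Finite Ω] : ∃ p i : ℕ, p.Prime ∧ (fixedBy Ω t ∩ fixedBy Ω v).ncard = p ^ i :=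
  sharp h.a_mem h.b_mem h.ne h.witt2 (fun _ hk _ hc => h.NV_smul hk hc)
    fun _ hk k1 k2 _ hc => h.fix_of_cent ⟨k1, k2⟩ (h.mem_NV.1 hk).1 hc

theorem ncard_four : ({1, t, v, t * v} : Set G).ncard = 4 := by
  rw [Set.ncard_insert_of_notMem, Set.ncard_insert_of_notMem, Set.ncard_pair h.tv_ne_v.symm]
  · simp [h.tv, h.tv_ne_t.symm]
  · simp [h.t1.symm, h.v1.symm, h.tv1.symm]

theorem card_centD : Nat.card ↥(DD G a b ⊓ C1[t]) = 4 := by
  rw [← h.ncard_four, ← Nat.card_coe_set_eq]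
  refine Nat.card_congr (Equiv.setCongr (Set.ext fun x => ⟨fun hx => ?_, fun hx => ?_⟩))
  · exact h.cent x hx.1 (mem_centralizer_singleton_iff.1 hx.2)
  · rcases hx with e | e | e | e <;> rw [e]
    · exact one_mem _
    · exact ⟨h.tD, mem_centralizer_singleton_iff.2 rfl⟩
    · exact ⟨h.vD, mem_centralizer_singleton_iff.2 h.comm.symm⟩
    · exact ⟨mul_mem h.tD h.vD, mem_centralizer_singleton_iff.2 (by rw [mul_assoc, ← h.comm])⟩

theorem card_G [Finite Ω] : Nat.card G = Nat.card Ω * Nat.card (stabilizer G a) ∧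
    Nat.card (stabilizer G a) = (Nat.card Ω - 1) * (4 * j) := by
  have := card_twoOn (K := (⊤ : Subgroup G)) (Φ := Set.univ) trivial trivial h.ne (fun c _ d _ hcd => by
    obtain ⟨g, hg⟩ := h.two a b c d h.ne hcd
    exact ⟨g, trivial, hg⟩) fun _ _ _ _ => trivial
  rwa [top_inf_eq, top_inf_eq, h.card, Set.ncard_univ, Subgroup.card_top] at this

theorem card_C [Finite Ω] :
    Nat.card C1[t] = (fixedBy Ω t).ncard * Nat.card ↥(C1[t] ⊓ stabilizer G a) ∧
      Nat.card ↥(C1[t] ⊓ stabilizer G a) = ((fixedBy Ω t).ncard - 1) * 4 := by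
  have := card_twoOn h.a_mem.1 h.b_mem.1 h.ne h.witt fun k hk c hc => by
    rw [mem_fixedBy, ← mul_smul, ← mem_centralizer_singleton_iff.1 hk, mul_smul, hc]
  rwa [inf_comm _ (DD G a b), h.card_centD] at this

theorem card_NV [Finite Ω] :
    Nat.card (NV t v) = (fixedBy Ω t ∩ fixedBy Ω v).ncard * Nat.card ↥(NV t v ⊓ stabilizer G a) ∧
      Nat.card ↥(NV t v ⊓ stabilizer G a) = ((fixedBy Ω t ∩ fixedBy Ω v).ncard - 1) * 4 := by
  have := card_twoOn h.a_mem h.b_mem h.ne h.witt2 fun k hk c hc => h.NV_smul hk hc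
  have e : NV t v ⊓ DD G a b = DD G a b ⊓ C1[t] := by
    ext x
    refine ⟨fun hx => ⟨hx.2, hx.1.1⟩, fun hx => ⟨?_, hx.1⟩⟩
    have hc := mem_centralizer_singleton_iff.1 hx.2
    exact h.mem_NV.2 ⟨hc, h.norm_of_fix hc (by rw [hx.1.1]; exact h.vD.1) (by rw [hx.1.2]; exact h.vD.2)⟩
  rwa [e, h.card_centD] at this

/-- `D` contains `j` involutions. -/
theorem ninv : {x | x ∈ DD G a b ∧ orderOf x = 2}.ncard = j := by
  have := OT.card_cls (DD G a b) t (S := {x | x ∈ DD G a b ∧ orderOf x = 2}) fun y =>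
    ⟨fun hy => h.conj y hy.1 hy.2, fun ⟨k, hk, e⟩ =>
      e ▸ ⟨mul_mem (mul_mem hk h.tD) (inv_mem hk), by rw [ord_conj, h.ot]⟩⟩
  rw [h.card, h.card_centD] at this
  omega

theorem ninv' : {x | x ∈ {x | IsConj t x} ∧ (x • a = a ∧ x • b = b)}.ncard = j := by
  rw [← h.ninv]
  congr 1; ext x
  refine ⟨fun hx => ⟨hx.2, ?_⟩, fun hx => ⟨h.isConj_of_fix hx.2 h.ne hx.1.1 hx.1.2, hx.1⟩⟩
  obtain ⟨g, rfl⟩ := isConj_iff.1 hx.1
  rw [ord_conj, h.ot]

omit h in
theorem ncard_fix_conj (g x : G) : (fixedBy Ω (g * x * g⁻¹)).ncard = (fixedBy Ω x).ncard :=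
  (Set.ncard_congr (fun c _ => g • c) (fun c hc => (conj_smul_iff g x c c).2 hc)
    (fun _ _ _ _ e => smul_left_cancel g e) fun c hc => ⟨g⁻¹ • c, (conj_smul_iff g x _ _).1 (by
      rw [smul_inv_smul]; exact hc), smul_inv_smul g c⟩).symm

/-- COUNT for the class of `t`: `j (n - k) = j₁ k (k - 1)`. -/
theorem count1 [Finite G] [Finite Ω] : j * Nat.card Ω = j * (fixedBy Ω t).ncard +
    {x | IsConj t x ∧ x • a = b}.ncard * ((fixedBy Ω t).ncard * ((fixedBy Ω t).ncard - 1)) := by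
  have := (count (K := ⊤) (Φ := Set.univ) (X := {x | IsConj t x}) (f := (fixedBy Ω t).ncard)
    trivial trivial h.ne (fun c _ d _ hcd => by
      obtain ⟨g, hg⟩ := h.two a b c d h.ne hcd
      exact ⟨g, trivial, hg⟩) (fun k _ x hx => hx.trans (isConj_iff.2 ⟨k, rfl⟩)) (fun _ _ => trivial)
    (fun x hx => by
      obtain ⟨g, rfl⟩ := isConj_iff.1 hx
      rw [← ncard_fix_conj g t]; congr 1; ext c; simp)).2
  rwa [h.ninv', Set.ncard_univ] at this

theorem XV_iff {x : G} : x ∈ XV t v ↔ ∃ c w, c * t = t * c ∧ Set45 G a b t w j ∧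
    fixedBy Ω t ∩ fixedBy Ω w = fixedBy Ω t ∩ fixedBy Ω v ∧ (w = v ∨ w = t * v) ∧ c * w * c⁻¹ = x := by
  refine ⟨fun ⟨c, hc, e⟩ => ?_, fun ⟨c, w, hc, _, _, e, e'⟩ => ⟨c, hc, ?_⟩⟩
  · rcases e with e | e
    · exact ⟨c, v, hc, h, rfl, Or.inl rfl, e⟩
    · refine ⟨c, t * v, hc, h.other, Set.ext fun z => and_congr_right fun hz => ?_, Or.inr rfl, e⟩
      rw [mem_fixedBy, mem_fixedBy, h.comm, mul_smul, hz]
  · rcases e with e | e <;> subst e <;> simp [e']

theorem XV_prop {x : G} (hx : x ∈ XV t v) :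
    x * t = t * x ∧ orderOf x = 2 ∧ x ≠ t ∧ t * x ∈ XV t v := by
  obtain ⟨c, w, hc, hw, -, e, rfl⟩ := h.XV_iff.1 hx
  have hc' : Commute c t := hc
  have hw' : Commute w t := hw.comm.symm
  have e1 : t * (c * w * c⁻¹) = c * (t * w) * c⁻¹ := by rw [← mul_assoc c, hc]; group
  refine ⟨(hc'.mul_left hw').mul_left hc'.inv_left, by rw [ord_conj, hw.ov], fun e => hw.tv ?_, c, hc, ?_⟩
  · rw [mul_inv_eq_iff_eq_mul, ← hc] at e
    exact (mul_left_cancel e).symm
  · rw [e1]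
    rcases e with e | e <;> subst e
    · exact Or.inr rfl
    · left; rw [← mul_assoc t t, h.t2, one_mul]

theorem XV_D : {x | x ∈ XV t v ∧ (x • a = a ∧ x • b = b)} = {v, t * v} := by
  refine Set.ext fun x => ⟨fun hx => ?_, fun hx => ?_⟩
  · obtain ⟨h1, h2, h3, -⟩ := h.XV_prop hx.1
    rcases h.cent x hx.2 h1 with e | e | e | e
    · exact absurd e (ord2.1 h2).2
    · exact absurd e h3
    · exact Or.inl e
    · exact Or.inr e
  · rcases hx with e | e <;> rw [e]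
    · exact ⟨⟨1, by simp, Or.inl (by simp)⟩, h.vD⟩
    · exact ⟨⟨1, by simp, Or.inr (by simp)⟩, mul_mem h.tD h.vD⟩

theorem XV_swap : ∃ j' ≤ 2, {x | x ∈ XV t v ∧ x • a = b}.ncard = 2 * j' := by
  rcases Set.eq_empty_or_nonempty {x | x ∈ XV t v ∧ x • a = b} with e | ⟨y, hy, ya⟩
  · exact ⟨0, by omega, by rw [e]; simp⟩
  have key : ∀ x, x ∈ XV t v → x • a = b → x = y ∨ x = t * y ∨ x = v * y ∨ x = t * (v * y) := by
    intro x hx xa
    obtain ⟨h1, h2, -⟩ := h.XV_prop hx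
    obtain ⟨h3, h4, -⟩ := h.XV_prop hy
    have := h.cent _ (swap_mul_mem ya (swap_of_inv h4 ya) xa (swap_of_inv h2 xa))
      ((show Commute x t from h1).mul_left (show Commute y t from h3).inv_left)
    simpa only [mul_inv_eq_iff_eq_mul, one_mul, mul_assoc] using this
  have tm : ∀ x, x ∈ XV t v ∧ x • a = b → t * x ∈ XV t v ∧ (t * x) • a = b := fun x hx =>
    ⟨(h.XV_prop hx.1).2.2.2, by rw [mul_smul, hx.2]; exact h.tD.2⟩
  have vy : (v * y) • a = b := by rw [mul_smul, ya]; exact h.vD.2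
  by_cases hv : v * y ∈ XV t v
  · refine ⟨2, le_rfl, ?_⟩
    rw [show 2 * 2 = 4 from rfl, ← h.ncard_four,
      ← Set.ncard_image_of_injective ({1, t, v, t * v} : Set G) (mul_left_injective y)]
    simp only [Set.image_insert_eq, Set.image_singleton, one_mul, mul_assoc]
    congr 1; ext x
    refine ⟨fun hx => key x hx.1 hx.2, fun hx => ?_⟩
    rcases hx with e | e | e | e <;> rw [e]
    exacts [⟨hy, ya⟩, tm _ ⟨hy, ya⟩, ⟨hv, vy⟩, tm _ ⟨hv, vy⟩]
  · refine ⟨1, by omega, ?_⟩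
    rw [mul_one, ← Set.ncard_pair (show y ≠ t * y by simpa using h.t1)]
    congr 1; ext x
    refine ⟨fun hx => ?_, fun hx => ?_⟩
    · rcases key x hx.1 hx.2 with e | e | e | e
      · exact Or.inl e
      · exact Or.inr e
      · exact absurd (e ▸ hx.1) hv
      · have := (tm x hx).1
        rw [e, ← mul_assoc, h.t2, one_mul] at this
        exact absurd this hv
    · rcases hx with e | e <;> rw [e]
      exacts [⟨hy, ya⟩, tm _ ⟨hy, ya⟩]

/-- COUNT inside `C(t)` on the fixed set of `t`: `k - k' = j' k' (k' - 1)`. -/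
theorem count2 [Finite G] [Finite Ω] : ∃ j' ≤ 2, (fixedBy Ω t).ncard =
    (fixedBy Ω t ∩ fixedBy Ω v).ncard + j' * ((fixedBy Ω t ∩ fixedBy Ω v).ncard *
      ((fixedBy Ω t ∩ fixedBy Ω v).ncard - 1)) ∧
    {x | x ∈ XV t v ∧ x • a = b}.ncard = 2 * j' := by
  obtain ⟨j', hj', e⟩ := h.XV_swap
  refine ⟨j', hj', ?_, e⟩
  have := (count (X := XV t v) (f := (fixedBy Ω t ∩ fixedBy Ω v).ncard) h.a_mem.1 h.b_mem.1 h.ne h.witt
    (fun k hk x ⟨c, hc, e⟩ => ⟨k * c, ?_, ?_⟩) (fun x hx => ?_) (fun x hx => ?_)).2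
  · rw [e, h.XV_D, Set.ncard_pair h.tv_ne_v.symm] at this
    linarith
  · exact (show Commute k t from mem_centralizer_singleton_iff.1 hk).mul_left hc
  · rcases e with e | e <;> rw [← e]
    · left; group
    · right; group
  · rw [mem_fixedBy, ← mul_smul, ← (h.XV_prop hx).1, mul_smul, h.tD.1]
  · obtain ⟨c, w, hc, -, e, -, rfl⟩ := h.XV_iff.1 hx
    have e1 : c * t * c⁻¹ = t := by rw [hc]; simp
    rw [← e]
    symm
    refine Set.ncard_congr (fun z _ => c • z) (fun z hz => ⟨?_, (conj_smul_iff c w z z).2 hz.2⟩)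
      (fun _ _ _ _ e => smul_left_cancel c e) fun z hz => ⟨c⁻¹ • z, ⟨(conj_smul_iff c t _ _).1 ?_,
        (conj_smul_iff c w _ _).1 ?_⟩, smul_inv_smul c z⟩
    · rw [mem_fixedBy, ← e1]; exact (conj_smul_iff c t z z).2 hz.1
    · rw [e1, smul_inv_smul]; exact hz.1
    · rw [smul_inv_smul]; exact hz.2

/-- some conjugate of `t` interchanges `a` and `b` -/
theorem exists_swap [FaithfulSMul G Ω] : ∃ s, IsConj t s ∧ orderOf s = 2 ∧ s • a = b := by
  obtain ⟨c, hc⟩ : ∃ c : Ω, t • c ≠ c := by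
    by_contra H
    push Not at H
    exact h.t1 (FaithfulSMul.eq_of_smul_eq_smul (α := Ω) fun c => by rw [H, one_smul])
  obtain ⟨g, g1, g2⟩ := h.two c (t • c) a b hc.symm h.ne
  exact ⟨g * t * g⁻¹, isConj_iff.2 ⟨g, rfl⟩, by rw [ord_conj, h.ot], by
    rw [← g1, ← g2, conj_smul_iff]⟩

/-- The involutions interchanging `a` and `b` when `D* = D × ⟨s₀⟩`. -/
theorem swap_x2 {s0 : G} (h0 : orderOf s0 = 2) (ha : s0 • a = b) (hc : ∀ d ∈ DD G a b, s0 * d = d * s0)
    {x : G} : orderOf x = 2 ∧ x • a = b ↔ x = s0 ∨ ∃ d ∈ DD G a b, orderOf d = 2 ∧ d * s0 = x := by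
  have s2 := (ord2.1 h0).1
  refine ⟨fun ⟨h1, h2⟩ => ?_, fun H => ?_⟩
  · have hd := swap_mul_mem ha (swap_of_inv h0 ha) h2 (swap_of_inv h1 h2)
    by_cases e : x * s0⁻¹ = 1
    · exact Or.inl (mul_inv_eq_one.1 e)
    · refine Or.inr ⟨_, hd, ord2.2 ⟨?_, e⟩, by simp⟩
      have e1 := hc _ hd
      rw [inv_mul_cancel_right, ← mul_assoc, mul_inv_eq_iff_eq_mul] at e1
      rw [inv_eq_of_mul_eq_one_right s2, mul_assoc, ← mul_assoc s0, e1, mul_assoc x s0, s2, mul_one,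
        (ord2.1 h1).1]
  · rcases H with rfl | ⟨d, hd, h1, rfl⟩
    · exact ⟨h0, ha⟩
    · have e : (d * s0) • a = b := by rw [mul_smul, ha]; exact hd.2
      refine ⟨ord2.2 ⟨?_, fun e' => h.ne (by rw [← e, e', one_smul])⟩, e⟩
      rw [mul_assoc, ← mul_assoc s0, hc d hd, mul_assoc, s2, mul_one, (ord2.1 h1).1]

theorem conj_x2 {s0 : G} (hc : ∀ d ∈ DD G a b, s0 * d = d * s0) {d : G} (hd : d ∈ DD G a b)
    (h1 : orderOf d = 2) : IsConj (t * s0) (d * s0) := by
  obtain ⟨c, hc', e⟩ := h.conj d hd h1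
  exact isConj_iff.2 ⟨c, by rw [← e, mul_assoc, mul_assoc, hc _ (inv_mem hc')]; group⟩

/-- The value of `j₁` when `D* = D × ⟨s₀⟩`. -/
theorem j1_x2 [Finite G] {s0 : G} (h0 : orderOf s0 = 2) (ha : s0 • a = b)
    (hc : ∀ d ∈ DD G a b, s0 * d = d * s0) :
    ∃ α β : ℕ, {x | IsConj t x ∧ x • a = b}.ncard = α + β * j ∧
      ((IsConj t s0 ∧ α = 1) ∨ (¬ IsConj t s0 ∧ α = 0)) ∧
      ((IsConj t (t * s0) ∧ β = 1) ∨ (¬ IsConj t (t * s0) ∧ β = 0)) := by
  classical
  have oc : ∀ x, IsConj t x → orderOf x = 2 := fun x hx => by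
    obtain ⟨g, rfl⟩ := isConj_iff.1 hx
    rw [ord_conj, h.ot]
  have e : {x | IsConj t x ∧ x • a = b} = {x | x = s0 ∧ IsConj t s0} ∪
      (fun d => d * s0) '' {d | (d ∈ DD G a b ∧ orderOf d = 2) ∧ IsConj t (t * s0)} := by
    refine Set.ext fun x => ⟨fun hx => ?_, fun hx => ?_⟩
    · rcases (h.swap_x2 h0 ha hc).1 ⟨oc x hx.1, hx.2⟩ with e | ⟨d, hd, h1, e⟩
      · exact Or.inl ⟨e, e ▸ hx.1⟩
      · exact Or.inr ⟨d, ⟨⟨hd, h1⟩, hx.1.trans (e ▸ (h.conj_x2 hc hd h1).symm)⟩, e⟩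
    · rcases hx with ⟨e, hx⟩ | ⟨d, ⟨⟨hd, h1⟩, h2⟩, e⟩
      · exact e ▸ ⟨hx, ha⟩
      · exact ⟨h2.trans (e ▸ h.conj_x2 hc hd h1), ((h.swap_x2 h0 ha hc).2 (Or.inr ⟨d, hd, h1, e⟩)).2⟩
  rw [e, Set.ncard_union_eq, Set.ncard_image_of_injective _ (mul_left_injective s0)]
  · refine ⟨if IsConj t s0 then 1 else 0, if IsConj t (t * s0) then 1 else 0, ?_, ?_, ?_⟩
    · congr 1
      · split_ifs with H <;> simp [H, -isConj_iff]
      · split_ifs with H
        · simp only [H, and_true, one_mul]; exact h.ninv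
        · simp [H, -isConj_iff]
    · by_cases H : IsConj t s0 <;> simp only [H, if_true, if_false] <;> simp
    · by_cases H : IsConj t (t * s0) <;> simp only [H, if_true, if_false] <;> simp
  · rw [Set.disjoint_left]
    rintro x ⟨rfl, -⟩ ⟨d, ⟨⟨-, h1⟩, -⟩, e⟩
    exact (ord2.1 h1).2 (by simpa using e)

end Set45

section Setup

open Equiv Equiv.Perm

variable {m j j0 : ℕ} {t0 v0 ρ : Perm (Fin m)} {a b : Ω}

theorem set45_of (hm : Model m j j0 t0 v0 ρ) (h2 : Two G Ω) (hab : a ≠ b)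
    (e : DD G a b ≃* alternatingGroup (Fin m)) :
    Set45 G a b (e.symm ⟨t0, hm.st⟩ : G) (e.symm ⟨v0, hm.sv⟩ : G) j := by
  let f : DD G a b →* Perm (Fin m) := (alternatingGroup (Fin m)).subtype.comp e.toMonoidHom
  have fi : Function.Injective f := Subtype.val_injective.comp e.injective
  have fs : ∀ x, sign (f x) = 1 := fun x => (e x).2
  have fe : ∀ (x : Perm (Fin m)) (hx : sign x = 1), f (e.symm ⟨x, hx⟩) = x := fun x hx => by simp [f]
  have inj : ∀ x y : DD G a b, (x : G) = y ↔ f x = f y := fun x y => by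
    rw [fi.eq_iff, Subtype.ext_iff]
  set t := e.symm ⟨t0, hm.st⟩
  set v := e.symm ⟨v0, hm.sv⟩
  have ft : f t = t0 := fe _ _
  have fv : f v = v0 := fe _ _
  have o2 : ∀ x : DD G a b, orderOf (x : G) = 2 ↔ f x * f x = 1 ∧ f x ≠ 1 := fun x => by
    rw [Subgroup.orderOf_coe, ← orderOf_injective f fi, ord2]
  refine ⟨h2, hab, t.2, v.2, (o2 t).2 (by rw [ft]; exact ⟨hm.t2, hm.t1⟩),
    (o2 v).2 (by rw [fv]; exact ⟨hm.v2, hm.v1⟩), fun H => hm.tv (by rw [← ft, ← fv]; exact (inj _ _).1 H),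
    (inj (t * v) (v * t)).2 (by rw [map_mul, map_mul, ft, fv, hm.comm]), fun x hx H => ?_,
    fun x hx H => ?_, ?_, Nat.odd_iff.2 hm.oddj, fun x hx H => ?_⟩
  · have := (inj (⟨x, hx⟩ * t) (t * ⟨x, hx⟩)).1 H
    rw [map_mul, map_mul, ft] at this
    have := hm.cent _ (fs _) this
    rw [← ft, ← fv, ← map_mul, ← map_one f, ← inj, ← inj, ← inj, ← inj] at this
    exact this
  · obtain ⟨h1, h1'⟩ := (o2 ⟨x, hx⟩).1 H
    obtain ⟨d, hd, e1⟩ := hm.conj _ (fs _) h1 h1'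
    refine ⟨e.symm ⟨d, hd⟩, (e.symm ⟨d, hd⟩).2, mul_inv_eq_iff_eq_mul.2 ?_⟩
    exact (inj (e.symm ⟨d, hd⟩ * t) (⟨x, hx⟩ * e.symm ⟨d, hd⟩)).2 (by rw [map_mul, map_mul, ft, fe, e1])
  · have : Nontrivial (Fin m) := Fin.nontrivial_iff_two_le.2 (by have := hm.m4; omega)
    have h1 := two_mul_nat_card_alternatingGroup (α := Fin m)
    rw [Nat.card_perm, Nat.card_eq_fintype_card (α := Fin m), Fintype.card_fin, hm.card,
      ← Nat.card_congr e.toEquiv] at h1
    omega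
  · refine (inj ⟨x, hx⟩ 1).2 ?_
    rw [map_one]
    refine hm.ctr _ (fs _) fun d hd => ?_
    rw [← fe d hd, ← map_mul, ← map_mul]
    exact (inj _ _).1 (H _ (e.symm ⟨d, hd⟩).2)

/-- The dichotomy for `D* = D ⟨s⟩`. -/
theorem setup (hm : Model m j j0 t0 v0 ρ) (h2 : Two G Ω) (hab : a ≠ b)
    (e : DD G a b ≃* alternatingGroup (Fin m)) {s : G} (hs : orderOf s = 2) (ha : s • a = b) :
    ∃ t v : G, Set45 G a b t v j ∧ s * t = t * s ∧
      ((∃ s0 : G, orderOf s0 = 2 ∧ s0 • a = b ∧ (∀ d ∈ DD G a b, s0 * d = d * s0) ∧ s * v = v * s) ∨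
        (s * v * s⁻¹ = t * v ∧ (∀ x : G, orderOf x = 2 → x • a = b → ∃ d ∈ DD G a b, d * s * d⁻¹ = x) ∧
          {x : G | orderOf x = 2 ∧ x • a = b}.ncard = j0)) := by
  have h := set45_of hm h2 hab e
  let f : DD G a b →* Perm (Fin m) := (alternatingGroup (Fin m)).subtype.comp e.toMonoidHom
  have fi : Function.Injective f := Subtype.val_injective.comp e.injective
  have fs : ∀ x, sign (f x) = 1 := fun x => (e x).2
  have fe : ∀ (x : Perm (Fin m)) (hx : sign x = 1), f (e.symm ⟨x, hx⟩) = x := fun x hx => by simp [f]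
  have inj : ∀ x y : DD G a b, (x : G) = y ↔ f x = f y := fun x y => by
    rw [fi.eq_iff, Subtype.ext_iff]
  set t := e.symm ⟨t0, hm.st⟩
  set v := e.symm ⟨v0, hm.sv⟩
  have ft : f t = t0 := fe _ _
  have fv : f v = v0 := fe _ _
  have hb := swap_of_inv hs ha
  have s2 := (ord2.1 hs).1
  have si : s⁻¹ = s := inv_eq_of_mul_eq_one_right s2
  let σ0 : DD G a b → DD G a b := fun x => ⟨s * x * s⁻¹, swap_conj_mem ha hb x.2⟩
  have σσ : ∀ x, σ0 (σ0 x) = x := fun x => Subtype.ext (by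
    change s * (s * x * s⁻¹) * s⁻¹ = x
    rw [si, ← mul_assoc, ← mul_assoc, s2, one_mul, mul_assoc, s2, mul_one])
  let σ : DD G a b ≃* DD G a b := ⟨⟨σ0, σ0, σσ, σσ⟩, fun x y => Subtype.ext (by
    change s * (x * y) * s⁻¹ = s * x * s⁻¹ * (s * y * s⁻¹)
    group)⟩
  obtain ⟨π, hπ⟩ := (Cfsg.Agent.S2119.result m hm.m4 hm.m6).2 (e.symm.trans (σ.trans e))
  have fσ : ∀ x, f (σ0 x) = π * f x * π⁻¹ := fun x => by
    have := congrArg (fun φ : MulAut (alternatingGroup (Fin m)) => (φ (e x) : Perm (Fin m))) hπ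
    simpa [f, σ] using this.symm
  have π2 : π * π = 1 := (Cfsg.Agent.S2119.result m hm.m4 hm.m6).1 (by
    rw [map_mul, hπ, map_one]
    ext1 x
    change e (σ0 (e.symm (e (σ0 (e.symm x))))) = x
    rw [e.symm_apply_apply, σσ, e.apply_symm_apply])
  have πi : π⁻¹ = π := inv_eq_of_mul_eq_one_right π2
  by_cases hp : sign π = 1
  · set p := e.symm ⟨π, hp⟩
    have fp : f p = π := fe _ _
    have p2 : (p : G) * p = 1 := (inj (p * p) 1).2 (by rw [map_mul, fp, π2, map_one])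
    have hc : ∀ d ∈ DD G a b, p * s * d = d * (p * s) := fun d hd => by
      have := (inj (p * σ0 ⟨d, hd⟩) (⟨d, hd⟩ * p)).2 (by
        rw [map_mul, map_mul, fσ, fp, ← mul_assoc, ← mul_assoc, π2, one_mul, πi])
      change p * (s * d * s⁻¹) = d * p at this
      rw [← mul_assoc d, ← this]; group
    have e1 : ((p : G) * s) • a = b := by rw [mul_smul, ha]; exact p.2.2
    have ps : s * p = p * s := by
      have := hc p p.2
      rw [mul_assoc] at this
      exact mul_left_cancel this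
    have o0 : orderOf ((p : G) * s) = 2 := ord2.2 ⟨by
      rw [mul_assoc, ← mul_assoc s, ps, mul_assoc, s2, mul_one, p2], fun e' => hab (by rw [← e1, e', one_smul])⟩
    have cs : ∀ d ∈ DD G a b, p * d = d * p → s * d = d * s := fun d hd H => by
      have := hc d hd
      rw [← mul_assoc d, ← H, mul_assoc, mul_assoc] at this
      exact mul_left_cancel this
    by_cases p1 : (p : G) = 1
    · exact ⟨t, v, h, cs _ h.tD (by simp [p1]), Or.inl ⟨_, o0, e1, hc, cs _ h.vD (by simp [p1])⟩⟩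
    · obtain ⟨d, hd, e2⟩ := h.conj p p.2 (ord2.2 ⟨p2, p1⟩)
      have h' := h.conjD hd
      rw [e2] at h'
      exact ⟨_, _, h', ps, Or.inl ⟨_, o0, e1, hc, cs _ h'.vD h'.comm⟩⟩
  · obtain ⟨c, hc, ec⟩ := hm.odd π hp π2
    set d := e.symm ⟨c, hc⟩
    have fd : f d = c := fe _ _
    have h' := h.conjD d.2
    have ec' : π = c * ρ * c⁻¹ := by rw [ec]; simp
    have mem : ∀ x : G, orderOf x = 2 → x • a = b → x * s⁻¹ ∈ DD G a b := fun x h1 h2 =>
      swap_mul_mem ha hb h2 (swap_of_inv h1 h2)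
    have sq : ∀ y : DD G a b, (y : G) * s * (y * s) = 1 ↔ f y * π * (f y * π) = 1 := fun y => by
      have := inj (y * σ0 y) 1
      rw [map_mul, fσ, map_one, πi] at this
      rw [mul_assoc (f y), ← mul_assoc π, ← this]
      change _ ↔ y * (s * y * s⁻¹) = 1
      rw [si, mul_assoc, ← mul_assoc s]
    have sg : ∀ y : DD G a b, sign (f y * π) ≠ 1 := fun y => by rw [map_mul, fs, one_mul]; exact hp
    refine ⟨_, _, h', mul_inv_eq_iff_eq_mul.1 ?_, Or.inr ⟨?_, fun x h1 h2 => ?_, ?_⟩⟩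
    · refine (inj (σ0 (d * t * d⁻¹)) (d * t * d⁻¹)).2 ?_
      rw [fσ, map_mul, map_mul, map_inv, fd, ft, ec']
      calc _ = c * (ρ * t0) * ρ⁻¹ * c⁻¹ := by group
        _ = _ := by rw [hm.ρt]; group
    · refine (inj (σ0 (d * v * d⁻¹)) (d * t * d⁻¹ * (d * v * d⁻¹))).2 ?_
      simp only [fσ, map_mul, map_inv, fd, ft, fv]
      rw [ec']
      calc _ = c * (ρ * v0) * ρ⁻¹ * c⁻¹ := by group
        _ = _ := by rw [hm.ρv]; group
    · obtain ⟨c', hc', ec2⟩ := hm.odd _ (sg ⟨_, mem x h1 h2⟩) ((sq _).1 (by simpa using (ord2.1 h1).1))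
      set d' := e.symm ⟨c', hc'⟩
      have fd' : f d' = c' := fe _ _
      refine ⟨d' * d⁻¹, (d' * d⁻¹).2, ?_⟩
      have := (inj (d' * d⁻¹ * σ0 (d' * d⁻¹)⁻¹) ⟨_, mem x h1 h2⟩).2 (by
        simp only [fσ, map_mul, map_inv, fd, fd']
        rw [← mul_inv_eq_iff_eq_mul, ← mul_inv_eq_iff_eq_mul] at ec2
        rw [← ec2]
        conv_lhs => enter [2, 1, 1]; rw [ec']
        group)
      change d' * d⁻¹ * (s * (d' * d⁻¹)⁻¹ * s⁻¹) = x * s⁻¹ at this
      rw [← mul_assoc, ← mul_assoc] at this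
      exact mul_right_cancel this
    · rw [← hm.cnt, ← Set.ncard_coe_finset]
      refine Set.ncard_congr (fun x hx => f ⟨_, mem x hx.1 hx.2⟩ * π) (fun x hx => ?_)
        (fun x y hx hy H => ?_) fun z hz => ?_
      · simp only [Finset.coe_filter, Finset.mem_univ, true_and, Set.mem_ofPred_eq]
        exact ⟨sg _, (sq _).1 (by simpa using (ord2.1 hx.1).1)⟩
      · simpa using (inj _ _).2 (mul_right_cancel H)
      · simp only [Finset.coe_filter, Finset.mem_univ, true_and, Set.mem_ofPred_eq] at hz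
        have hy : sign (z * π) = 1 := by
          rw [map_mul, (Int.units_eq_one_or _).resolve_left hz.1, (Int.units_eq_one_or _).resolve_left hp]
          simp
        set y := e.symm ⟨_, hy⟩
        have fy : f y * π = z := by rw [fe, mul_assoc, π2, mul_one]
        have e1 : ((y : G) * s) • a = b := by rw [mul_smul, ha]; exact y.2.2
        refine ⟨y * s, ⟨ord2.2 ⟨(sq y).2 (by rw [fy]; exact hz.2), fun e' => hab ?_⟩, e1⟩, ?_⟩
        · rw [← e1, e', one_smul]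
        · refine Eq.trans ?_ fy
          congr 2; exact Subtype.ext (by simp)

end Setup

end Cfsg.Agent.H65.A45
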