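import Mathlib
import Cfsg.Agent.H6.E82Defs
import Cfsg.Agent.H52.FStar
import Cfsg.Agent.H28.Transport

/-! A generalized Fitting subgroup `L₂(64)` gives a normal embedding of `SL₂(64)` with trivial
centralizer. -/

set_option autoImplicit false

namespace Cfsg.Agent.H65.E82Red

open Cfsg.Agent.H6.E82 H82 Subgroup
open scoped MatrixGroups

universe u

theorem center_SL : center SL = ⊥ := by
  refine eq_bot_iff.2 fun g hg => ?_
  rw [mem_bot]
  rcases mem_center_SL2_iff.1 hg with h | h
  · exact h
  · rw [h]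
    apply SL2_ext <;> simp only [ent] <;> exact CharTwo.neg_eq _

theorem gen {G L : Type*} [Group G] [Finite G] [Group L] (hL : center L = ⊥) (H : Subgroup G)
    (e : Cfsg.generalizedFittingSubgroup H ≃* L) : ∃ ψ : L →* G,
    Function.Injective ψ ∧ (∀ s, ψ s ∈ H) ∧ (∀ h ∈ H, ∀ s, ∃ s', h * ψ s * h⁻¹ = ψ s') ∧
      ∀ h ∈ H, (∀ s, Commute h (ψ s)) → h = 1 := by
  have hN := H52.fstar_normal (G := H)
  refine ⟨H.subtype.comp ((Cfsg.generalizedFittingSubgroup H).subtype.comp e.symm.toMonoidHom),
    H.subtype_injective.comp ((subtype_injective _).comp e.symm.injective),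
    fun s => (e.symm s).1.2, fun h hh s => ?_, fun h hh hc => ?_⟩
  · refine ⟨e ⟨_, hN.conj_mem _ (e.symm s).2 ⟨h, hh⟩⟩, ?_⟩
    simp
  · have hg : (⟨h, hh⟩ : H) ∈ centralizer (Cfsg.generalizedFittingSubgroup H : Set H) := by
      refine mem_centralizer_iff.2 fun y hy => Subtype.ext ?_
      have := (hc (e ⟨y, hy⟩)).eq
      simpa using this.symm
    have h1 : e ⟨_, H52.centralizer_fstar_le hg⟩ ∈ center L := by
      rw [mem_center_iff]
      intro l
      obtain ⟨y, rfl⟩ := e.surjective l
      rw [← map_mul, ← map_mul]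
      exact congrArg e (Subtype.ext (mem_centralizer_iff.1 hg y.1 y.2))
    rw [hL, mem_bot, map_eq_one_iff e e.injective] at h1
    exact congrArg (fun x : Cfsg.generalizedFittingSubgroup H => (x.1 : G)) h1

theorem red : RedStmt.{u} := by
  intro E _ _ hE H ⟨e⟩
  have f : E ≃+* F := FiniteField.ringEquivOfCardEq (hE.trans card_F.symm)
  have e2 : PSL(2, F) ≃* SL :=
    (QuotientGroup.quotientMulEquivOfEq center_SL).trans QuotientGroup.quotientBot
  haveI : Finite G0 := inferInstance
  exact gen center_SL H ((e.trans (H28.pslEquiv f (Fin 2))).trans e2)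

end Cfsg.Agent.H65.E82Red
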