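import Mathlib
import Cfsg.Agent.H6.TIDefs
import Cfsg.Agent.H64.L3O

/-!
Project TI, piece ON: if all edges are large (and `q < h`), the group is `PSL_n(F)` in
characteristic two, by the theorem of O'Nan.
-/

set_option autoImplicit false
set_option linter.dupNamespace false
set_option maxHeartbeats 400000

namespace Cfsg.Agent.H65.TiON

open Cfsg Subgroup
open Cfsg.Agent.H6.TI
open Cfsg.Agent.H83 (cj)
open scoped Cfsg.Agent.H63

universe u

variable {G : Type u} [Group G] [Finite G] {Ω : Set (Subgroup G)} {K : Subgroup G}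

theorem adj_trans (h : C2 Ω K) (hm : ∀ A B, Ed Ω A B → Mn Ω A B) {A B B' : Subgroup G}
    (e : Ed Ω A B) (e' : Ed Ω A B') (hne : B' ≠ B) : Ed Ω B' B := by
  by_cases hax : ax A B = ax A B'
  · obtain ⟨a, ha, rfl⟩ := h.ln.line (hm _ _ e) (hm _ _ e') hax
    have o := h.bb.onB e
    exact (h.bb.lin e (o.cj (mem_sup_left ha)) o hne).1
  · obtain ⟨h1, -, -⟩ := h.yy.ycard h.sp (hm _ _ e) (hm _ _ e') hax
    have hlt := h.lt _ _ (hm _ _ e)
    have hY : ax B' A ⊓ N[ax A B] ≠ ⊥ := by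
      intro e0
      rw [e0, card_bot, one_mul] at h1
      omega
    obtain ⟨⟨y, hy⟩, hy1⟩ := ne_bot_iff_exists_ne_one.1 hY
    refine ⟨e'.r, e.r, hne, fun e0 => hy1 (Subtype.ext ?_)⟩
    have : y ∈ ax B' B := ⟨ax_le hy.1, h.adj (hm _ _ e) (hm _ _ e') hax y hy.1 hy.2⟩
    rwa [e0, mem_bot] at this

theorem all_adj (h : C2 Ω K) (hm : ∀ A B, Ed Ω A B → Mn Ω A B) {P Q : Subgroup G}
    (hP : P ∈ Ω) (hQ : Q ∈ Ω) (hne : P ≠ Q) : Ed Ω P Q := by
  have key : ∀ R, Relation.ReflTransGen (Ed Ω) P R → P = R ∨ Ed Ω P R := by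
    intro R r
    induction r with
    | refl => exact Or.inl rfl
    | @tail b c _ e ih =>
      rcases ih with rfl | ih
      · exact Or.inr e
      · by_cases hc : P = c
        · exact Or.inl hc
        · exact Or.inr (adj_trans h hm e (h.ba.symm ih) hc)
  exact (key Q (h.conn P hP Q hQ)).resolve_left hne

theorem two_tr (h : C2 Ω K) (hm : ∀ A B, Ed Ω A B → Mn Ω A B) {P Q P' Q' : Subgroup G}
    (hP : P ∈ Ω) (hQ : Q ∈ Ω) (hP' : P' ∈ Ω) (hQ' : Q' ∈ Ω) (hne : P ≠ Q) (hne' : P' ≠ Q') :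
    ∃ g : G, cj g P = P' ∧ cj g Q = Q' := by
  obtain ⟨g, rfl⟩ := h.trans P hP P' hP'
  have e1 : Ed Ω (cj g P) (cj g Q) := (all_adj h hm hP hQ hne).cj h.toTI g
  have e2 : Ed Ω (cj g P) Q' := all_adj h hm hP' hQ' hne'
  obtain ⟨m, hmN, -, h2⟩ := h.ba.conjAx (hm _ _ e2) e1
  obtain ⟨a, ha, e3⟩ := h.ln.line ((hm _ _ e1).cjN h.toTI hmN) (hm _ _ e2) (h2 (hm _ _ e1))
  refine ⟨a * m * g, ?_, ?_⟩
  · rw [H83.cj_mul, H83.cj_eq_self (mul_mem (le_normalizer ha) hmN)]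
  · rw [e3, H83.cj_mul, H83.cj_mul]

/-- the action on the points -/
@[reducible] def act (h : TI Ω) : MulAction G Ω where
  smul g P := ⟨cj g P.1, h.conj _ P.2 g⟩
  one_smul P := Subtype.ext (H83.cj_one P.1)
  mul_smul g k P := Subtype.ext (H83.cj_mul g k P.1)

theorem on : ONStmt.{u} := by
  intro G _ _ Ω K h hm
  obtain ⟨A, B, e⟩ := h.ed
  refine ⟨h.hf.simp h.ed A e.l ?_, ?_⟩
  · rw [eq_bot_iff]
    intro x hx
    rw [mem_zc] at hx
    refine h.hf.ker x fun P hP => ?_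
    by_cases hAP : A = P
    · exact hAP ▸ le_normalizer hx.1
    · exact hx.2 P (hm _ _ (all_adj h hm e.l hP hAP))
  letI := act h.toTI
  have hs : ∀ (g : G) (P : Ω), (g • P).1 = cj g P.1 := fun _ _ => rfl
  haveI : FaithfulSMul G Ω := ⟨fun {a b} hab => by
    rw [← mul_inv_eq_one]
    refine h.hf.ker _ fun P hP => ?_
    rw [← H83.cj_eq_self_iff, H83.cj_mul]
    have := congrArg Subtype.val (hab (b⁻¹ • ⟨P, hP⟩))
    rw [smul_inv_smul] at this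
    exact this⟩
  have hON : H56.ON 2 (fun P : Ω => P.1) := by
    refine ⟨fun g P => rfl, fun P a ha => Subtype.ext (H83.cj_eq_self (le_normalizer ha)),
      fun P => h.ba.mul_comm _ P.2, fun P a ha => by rw [pow_two]; exact h.sq _ P.2 a ha,
      fun P Q P' Q' h1 h2 => ?_, ⟨A, e.l⟩, ⟨B, e.r⟩, fun e0 => e.ne (congrArg Subtype.val e0), ?_⟩
    · obtain ⟨g, h3, h4⟩ := two_tr h hm P.2 Q.2 P'.2 Q'.2 (fun e0 => h1 (Subtype.ext e0))
        (fun e0 => h2 (Subtype.ext e0))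
      exact ⟨g, Subtype.ext h3, Subtype.ext h4⟩
    · obtain ⟨⟨y, hy⟩, hy1⟩ := ne_bot_iff_exists_ne_one.1 e.nb
      exact ⟨y, hy.1, fun e0 => hy1 (Subtype.ext e0), Subtype.ext (H83.cj_eq_self hy.2)⟩
  haveI : Fact (Nat.Prime 2) := ⟨Nat.prime_two⟩
  obtain ⟨F, _, _, n, hn, ⟨φ⟩, -, hc⟩ := H64.L3.psl' hON
  have htop : (⨆ P : Ω, P.1) = ⊤ := by rw [← sSup_eq_iSup', h.hyp.gen]
  refine ⟨F, inferInstance, inferInstance, n, ?_, hn,
    ⟨(topEquiv.symm.trans (MulEquiv.subgroupCongr htop.symm)).trans φ⟩⟩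
  obtain ⟨k, hp, hk⟩ := FiniteField.card F (ringChar F)
  obtain ⟨m, hm2⟩ := IsPGroup.iff_card.1 (h.ba.two A e.l)
  have h1 := hc ⟨A, e.l⟩
  obtain ⟨n', rfl⟩ : ∃ n', n = n' + 2 := ⟨n - 2, by omega⟩
  rw [pow_succ] at h1
  have h2 := Nat.eq_of_mul_eq_mul_right Nat.card_pos h1
  have h3 : ringChar F ∣ 2 ^ m := by
    rw [← hm2]
    show ringChar F ∣ Nat.card ((⟨A, e.l⟩ : Ω) : Subgroup G)
    rw [h2, Nat.card_eq_fintype_card, hk, pow_succ]
    exact Dvd.dvd.mul_left (dvd_pow_self _ k.ne_zero) _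
  have h4 : ringChar F = 2 := (Nat.prime_dvd_prime_iff_eq hp Nat.prime_two).1 (hp.dvd_of_dvd_pow h3)
  exact h4 ▸ ringChar.charP F

end Cfsg.Agent.H65.TiON
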