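import Cfsg.Agent.H42.ACKit
import Cfsg.Agent.H65.AcStf

/-!
# Covers of `L₃(4)` with centre of odd order: the unipotent group
-/

set_option autoImplicit false
set_option maxRecDepth 100000
set_option synthInstance.maxSize 2000

namespace Cfsg.Agent.H65.AC

open Subgroup H28 H42.AL H65.AL
open H42.AS (om)
open H44.AP (aa two0 cases4 cj zero_of sq_of inv_of)
open scoped commutatorElement

universe u

variable {G : Type u} [Group G] {D : RD G} (h : D.Rel')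
include h

theorem q_mul (x y : T3) : q D x * q D y = q D (mu x y) := by
  have ve : ∀ t u g, D.xv t * (D.xe u * g) = D.xe u * (D.xv t * g) := fun t u g => by
    rw [← mul_assoc, ← h.ev, mul_assoc]
  have vb : ∀ t u g, D.xv t * (D.xb u * g) = D.xb u * (D.xv t * g) := fun t u g => by
    rw [← mul_assoc, ← h.bv, mul_assoc]
  have be : ∀ t u g, D.xb t * (D.xe u * g) = D.xe u * (D.xb t * (D.xv (t * u) * g)) :=
    fun t u g => by rw [← mul_assoc, h.be, ← vb, mul_assoc, mul_assoc]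
  simp only [q, mu, h.ee, h.bb, mul_assoc, ve, vb, be, ← h.vv]
  congr 5
  ring

theorem q_zero : q D 0 = 1 := by simp [q, zero_of h.bb, zero_of h.ee, zero_of h.vv]
theorem qe (t : F4) : D.xe t = q D (t, 0, 0) := by simp [q, zero_of h.bb, zero_of h.vv]
theorem qb (t : F4) : D.xb t = q D (0, t, 0) := by simp [q, zero_of h.ee, zero_of h.vv]
theorem qv (t : F4) : D.xv t = q D (0, 0, t) := by simp [q, zero_of h.bb, zero_of h.ee]

theorem q_inv (x : T3) : (q D x)⁻¹ = q D (iv x) := by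
  rw [inv_eq_iff_mul_eq_one, q_mul h, ← q_zero h]
  congr 1
  revert x; decide +kernel

theorem q_inj {x y : T3} (e : q D x = q D y) : x = y := by
  have e1 : q D x * (q D y)⁻¹ = 1 := by rw [e, mul_inv_cancel]
  rw [q_inv h, q_mul h] at e1
  have k : ∀ x y : T3, (mu x (iv y)).1 = 0 ∧ (mu x (iv y)).2.1 = 0 ∧ (mu x (iv y)).2.2 = 0 →
      x = y := by decide +kernel
  exact k _ _ (h.nf _ _ _ e1)

theorem unf {g : G} (hg : g ∈ D.U) : ∃ x, g = q D x := by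
  induction hg using closure_induction with
  | mem _ h1 =>
    rcases h1 with (⟨t, rfl⟩ | ⟨t, rfl⟩) | ⟨t, rfl⟩
    exacts [⟨_, qe h t⟩, ⟨_, qb h t⟩, ⟨_, qv h t⟩]
  | one => exact ⟨_, (q_zero h).symm⟩
  | mul _ _ _ _ h1 h2 =>
    obtain ⟨a, rfl⟩ := h1
    obtain ⟨b, rfl⟩ := h2
    exact ⟨_, q_mul h ..⟩
  | inv _ _ h1 =>
    obtain ⟨a, rfl⟩ := h1
    exact ⟨_, q_inv h ..⟩

theorem mem_V {g : G} : g ∈ D.V ↔ ∃ t, g = D.xv t := by
  refine ⟨fun hg => ?_, by rintro ⟨t, rfl⟩; exact xvV t⟩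
  induction hg using closure_induction with
  | mem _ h1 => obtain ⟨t, rfl⟩ := h1; exact ⟨t, rfl⟩
  | one => exact ⟨0, (zero_of h.vv).symm⟩
  | mul _ _ _ _ h1 h2 =>
    obtain ⟨t, rfl⟩ := h1
    obtain ⟨s, rfl⟩ := h2
    exact ⟨_, (h.vv t s).symm⟩
  | inv _ _ h1 =>
    obtain ⟨t, rfl⟩ := h1
    exact ⟨t, inv_of h.vv t⟩

theorem q_mem_V {x : T3} : q D x ∈ D.V ↔ x.1 = 0 ∧ x.2.1 = 0 := by
  rw [mem_V h]
  refine ⟨fun ⟨t, e⟩ => ?_, fun ⟨e1, e2⟩ => ⟨x.2.2, ?_⟩⟩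
  · rw [q_inj h (e.trans (qv h t))]; exact ⟨rfl, rfl⟩
  · rw [qv h, ← e1]; nth_rewrite 2 [e1]; rw [← e2]

theorem xv_inj {s t : F4} (e : D.xv s = D.xv t) : s = t := by
  rw [qv h, qv h] at e
  exact congrArg (·.2.2) (q_inj h e)

theorem xv_ne {s : F4} (e : D.xv s = 1) : s = 0 := xv_inj h (e.trans (zero_of h.vv).symm)

theorem xvA (t : F4) : D.xv t ∈ D.A := cj (h.nbe t) ▸ cjm nbA (xeA t)
theorem qA (x : T3) : q D x ∈ D.A := mul_mem (mul_mem (xeA _) (xbA _)) (xvA h _)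
theorem U_le_A : D.U ≤ D.A := fun _ hg => by obtain ⟨x, rfl⟩ := unf h hg; exact qA h x

theorem q_comm (x y : T3) : ⁅q D x, q D y⁆ = D.xv (be x y) := by
  rw [commutatorElement_def, q_inv h, q_inv h, q_mul h, q_mul h, q_mul h, qv h]
  congr 1
  revert x y; decide +kernel

theorem cardU : Nat.card D.U = 64 := by
  have e : Nat.card T3 = 64 := by simp [T3, card_F4]
  rw [← e]
  refine (Nat.card_eq_of_bijective (fun x => (⟨q D x, qU x⟩ : D.U))
    ⟨fun x y e => q_inj h (congrArg Subtype.val e), fun l => ?_⟩).symm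
  obtain ⟨x, e⟩ := unf h l.2
  exact ⟨x, Subtype.ext e.symm⟩

theorem sq_q {x : T3} (e : q D x * q D x = 1) : x.1 = 0 ∨ x.2.1 = 0 := by
  rw [q_mul h, ← q_zero h] at e
  have k : ∀ x : T3, mu x x = 0 → x.1 = 0 ∨ x.2.1 = 0 := by decide +kernel
  exact k x (q_inj h e)

theorem invU {u : G} (hu : u ∈ D.U) (e : u * u = 1) : u ∈ D.E1 ∨ u ∈ D.E2 := by
  obtain ⟨x, rfl⟩ := unf h hu
  rcases sq_q h e with e1 | e1
  · right
    rw [q, e1, zero_of h.ee, one_mul]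
    exact mul_mem (subset_closure (by simp)) (subset_closure (by simp))
  · left
    rw [q, e1, zero_of h.bb, mul_one]
    exact mul_mem (subset_closure (by simp)) (subset_closure (by simp))

theorem ne_eq : D.ne = D.xe 1 * (D.ne * D.xe 1 * D.ne) * D.xe 1 := n_eq h.ne2 (sq_of h.ee 1) h.ne3
theorem nb_eq : D.nb = D.xb 1 * (D.nb * D.xb 1 * D.nb) * D.xb 1 := n_eq h.nb2 (sq_of h.bb 1) h.nb3

theorem genU {H : Subgroup G} (hU : D.U ≤ H)
    (h1 : ∀ a ∈ D.A, a * D.xe 1 = D.xe 1 * a → a ∈ H)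
    (h2 : ∀ a ∈ D.A, a * D.xb 1 = D.xb 1 * a → a ∈ H) : D.A ≤ H := by
  have k : ∀ n x y z : G, n * n = 1 → n * y = z * n → x * z = z * x →
      n * x * n * y = y * (n * x * n) := fun n x y z e1 e2 e3 => by
    have e4 : y * n = n * z := by
      rw [← cj e2, ← mul_assoc, ← mul_assoc, e1, one_mul, inv_eq_of_mul_eq_one_right e1]
    rw [mul_assoc, e2, ← mul_assoc, mul_assoc n, e3, ← mul_assoc, ← e4]; group
  refine A_le (fun t => hU (xeU t)) (fun t => hU (xbU t)) ?_ ?_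
  · rw [ne_eq h]
    exact mul_mem (mul_mem (hU (xeU 1)) (h2 _ (mul_mem (mul_mem neA (xeA 1)) neA)
      (k _ _ _ _ h.ne2 (h.neb 1) (h.ev 1 1)))) (hU (xeU 1))
  · rw [nb_eq h]
    exact mul_mem (mul_mem (hU (xbU 1)) (h1 _ (mul_mem (mul_mem nbA (xbA 1)) nbA)
      (k _ _ _ _ h.nb2 (h.nbe 1) (h.bv 1 1)))) (hU (xbU 1))

theorem nrmU {J : Subgroup G} (hJ : D.U ≤ normalizer (J : Set G)) {x : G} (hx : x ∈ J)
    (h1 : x ∈ D.U) (h2 : x ∉ D.V) : D.V ≤ J := fun v hv => by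
  obtain ⟨t, rfl⟩ := (mem_V h).1 hv
  obtain ⟨x, rfl⟩ := unf h h1
  have k : ∀ (x : T3) (t : F4), ¬ (x.1 = 0 ∧ x.2.1 = 0) → ∃ a b, be x (a, b, 0) = t := by
    decide +kernel
  obtain ⟨a, b, rfl⟩ := k x t (mt (q_mem_V h).2 h2)
  rw [← q_comm h, commutatorElement_def, mul_assoc, mul_assoc, ← mul_assoc (q D (a, b, 0))]
  exact mul_mem hx ((mem_normalizer_iff.1 (hJ (qU _)) _).1 (inv_mem hx))

theorem stK {g : G} (s : D.St D g 1 1 false) : g ∈ D.K := by
  have k : ∀ x, g * x * g⁻¹ = x → x ∈ centralizer {g} := fun x e =>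
    mem_centralizer_singleton_iff.2 (mul_inv_eq_iff_eq_mul.1 e).symm
  have e1 := fun t => k _ (by simpa [pw] using s.e t : g * D.xe t * g⁻¹ = D.xe t)
  have e2 := fun t => k _ (by simpa [pw] using s.b t : g * D.xb t * g⁻¹ = D.xb t)
  refine fun a ha => mem_centralizer_singleton_iff.1 (A_le e1 e2 ?_ ?_ ha)
  · rw [ne_eq h]
    exact mul_mem (mul_mem (e1 1) (k _ (by simpa [pw] using s.e' 1))) (e1 1)
  · rw [nb_eq h]
    exact mul_mem (mul_mem (e2 1) (k _ (by simpa [pw] using s.b' 1))) (e2 1)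

theorem st_q {sw fr : Bool} {g : G} {l m : F4} (s : D.St (T D sw) g l m fr) (x : T3) :
    g * q D x * g⁻¹ = q D (act sw fr l m x) := by
  rw [q, ← conj_mul, ← conj_mul, s.e, s.b, s.v]
  cases sw
  · rfl
  · change D.xb _ * D.xe _ * D.xv _ = _
    rw [qb h, qe h, qv h, q_mul h, q_mul h]
    congr 1
    have k : ∀ (fr : Bool) (a b : F4), pw fr (a * b) = pw fr a * pw fr b := by decide +kernel
    simp only [mu, act, k, if_true, Prod.mk.injEq]
    exact ⟨by ring, by ring, by ring⟩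

end Cfsg.Agent.H65.AC
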