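import Cfsg.Agent.H42.ALDefs
import Cfsg.Agent.H44.AsP

/-!
# The root data of `L₃(4)`: the unipotent group and the standard automorphisms
-/

set_option autoImplicit false
set_option maxRecDepth 100000
set_option synthInstance.maxSize 2000

namespace Cfsg.Agent.H65.AL

open Subgroup H28 H42.AL
open H42.AS (om)
open H44.AP (aa two0 cases4 cj zero_of sq_of inv_of)
open Cfsg.Agent.H8 (IsSylowIn)
open scoped commutatorElement

universe u

variable {G : Type u} [Group G] {D : RD G}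

/-- Coordinates on `U`. -/
abbrev T3 : Type := F4 × F4 × F4

/-- The product in coordinates. -/
def mu (x y : T3) : T3 := (x.1 + y.1, x.2.1 + y.2.1, x.2.2 + y.2.2 + x.2.1 * y.1)
/-- The inverse in coordinates. -/
def iv (x : T3) : T3 := (x.1, x.2.1, x.2.2 + x.1 * x.2.1)
/-- The commutator form. -/
def be (x y : T3) : F4 := x.2.1 * y.1 + y.2.1 * x.1

variable (D) in
/-- The elements of `U`. -/
def q (x : T3) : G := D.xe x.1 * D.xb x.2.1 * D.xv x.2.2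

theorem cjm {H : Subgroup G} {a y : G} (ha : a ∈ H) (hy : y ∈ H) : a * y * a⁻¹ ∈ H :=
  mul_mem (mul_mem ha hy) (inv_mem ha)

theorem xeA (t : F4) : D.xe t ∈ D.A := subset_closure (by simp)
theorem xbA (t : F4) : D.xb t ∈ D.A := subset_closure (by simp)
theorem neA : D.ne ∈ D.A := subset_closure (by simp)
theorem nbA : D.nb ∈ D.A := subset_closure (by simp)
theorem hbA : D.hb ∈ D.A :=
  mul_mem (mul_mem (mul_mem (mul_mem (mul_mem (xbA _) nbA) (xbA _)) nbA) (xbA _)) nbA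
theorem rhoA : D.rho ∈ D.A := mul_mem hbA hbA
theorem xeU (t : F4) : D.xe t ∈ D.U := subset_closure (by simp)
theorem xbU (t : F4) : D.xb t ∈ D.U := subset_closure (by simp)
theorem xvU (t : F4) : D.xv t ∈ D.U := subset_closure (by simp)
theorem xvV (t : F4) : D.xv t ∈ D.V := subset_closure ⟨t, rfl⟩
theorem qU (x : T3) : q D x ∈ D.U := mul_mem (mul_mem (xeU _) (xbU _)) (xvU _)

theorem A_le {H : Subgroup G} (he : ∀ t, D.xe t ∈ H) (hb : ∀ t, D.xb t ∈ H) (hn : D.ne ∈ H)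
    (hm : D.nb ∈ H) : D.A ≤ H := by
  refine (closure_le _).2 ?_
  rintro _ ((⟨t, rfl⟩ | ⟨t, rfl⟩) | rfl | rfl)
  exacts [he t, hb t, hn, hm]

theorem AN {a : G} (ha : a ∈ D.A) : a ∈ D.N := le_normalizer ha
theorem KN {a : G} (ha : a ∈ D.K) : a ∈ D.N := centralizer_le_normalizer _ ha
theorem cjA {g a : G} (hg : g ∈ D.N) (ha : a ∈ D.A) : g * a * g⁻¹ ∈ D.A :=
  (mem_normalizer_iff.1 hg a).1 ha
theorem cjA' {g a : G} (hg : g ∈ D.N) (ha : a ∈ D.A) : g⁻¹ * a * g ∈ D.A := by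
  simpa using cjA (inv_mem hg) ha
theorem Kc {k a : G} (hk : k ∈ D.K) (ha : a ∈ D.A) : k * a = a * k := (hk a ha).symm
theorem cjK {g k : G} (hg : g ∈ D.N) (hk : k ∈ D.K) : g * k * g⁻¹ ∈ D.K := fun a ha => by
  calc a * (g * k * g⁻¹) = g * (g⁻¹ * a * g * k) * g⁻¹ := by group
    _ = g * k * g⁻¹ * a := by rw [← Kc hk (cjA' hg ha)]; group

theorem n_eq {n x : G} (h2 : n * n = 1) (hx : x * x = 1) (h3 : (n * x) ^ 3 = 1) :
    n = x * (n * x * n) * x := by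
  rw [pow_succ, pow_two, mul_eq_one_iff_eq_inv, mul_inv_rev, inv_eq_of_mul_eq_one_right h2,
    inv_eq_of_mul_eq_one_right hx] at h3
  rw [show x * (n * x * n) * x = x * (n * x * (n * x)) by group, h3, ← mul_assoc, hx, one_mul]

section Rel

variable (h : D.Rel)
include h

theorem q_mul (x y : T3) : q D x * q D y = q D (mu x y) := by
  have ve : ∀ t u g, D.xv t * (D.xe u * g) = D.xe u * (D.xv t * g) := fun t u g => by
    rw [← mul_assoc, ← h.ev, mul_assoc]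
  have vb : ∀ t u g, D.xv t * (D.xb u * g) = D.xb u * (D.xv t * g) := fun t u g => by
    rw [← mul_assoc, ← h.bv, mul_assoc]
  have be : ∀ t u g, D.xb t * (D.xe u * g) = D.xe u * (D.xb t * (D.xv (t * u) * g)) :=
    fun t u g => by rw [← mul_assoc, h.be, ← vb, mul_assoc, mul_assoc]
  simp only [q, mu, h.ee, h.bb, mul_assoc, ve, vb, be, ← h.vv]
  congr 5
  ring

theorem q_zero : q D 0 = 1 := by simp [q, zero_of h.bb, zero_of h.ee, zero_of h.vv]
theorem qe (t : F4) : D.xe t = q D (t, 0, 0) := by simp [q, zero_of h.bb, zero_of h.vv]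
theorem qb (t : F4) : D.xb t = q D (0, t, 0) := by simp [q, zero_of h.ee, zero_of h.vv]
theorem qv (t : F4) : D.xv t = q D (0, 0, t) := by simp [q, zero_of h.bb, zero_of h.ee]

theorem q_inv (x : T3) : (q D x)⁻¹ = q D (iv x) := by
  rw [inv_eq_iff_mul_eq_one, q_mul h, ← q_zero h]
  congr 1
  revert x; decide +kernel

theorem q_inj {x y : T3} (e : q D x = q D y) : x = y := by
  have e1 : q D x * (q D y)⁻¹ = 1 := by rw [e, mul_inv_cancel]
  rw [q_inv h, q_mul h] at e1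
  have k : ∀ x y : T3, (mu x (iv y)).1 = 0 ∧ (mu x (iv y)).2.1 = 0 ∧ (mu x (iv y)).2.2 = 0 →
      x = y := by decide +kernel
  exact k _ _ (h.nf _ _ _ e1)

theorem unf {g : G} (hg : g ∈ D.U) : ∃ x, g = q D x := by
  induction hg using closure_induction with
  | mem _ h1 =>
    rcases h1 with (⟨t, rfl⟩ | ⟨t, rfl⟩) | ⟨t, rfl⟩
    exacts [⟨_, qe h t⟩, ⟨_, qb h t⟩, ⟨_, qv h t⟩]
  | one => exact ⟨_, (q_zero h).symm⟩
  | mul _ _ _ _ h1 h2 =>
    obtain ⟨a, rfl⟩ := h1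
    obtain ⟨b, rfl⟩ := h2
    exact ⟨_, q_mul h ..⟩
  | inv _ _ h1 =>
    obtain ⟨a, rfl⟩ := h1
    exact ⟨_, q_inv h ..⟩

theorem mem_V {g : G} : g ∈ D.V ↔ ∃ t, g = D.xv t := by
  refine ⟨fun hg => ?_, by rintro ⟨t, rfl⟩; exact xvV t⟩
  induction hg using closure_induction with
  | mem _ h1 => obtain ⟨t, rfl⟩ := h1; exact ⟨t, rfl⟩
  | one => exact ⟨0, (zero_of h.vv).symm⟩
  | mul _ _ _ _ h1 h2 =>
    obtain ⟨t, rfl⟩ := h1
    obtain ⟨s, rfl⟩ := h2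
    exact ⟨_, (h.vv t s).symm⟩
  | inv _ _ h1 =>
    obtain ⟨t, rfl⟩ := h1
    exact ⟨t, inv_of h.vv t⟩

theorem q_mem_V {x : T3} : q D x ∈ D.V ↔ x.1 = 0 ∧ x.2.1 = 0 := by
  rw [mem_V h]
  refine ⟨fun ⟨t, e⟩ => ?_, fun ⟨e1, e2⟩ => ⟨x.2.2, ?_⟩⟩
  · rw [q_inj h (e.trans (qv h t))]; exact ⟨rfl, rfl⟩
  · rw [qv h, ← e1]; nth_rewrite 2 [e1]; rw [← e2]

theorem xv_inj {s t : F4} (e : D.xv s = D.xv t) : s = t := by
  rw [qv h, qv h] at e
  exact congrArg (·.2.2) (q_inj h e)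

theorem xv_ne {s : F4} (e : D.xv s = 1) : s = 0 := xv_inj h (e.trans (zero_of h.vv).symm)

theorem neinv : D.ne⁻¹ = D.ne := inv_eq_of_mul_eq_one_right h.ne2
theorem nbinv : D.nb⁻¹ = D.nb := inv_eq_of_mul_eq_one_right h.nb2
theorem xvA (t : F4) : D.xv t ∈ D.A := cj (h.nbe t) ▸ cjm nbA (xeA t)
theorem qA (x : T3) : q D x ∈ D.A := mul_mem (mul_mem (xeA _) (xbA _)) (xvA h _)
theorem U_le_A : D.U ≤ D.A := fun _ hg => by obtain ⟨x, rfl⟩ := unf h hg; exact qA h x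

theorem q_comm (x y : T3) : ⁅q D x, q D y⁆ = D.xv (be x y) := by
  rw [commutatorElement_def, q_inv h, q_inv h, q_mul h, q_mul h, q_mul h, qv h]
  congr 1
  revert x y; decide +kernel

theorem Uv {u : G} (hu : u ∈ D.U) (t : F4) : u * D.xv t = D.xv t * u := by
  obtain ⟨x, rfl⟩ := unf h hu
  rw [qv h, q_mul h, q_mul h]
  congr 1
  clear hu
  revert x t; decide +kernel

theorem zU {z : G} (hz : z ∈ D.U) (hc : ∀ u ∈ D.U, z * u = u * z) : z ∈ D.V := by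
  obtain ⟨x, rfl⟩ := unf h hz
  have k : ∀ y, be x y = 0 := fun y => xv_ne h (by
    rw [← q_comm h, commutatorElement_eq_one_iff_mul_comm, hc _ (qU y)])
  exact (q_mem_V h).2 ⟨by simpa [be] using k (0, 1, 0), by simpa [be] using k (1, 0, 0)⟩

theorem cardU : Nat.card D.U = 64 := by
  have e : Nat.card T3 = 64 := by simp [T3, card_F4]
  rw [← e]
  refine (Nat.card_eq_of_bijective (fun x => (⟨q D x, qU x⟩ : D.U))
    ⟨fun x y e => q_inj h (congrArg Subtype.val e), fun l => ?_⟩).symm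
  obtain ⟨x, e⟩ := unf h l.2
  exact ⟨x, Subtype.ext e.symm⟩

theorem pU : IsPGroup 2 D.U := IsPGroup.of_card (n := 6) (cardU h)

theorem syl (hc : Nat.card D.A = 20160) : IsSylowIn 2 D.U D.A := by
  refine ⟨U_le_A h, pU h, ?_⟩
  have := H8.card_eq_card_mul_relIndex (U_le_A h)
  rw [hc, cardU h] at this
  omega

theorem sq_q {x : T3} (e : q D x * q D x = 1) : x.1 = 0 ∨ x.2.1 = 0 := by
  rw [q_mul h, ← q_zero h] at e
  have k : ∀ x : T3, mu x x = 0 → x.1 = 0 ∨ x.2.1 = 0 := by decide +kernel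
  exact k x (q_inj h e)

theorem invU {u : G} (hu : u ∈ D.U) (e : u * u = 1) : u ∈ D.E1 ∨ u ∈ D.E2 := by
  obtain ⟨x, rfl⟩ := unf h hu
  rcases sq_q h e with e1 | e1
  · right
    rw [q, e1, zero_of h.ee, one_mul]
    exact mul_mem (subset_closure (by simp)) (subset_closure (by simp))
  · left
    rw [q, e1, zero_of h.bb, mul_one]
    exact mul_mem (subset_closure (by simp)) (subset_closure (by simp))

theorem ne_eq : D.ne = D.xe 1 * (D.ne * D.xe 1 * D.ne) * D.xe 1 := n_eq h.ne2 (sq_of h.ee 1) h.ne3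
theorem nb_eq : D.nb = D.xb 1 * (D.nb * D.xb 1 * D.nb) * D.xb 1 := n_eq h.nb2 (sq_of h.bb 1) h.nb3

theorem genU {H : Subgroup G} (hU : D.U ≤ H)
    (h1 : ∀ a ∈ D.A, a * D.xe 1 = D.xe 1 * a → a ∈ H)
    (h2 : ∀ a ∈ D.A, a * D.xb 1 = D.xb 1 * a → a ∈ H) : D.A ≤ H := by
  have k : ∀ n x y z : G, n * n = 1 → n * y = z * n → x * z = z * x →
      n * x * n * y = y * (n * x * n) := fun n x y z e1 e2 e3 => by
    have e4 : y * n = n * z := by
      rw [← cj e2, ← mul_assoc, ← mul_assoc, e1, one_mul, inv_eq_of_mul_eq_one_right e1]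
    rw [mul_assoc, e2, ← mul_assoc, mul_assoc n, e3, ← mul_assoc, ← e4]; group
  refine A_le (fun t => hU (xeU t)) (fun t => hU (xbU t)) ?_ ?_
  · rw [ne_eq h]
    exact mul_mem (mul_mem (hU (xeU 1)) (h2 _ (mul_mem (mul_mem neA (xeA 1)) neA)
      (k _ _ _ _ h.ne2 (h.neb 1) (h.ev 1 1)))) (hU (xeU 1))
  · rw [nb_eq h]
    exact mul_mem (mul_mem (hU (xbU 1)) (h1 _ (mul_mem (mul_mem nbA (xbA 1)) nbA)
      (k _ _ _ _ h.nb2 (h.nbe 1) (h.bv 1 1)))) (hU (xbU 1))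

theorem nrmU {J : Subgroup G} (hJ : D.U ≤ normalizer (J : Set G)) {x : G} (hx : x ∈ J)
    (h1 : x ∈ D.U) (h2 : x ∉ D.V) : D.V ≤ J := fun v hv => by
  obtain ⟨t, rfl⟩ := (mem_V h).1 hv
  obtain ⟨x, rfl⟩ := unf h h1
  have k : ∀ (x : T3) (t : F4), ¬ (x.1 = 0 ∧ x.2.1 = 0) → ∃ a b, be x (a, b, 0) = t := by
    decide +kernel
  obtain ⟨a, b, rfl⟩ := k x t (mt (q_mem_V h).2 h2)
  rw [← q_comm h, commutatorElement_def, mul_assoc, mul_assoc, ← mul_assoc (q D (a, b, 0))]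
  exact mul_mem hx ((mem_normalizer_iff.1 (hJ (qU _)) _).1 (inv_mem hx))

theorem rho_v (i : ℕ) (y : F4) :
    D.rho ^ i * D.xv y * (D.rho ^ i)⁻¹ = D.xv ((om ^ 2) ^ i * y) := by
  induction i with
  | zero => simp
  | succ i ih =>
    rw [pow_succ', pow_succ', mul_assoc (om ^ 2), ← cj (h.rv _), ← ih]; group

theorem to_one {t : F4} (ht : t ≠ 0) : ∃ i : ℕ, D.rho ^ i * D.xv t * (D.rho ^ i)⁻¹ = D.xv 1 := by
  have k : ∀ t : F4, t ≠ 0 → ∃ i < 3, (om ^ 2) ^ i * t = 1 := by decide +kernel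
  obtain ⟨i, -, e⟩ := k t ht
  exact ⟨i, by rw [rho_v h, e]⟩

theorem inv_of_card [Finite G] (hc : Nat.card D.A = 20160) {a : G} (ha : a ∈ D.A) (h2 : a * a = 1)
    (h1 : a ≠ 1) : ∃ y ∈ D.A, y * a * y⁻¹ = D.xv 1 := by
  obtain ⟨c, hc, hle⟩ := (syl h hc).exists_conj_le (Q := zpowers a)
    (IsPGroup.of_card (n := 1) (by
      rw [Nat.card_zpowers, orderOf_eq_prime (by rw [pow_two, h2]) h1, pow_one]))
    (zpowers_le.2 ha)
  obtain ⟨x, e⟩ := unf h (hle (H8.conj_mem_conj_smul.2 (mem_zpowers a)))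
  have k : ∀ y ∈ D.A, ∀ t, y * q D x * y⁻¹ = D.xv t → ∃ y ∈ D.A, y * a * y⁻¹ = D.xv 1 :=
    fun y hy t e1 => by
      obtain ⟨i, e2⟩ := to_one h (t := t) fun e2 => h1 (by
        rwa [e2, zero_of h.vv, conj_eq_one_iff, ← e, conj_eq_one_iff] at e1)
      exact ⟨D.rho ^ i * y * c, mul_mem (mul_mem (pow_mem rhoA i) hy) hc, by
        rw [← e2, ← e1, ← e]; group⟩
  have k1 : ∀ x : T3, x.1 = 0 ∨ x.2.1 = 0 → x = (0, 0, x.2.2) ∨
      ∃ s, mu (mu (0, s, 0) x) (iv (0, s, 0)) = (x.1, 0, 0) ∨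
        mu (mu (s, 0, 0) x) (iv (s, 0, 0)) = (0, x.2.1, 0) := by decide +kernel
  rcases k1 x (sq_q h (by rw [← e, conj_mul, h2]; group)) with e1 | ⟨s, e1 | e1⟩
  · exact k 1 (one_mem _) x.2.2 (by rw [e1, qv h]; group)
  · refine k (D.nb * q D (0, s, 0)) (mul_mem nbA (qA h _)) x.1 ?_
    rw [← cj (h.nbe _), qe h, ← e1, ← q_mul h, ← q_mul h, ← q_inv h]; group
  · refine k (D.ne * q D (s, 0, 0)) (mul_mem neA (qA h _)) x.2.1 ?_
    rw [← cj (h.neb _), qb h, ← e1, ← q_mul h, ← q_mul h, ← q_inv h]; group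

theorem normV_of (hc : ∀ a ∈ D.A, a * D.xv 1 = D.xv 1 * a → a ∈ D.U) {a : G} (ha : a ∈ D.A)
    (hn : a ∈ normalizer (D.V : Set G)) : ∃ i : ℕ, a * D.rho ^ i ∈ D.U := by
  obtain ⟨s, e⟩ := (mem_V h).1 ((mem_normalizer_iff.1 (inv_mem hn) _).1 (xvV 1))
  obtain ⟨i, e1⟩ := to_one h (t := s) fun e1 => by
    rw [e1, zero_of h.vv, conj_eq_one_iff] at e
    exact one_ne_zero (xv_ne h e)
  refine ⟨2 * i, hc _ (mul_mem ha (pow_mem rhoA _)) ?_⟩
  have e2 : D.rho ^ (2 * i) = (D.rho ^ i)⁻¹ := by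
    rw [eq_inv_iff_mul_eq_one, ← pow_add, show 2 * i + i = 3 * i by ring, pow_mul, h.r3, one_pow]
  rw [e2, ← mul_inv_eq_iff_eq_mul]
  nth_rewrite 1 [← e1]
  rw [← e]; group

end Rel

/-! ### Standard automorphisms -/

variable (D) in
/-- The data or its mirror image. -/
def T (sw : Bool) : RD G := if sw then D.swap else D

omit [Group G] in
theorem T_T (a b : Bool) : T (T D a) b = T D (xor a b) := by cases a <;> cases b <;> rfl
omit [Group G] in
theorem T_v (a : Bool) : (T D a).xv = D.xv := by cases a <;> rfl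

theorem stSwap {D' : RD G} {g : G} {l m : F4} {fr : Bool} (s : D.St D' g l m fr) :
    D.swap.St D'.swap g m l fr :=
  ⟨s.m0, s.l0, s.b, s.e, fun t => by rw [mul_comm m]; exact s.v t, s.b', s.e'⟩

theorem stMul {D' D'' : RD G} {g g' : G} {l m l' m' : F4} {fr fr' : Bool} (s : D.St D' g l m fr)
    (s' : D'.St D'' g' l' m' fr') :
    D.St D'' (g' * g) (l' * pw fr' l) (m' * pw fr' m) (xor fr' fr) := by
  have k0 : ∀ (fr : Bool) (a b : F4), a ≠ 0 → b ≠ 0 → a * pw fr b ≠ 0 := by decide +kernel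
  have k1 : ∀ (fr fr' : Bool) (a b t : F4),
      a * pw fr' (b * pw fr t) = a * pw fr' b * pw (xor fr' fr) t := by decide +kernel
  have k2 : ∀ (fr : Bool) (a b c d : F4),
      a * b * pw fr (c * d) = a * pw fr c * (b * pw fr d) := by decide +kernel
  have k3 : ∀ (fr : Bool) (a b : F4), a ^ 2 * pw fr (b ^ 2) = (a * pw fr b) ^ 2 := by decide +kernel
  have k : ∀ x, g' * g * x * (g' * g)⁻¹ = g' * (g * x * g⁻¹) * g'⁻¹ := fun x => by group
  exact ⟨k0 _ _ _ s'.l0 s.l0, k0 _ _ _ s'.m0 s.m0, fun t => by rw [k, s.e, s'.e, k1],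
    fun t => by rw [k, s.b, s'.b, k1], fun t => by rw [k, s.v, s'.v, k1, k2],
    fun t => by rw [k, s.e', s'.e', k1, k3], fun t => by rw [k, s.b', s'.b', k1, k3]⟩

theorem stInv {D' : RD G} {g : G} {l m : F4} {fr : Bool} (s : D.St D' g l m fr) :
    D'.St D g⁻¹ (pw fr (l ^ 2)) (pw fr (m ^ 2)) fr := by
  have k0 : ∀ (fr : Bool) (a : F4), a ≠ 0 → pw fr (a ^ 2) ≠ 0 := by decide +kernel
  have k1 : ∀ (fr : Bool) (a t : F4), a ≠ 0 → a * pw fr (pw fr (a ^ 2) * pw fr t) = t := by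
    decide +kernel
  have k2 : ∀ (fr : Bool) (a b t : F4), a ≠ 0 → b ≠ 0 →
      a * b * pw fr (pw fr (a ^ 2) * pw fr (b ^ 2) * pw fr t) = t := by decide +kernel
  have k3 : ∀ (fr : Bool) (a t : F4), a ≠ 0 →
      a ^ 2 * pw fr (pw fr (a ^ 2) ^ 2 * pw fr t) = t := by decide +kernel
  have k : ∀ x y, g * x * g⁻¹ = y → g⁻¹ * y * g⁻¹⁻¹ = x := fun x y e => by rw [← e]; group
  exact ⟨k0 _ _ s.l0, k0 _ _ s.m0, fun t => k _ _ (by rw [s.e, k1 _ _ _ s.l0]),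
    fun t => k _ _ (by rw [s.b, k1 _ _ _ s.m0]), fun t => k _ _ (by rw [s.v, k2 _ _ _ _ s.l0 s.m0]),
    fun t => k _ _ (by rw [s.e', k3 _ _ _ s.l0]), fun t => k _ _ (by rw [s.b', k3 _ _ _ s.m0])⟩

theorem stT {D' : RD G} {g : G} {l m : F4} {fr : Bool} (s : D.St D' g l m fr) (a : Bool) :
    (T D a).St (T D' a) g (if a then m else l) (if a then l else m) fr := by
  cases a
  exacts [s, stSwap s]

variable (D) in
/-- `g` is standard of type `(sw, fr)`. -/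
def P (sw fr : Bool) (g : G) : Prop := ∃ l m, D.St (T D sw) g l m fr

theorem P.mul {a b c d : Bool} {g g' : G} (s : P D a b g) (s' : P D c d g') :
    P D (xor a c) (xor b d) (g * g') := by
  obtain ⟨l, m, s⟩ := s
  obtain ⟨l', m', s'⟩ := s'
  exact ⟨_, _, T_T (D := D) a c ▸ stMul s' (stT s c)⟩

theorem P.inv {a b : Bool} {g : G} (s : P D a b g) : P D a b g⁻¹ := by
  obtain ⟨l, m, s⟩ := s
  have := stT (stInv s) a
  rw [T_T, Bool.xor_self] at this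
  exact ⟨_, _, this⟩

theorem st_one : D.St D 1 1 1 false := by
  refine ⟨one_ne_zero, one_ne_zero, ?_, ?_, ?_, ?_, ?_⟩ <;> simp [pw]

theorem P.pow {g : G} (s : P D false false g) (i : ℕ) : P D false false (g ^ i) := by
  induction i with
  | zero => exact ⟨1, 1, pow_zero g ▸ st_one⟩
  | succ i ih => rw [pow_succ]; exact ih.mul s

/-- The action of a standard element on the coordinates. -/
def act (sw fr : Bool) (l m : F4) (x : T3) : T3 :=
  if sw then (m * pw fr x.2.1, l * pw fr x.1, l * m * pw fr x.2.2 + l * m * pw fr (x.1 * x.2.1))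
  else (l * pw fr x.1, m * pw fr x.2.1, l * m * pw fr x.2.2)

section Rel

variable (h : D.Rel)
include h

theorem st_rho : D.St D D.rho om om false := by
  have k : ∀ (n : G) (x : F4 → G), n * n = 1 → n * D.rho * n = D.rho ^ 2 →
      (∀ t, D.rho * x t = x (om * t) * D.rho) → ∀ t,
      D.rho * (n * x t * n) * D.rho⁻¹ = n * x (om ^ 2 * t) * n := fun n x e1 e2 e3 t => by
    have e4 : D.rho = n * (D.rho * D.rho) * n := by
      rw [← pow_two, ← e2, ← mul_assoc, ← mul_assoc, e1, one_mul, mul_assoc, e1, mul_one]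
    have e5 := inv_eq_of_mul_eq_one_right e1
    rw [pow_two, mul_assoc om, ← cj (e3 _), ← cj (e3 _)]
    calc D.rho * (n * x t * n) * D.rho⁻¹
        = n * (D.rho * D.rho) * n * (n * x t * n⁻¹) * (n * (D.rho * D.rho) * n)⁻¹ := by
          rw [← e4, e5]
      _ = n * (D.rho * D.rho) * (n * n) * x t * (n * n)⁻¹ * (D.rho * D.rho)⁻¹ * n⁻¹ := by group
      _ = _ := by rw [e1, e5]; group
  exact ⟨by decide, by decide, fun t => cj (h.re t), fun t => cj (h.rb t),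
    fun t => by rw [← pow_two]; exact cj (h.rv t), k _ _ h.ne2 h.ner h.re, k _ _ h.nb2 h.nbr h.rb⟩

theorem P_rho (i : ℕ) : P D false false (D.rho ^ i) := P.pow ⟨_, _, st_rho h⟩ i

theorem stK {g : G} (s : D.St D g 1 1 false) : g ∈ D.K := by
  have k : ∀ x, g * x * g⁻¹ = x → x ∈ centralizer {g} := fun x e =>
    mem_centralizer_singleton_iff.2 (mul_inv_eq_iff_eq_mul.1 e).symm
  have e1 := fun t => k _ (by simpa [pw] using s.e t : g * D.xe t * g⁻¹ = D.xe t)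
  have e2 := fun t => k _ (by simpa [pw] using s.b t : g * D.xb t * g⁻¹ = D.xb t)
  refine fun a ha => mem_centralizer_singleton_iff.1 (A_le e1 e2 ?_ ?_ ha)
  · rw [ne_eq h]
    exact mul_mem (mul_mem (e1 1) (k _ (by simpa [pw] using s.e' 1))) (e1 1)
  · rw [nb_eq h]
    exact mul_mem (mul_mem (e2 1) (k _ (by simpa [pw] using s.b' 1))) (e2 1)

theorem st_q {sw fr : Bool} {g : G} {l m : F4} (s : D.St (T D sw) g l m fr) (x : T3) :
    g * q D x * g⁻¹ = q D (act sw fr l m x) := by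
  rw [q, ← conj_mul, ← conj_mul, s.e, s.b, s.v]
  cases sw
  · rfl
  · change D.xb _ * D.xe _ * D.xv _ = _
    rw [qb h, qe h, qv h, q_mul h, q_mul h]
    congr 1
    have k : ∀ (fr : Bool) (a b : F4), pw fr (a * b) = pw fr a * pw fr b := by decide +kernel
    simp only [mu, act, k, if_true, Prod.mk.injEq]
    exact ⟨by ring, by ring, by ring⟩

theorem P.cA {a b : Bool} {g : G} (s : P D a b g) {y : G} (hy : y ∈ D.A) : g * y * g⁻¹ ∈ D.A := by
  obtain ⟨l, m, s⟩ := s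
  have k : ∀ t, (T D a).xe t ∈ D.A ∧ (T D a).xb t ∈ D.A ∧ (T D a).ne ∈ D.A ∧ (T D a).nb ∈ D.A :=
    fun t => by
      cases a
      exacts [⟨xeA t, xbA t, neA, nbA⟩, ⟨xbA t, xeA t, nbA, neA⟩]
  have e1 : ∀ t, D.xe t ∈ D.A.comap (MulAut.conj g).toMonoidHom := fun t =>
    show g * _ * g⁻¹ ∈ _ from s.e t ▸ (k _).1
  have e2 : ∀ t, D.xb t ∈ D.A.comap (MulAut.conj g).toMonoidHom := fun t =>
    show g * _ * g⁻¹ ∈ _ from s.b t ▸ (k _).2.1
  refine A_le e1 e2 ?_ ?_ hy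
  · rw [ne_eq h]
    exact mul_mem (mul_mem (e1 1) (show g * _ * g⁻¹ ∈ _ from s.e' 1 ▸
      mul_mem (mul_mem (k 0).2.2.1 (k _).1) (k 0).2.2.1)) (e1 1)
  · rw [nb_eq h]
    exact mul_mem (mul_mem (e2 1) (show g * _ * g⁻¹ ∈ _ from s.b' 1 ▸
      mul_mem (mul_mem (k 0).2.2.2 (k _).2.1) (k 0).2.2.2)) (e2 1)

theorem P.N {a b : Bool} {g : G} (s : P D a b g) : g ∈ D.N :=
  mem_normalizer_iff.2 fun y => ⟨s.cA h, fun hy => by simpa [mul_assoc] using s.inv.cA h hy⟩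

theorem P.cU {a b : Bool} {g : G} (s : P D a b g) {y : G} (hy : y ∈ D.U) : g * y * g⁻¹ ∈ D.U := by
  obtain ⟨l, m, s⟩ := s
  obtain ⟨x, rfl⟩ := unf h hy
  exact st_q h s x ▸ qU _

theorem P.cV {a b : Bool} {g : G} (s : P D a b g) {y : G} (hy : y ∈ D.V) : g * y * g⁻¹ ∈ D.V := by
  obtain ⟨l, m, s⟩ := s
  obtain ⟨x, rfl⟩ := (mem_V h).1 hy
  rw [s.v, T_v]; exact xvV _

theorem P.NV {a b : Bool} {g : G} (s : P D a b g) : g ∈ normalizer (D.V : Set G) :=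
  mem_normalizer_iff.2 fun y => ⟨s.cV h, fun hy => by simpa [mul_assoc] using s.inv.cV h hy⟩

theorem UNV {u : G} (hu : u ∈ D.U) : u ∈ normalizer (D.V : Set G) :=
  centralizer_le_normalizer _ fun y hy => by
    obtain ⟨t, rfl⟩ := (mem_V h).1 hy
    exact (Uv h hu t).symm

end Rel

end Cfsg.Agent.H65.AL
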