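import Mathlib
import Cfsg.Agent.H10.BenderMain
import Cfsg.Agent.H10.BCor
import Cfsg.Agent.H61.ZassTwo
import Cfsg.Agent.H61.ZassOdd
import Cfsg.Agent.H11.ZassClass
import Cfsg.Agent.H60.Burnside2T
import Cfsg.Agent.H2.SchurZassenhaus
import Cfsg.Agent.S0205
import Cfsg.Agent.H9.GWInv

/-!
# Doubly transitive groups in which the centralizer of an involution has constant fixity
-/

set_option autoImplicit false
set_option linter.unusedSectionVars false

namespace Cfsg.Agent.H65.CF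

open MulAction Subgroup

theorem card_eq_of_fiber {α β : Type*} [Finite α] [Finite β] (f : α → β) {n : ℕ}
    (h : ∀ b, Nat.card {x // f x = b} = n) : Nat.card α = Nat.card β * n := by
  have := Fintype.ofFinite β
  rw [← Nat.card_congr (Equiv.sigmaFiberEquiv f), Nat.card_sigma]
  simp [h]

theorem card_le_of_fiber {α β : Type*} [Finite α] [Finite β] (f : α → β) {n : ℕ}
    (h : ∀ b, Nat.card {x // f x = b} ≤ n) : Nat.card α ≤ Nat.card β * n := by
  have := Fintype.ofFinite β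
  rw [← Nat.card_congr (Equiv.sigmaFiberEquiv f), Nat.card_sigma]
  refine (Finset.sum_le_sum fun b _ => h b).trans ?_
  simp

variable {G Ω : Type*} [Group G] [Finite G] [Finite Ω] [MulAction G Ω]

/-- The set of fixed points. -/
abbrev Fx (Ω : Type*) [MulAction G Ω] (g : G) : Set Ω := {x | g • x = x}

theorem ncard_Fx (g : G) : (Fx Ω g).ncard = Nat.card {x : Ω // g • x = x} := rfl

theorem Fx_conj (g s : G) : (Fx Ω (g * s * g⁻¹)).ncard = (Fx Ω s).ncard :=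
  H61.card_fixedBy_conj (Ω := Ω) g s

theorem card_moved (t : G) : Nat.card {x : Ω // t • x ≠ x} = Nat.card Ω - (Fx Ω t).ncard := by
  have := Set.ncard_add_ncard_compl (Fx Ω t)
  have e : Nat.card {x : Ω // t • x ≠ x} = (Fx Ω t)ᶜ.ncard := rfl
  omega

theorem dvd_of_const (C : Subgroup G) {i : ℕ} (hi : i ≤ Nat.card Ω)
    (h : ∀ g ∈ C, g ≠ 1 → (Fx Ω g).ncard = i) : Nat.card C ∣ Nat.card Ω - i := by
  classical
  have := Fintype.ofFinite C
  have := Fintype.ofFinite Ω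
  have := Fintype.ofFinite (orbitRel.Quotient C Ω)
  have h1 := sum_card_fixedBy_eq_card_orbits_mul_card_group C Ω
  have h2 : ∀ g : C, Fintype.card (fixedBy Ω g) = i + if g = 1 then Nat.card Ω - i else 0 := by
    intro g
    rw [← Nat.card_eq_fintype_card]
    split_ifs with hg
    · subst hg
      rw [fixedBy_one_eq_univ, Nat.card_coe_set_eq, Set.ncard_univ]
      omega
    · exact h g g.2 (fun e => hg (Subtype.ext e))
  simp only [h2, Finset.sum_add_distrib, Finset.sum_const, Finset.card_univ, smul_eq_mul,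
    Finset.sum_ite_eq', Finset.mem_univ, if_true] at h1
  rw [Nat.card_eq_fintype_card (α := C)]
  exact (Nat.dvd_add_right (Dvd.intro _ rfl)).mp (h1 ▸ Dvd.intro_left _ rfl)

/-- The consequences of the counting argument. -/
structure St (G Ω : Type*) [Group G] [MulAction G Ω] (i : ℕ) : Prop where
  faith : ∀ g : G, (∀ a : Ω, g • a = a) → g = 1
  two : ∀ a b c d : Ω, a ≠ b → c ≠ d → ∃ g : G, g • a = c ∧ g • b = d
  ex : ∃ t : G, orderOf t = 2
  swap : ∀ (s t : G) (a b : Ω), orderOf t = 2 → a ≠ b → s • a = b → s • b = a →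
    ∃ g : G, s = g * t * g⁻¹
  fix : ∀ s g : G, orderOf s = 2 → g ≠ 1 → g * s = s * g → (Fx Ω g).ncard = i
  card : ∀ s : G, orderOf s = 2 → Nat.card (centralizer ({s} : Set G)) = Nat.card Ω - i

theorem exists_moved (hf : ∀ g : G, (∀ a : Ω, g • a = a) → g = 1) {s : G} (hs : s ≠ 1) :
    ∃ a : Ω, s • a ≠ a := by
  by_contra h
  push Not at h
  exact hs (hf s h)

theorem sq_of {s : G} (hs : orderOf s = 2) : s * s = 1 := by
  rw [← pow_two, ← hs, pow_orderOf_eq_one]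

theorem ne_of {s : G} (hs : orderOf s = 2) : s ≠ 1 := by
  rintro rfl; simp at hs

theorem ord_of {s : G} (h1 : s ≠ 1) (h2 : s * s = 1) : orderOf s = 2 :=
  orderOf_eq_prime (by rw [pow_two, h2]) h1

theorem ord_conj (g s : G) : orderOf (g * s * g⁻¹) = orderOf s := (MulAut.conj g).orderOf_eq s

theorem count (hf : ∀ g : G, (∀ a : Ω, g • a = a) → g = 1)
    (two : ∀ a b c d : Ω, a ≠ b → c ≠ d → ∃ g : G, g • a = c ∧ g • b = d) {i : ℕ} {t : G}
    (ht : orderOf t = 2) (hC : ∀ g : G, g * t = t * g → g ≠ 1 → (Fx Ω g).ncard = i) {a b : Ω}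
    (hab : a ≠ b) : Nat.card (centralizer ({t} : Set G)) = Nat.card Ω - i ∧
      ∀ s : G, s • a = b → s • b = a → ∃ g : G, s = g * t * g⁻¹ := by
  have hti : (Fx Ω t).ncard = i := hC t rfl (ne_of ht)
  have tt : ∀ x : Ω, t • t • x = x := fun x => by rw [← mul_smul, sq_of ht, one_smul]
  obtain ⟨x₀, hx₀⟩ := exists_moved hf (ne_of ht)
  have hm := card_moved (Ω := Ω) t
  rw [hti] at hm
  have hpos : 0 < Nat.card Ω - i := by
    rw [← hm]
    have : Nonempty {x : Ω // t • x ≠ x} := ⟨⟨x₀, hx₀⟩⟩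
    exact Nat.card_pos
  have hd : Nat.card (centralizer ({t} : Set G)) ∣ Nat.card Ω - i :=
    dvd_of_const _ (by omega) fun g hg h1 => hC g (mem_centralizer_singleton_iff.mp hg) h1
  have hle := Nat.le_of_dvd hpos hd
  let f₁ : {g : G // t • g • a = g • b} → {x : Ω // t • x ≠ x} := fun g =>
    ⟨g.1 • a, fun e => hab (smul_left_cancel g.1 (e.symm.trans g.2))⟩
  have c1 : Nat.card {g : G // t • g • a = g • b} =
      (Nat.card Ω - i) * Nat.card (H61.stab2 G a b) := by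
    rw [← hm]
    refine card_eq_of_fiber f₁ fun x => ?_
    obtain ⟨s, hs1, hs2⟩ := two a b x.1 (t • x.1) hab x.2.symm
    rw [← H61.card_transporter s hs1 hs2]
    refine Nat.card_congr ⟨fun g => ⟨g.1.1, congrArg Subtype.val g.2, ?_⟩,
      fun g => ⟨⟨g.1, by rw [g.2.1, g.2.2]⟩, Subtype.ext g.2.1⟩, fun _ => rfl, fun _ => rfl⟩
    rw [← g.1.2]
    exact congrArg (t • ·) (congrArg Subtype.val g.2)
  let f₂ : {g : G // t • g • a = g • b} → {s : G // s • a = b ∧ s • b = a} := fun g =>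
    ⟨g.1⁻¹ * t * g.1, by rw [mul_smul, mul_smul, g.2, inv_smul_smul],
      by rw [mul_smul, mul_smul, ← g.2, tt, inv_smul_smul]⟩
  have c2 : Nat.card {s : G // s • a = b ∧ s • b = a} = Nat.card (H61.stab2 G a b) := by
    obtain ⟨s, hs1, hs2⟩ := two a b b a hab hab.symm
    exact H61.card_transporter s hs1 hs2
  have c3 : ∀ s, Nat.card {g // f₂ g = s} ≤ Nat.card (centralizer ({t} : Set G)) := by
    intro s
    rcases isEmpty_or_nonempty {g // f₂ g = s} with h | ⟨⟨g₀⟩⟩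
    · simp
    refine Nat.card_le_card_of_injective (fun g => ⟨g.1.1 * g₀.1.1⁻¹, ?_⟩) ?_
    · have e : g.1.1⁻¹ * t * g.1.1 = g₀.1.1⁻¹ * t * g₀.1.1 :=
        congrArg Subtype.val (g.2.trans g₀.2.symm)
      rw [mem_centralizer_singleton_iff]
      calc g.1.1 * g₀.1.1⁻¹ * t = g.1.1 * (g₀.1.1⁻¹ * t * g₀.1.1) * g₀.1.1⁻¹ := by group
        _ = t * (g.1.1 * g₀.1.1⁻¹) := by rw [← e]; group
    · intro g g' e
      exact Subtype.ext (Subtype.ext (mul_right_cancel (congrArg Subtype.val e)))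
  have hH : 0 < Nat.card (H61.stab2 G a b) := Nat.card_pos
  constructor
  · have := card_le_of_fiber f₂ c3
    rw [c1, c2, mul_comm] at this
    exact le_antisymm hle (Nat.le_of_mul_le_mul_left this hH)
  · intro s h1 h2
    obtain ⟨g, hg⟩ := H61.ZC.surjective_of_fiber f₂ Nat.card_pos c3
      (by rw [c1, c2]; exact Nat.mul_le_mul_right _ hle) ⟨s, h1, h2⟩
    exact ⟨g.1⁻¹, by rw [inv_inv]; exact (congrArg Subtype.val hg).symm⟩

theorem st_of (hf : ∀ g : G, (∀ a : Ω, g • a = a) → g = 1)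
    (two : ∀ a b c d : Ω, a ≠ b → c ≠ d → ∃ g : G, g • a = c ∧ g • b = d) {i : ℕ} {t : G}
    (ht : orderOf t = 2) (hC : ∀ g : G, g * t = t * g → g ≠ 1 → (Fx Ω g).ncard = i) :
    St G Ω i := by
  have cj : ∀ s : G, orderOf s = 2 → ∃ g : G, s = g * t * g⁻¹ := by
    intro s hs
    obtain ⟨a, ha⟩ := exists_moved hf (ne_of hs)
    exact (count hf two ht hC ha.symm).2 s rfl (by rw [← mul_smul, sq_of hs, one_smul])
  have fix : ∀ s g : G, orderOf s = 2 → g ≠ 1 → g * s = s * g → (Fx Ω g).ncard = i := by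
    intro s g hs hg e
    obtain ⟨k, rfl⟩ := cj s hs
    rw [← Fx_conj k⁻¹]
    refine hC _ ?_ fun h => hg ?_
    · calc k⁻¹ * g * k⁻¹⁻¹ * t = k⁻¹ * (g * (k * t * k⁻¹)) * k := by group
        _ = t * (k⁻¹ * g * k⁻¹⁻¹) := by rw [e]; group
    · calc g = k * (k⁻¹ * g * k⁻¹⁻¹) * k⁻¹ := by group
        _ = 1 := by rw [h]; group
  refine ⟨hf, two, ⟨t, ht⟩, fun s u a b hu hab h1 h2 => ?_, fix, fun s hs => ?_⟩
  · exact (count hf two hu (fun g h1 h2 => fix u g hu h2 h1) hab).2 s h1 h2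
  · obtain ⟨a, ha⟩ := exists_moved hf (ne_of hs)
    exact (count hf two hs (fun g h1 h2 => fix s g hs h2 h1) ha).1

namespace St

variable {i : ℕ} (h : St G Ω i)
include h

theorem ord {s : G} {a b : Ω} (hab : a ≠ b) (h1 : s • a = b) (h2 : s • b = a) : orderOf s = 2 := by
  obtain ⟨t, ht⟩ := h.ex
  obtain ⟨g, rfl⟩ := h.swap s t a b ht hab h1 h2
  rw [ord_conj, ht]

theorem exs {a b : Ω} (hab : a ≠ b) : ∃ s : G, s • a = b ∧ s • b = a := h.two a b b a hab hab.symm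

theorem fix_inv {s : G} (hs : orderOf s = 2) : (Fx Ω s).ncard = i := h.fix s s hs (ne_of hs) rfl

theorem inv {s x : G} {a b : Ω} (hab : a ≠ b) (h1 : s • a = b) (h2 : s • b = a) (ha : x • a = a)
    (hb : x • b = b) : s * x * s⁻¹ = x⁻¹ := by
  have e1 := sq_of (h.ord (s := s * x) hab (by rw [mul_smul, ha, h1]) (by rw [mul_smul, hb, h2]))
  have e2 := sq_of (h.ord hab h1 h2)
  rw [← eq_inv_iff_mul_eq_one] at e2
  rw [← e2]
  calc s * x * s = s * x * (s * x) * x⁻¹ := by group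
    _ = x⁻¹ := by rw [e1, one_mul]

theorem conj {s t : G} (hs : orderOf s = 2) (ht : orderOf t = 2) : ∃ g : G, s = g * t * g⁻¹ := by
  obtain ⟨a, ha⟩ := exists_moved h.faith (ne_of hs)
  exact h.swap s t a _ ht ha.symm rfl (by rw [← mul_smul, sq_of hs, one_smul])

/-- An element `≠ 1` of even order fixes at most `i` points. -/
theorem exists_inv_pow {y : G} (hy : ¬ Odd (orderOf y)) : ∃ k : ℕ, orderOf (y ^ k) = 2 := by
  obtain ⟨k, hk⟩ := Nat.not_odd_iff_even.mp hy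
  have h0 : orderOf y ≠ 0 := (orderOf_pos y).ne'
  refine ⟨k, ?_⟩
  rw [orderOf_pow' _ (by omega), hk, ← two_mul, Nat.gcd_mul_left_left,
    Nat.mul_div_cancel _ (by omega)]

theorem three_zero (h0 : i = 0) {x : G} {a b c : Ω} (hab : a ≠ b) (hbc : b ≠ c) (hac : a ≠ c)
    (ha : x • a = a) (hb : x • b = b) (hc : x • c = c) : x = 1 := by
  have odd : ∀ (y : G) (d : Ω), y • d = d → Odd (orderOf y) := by
    intro y d hd
    by_contra hy
    obtain ⟨k, hk⟩ := h.exists_inv_pow hy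
    have h1 := h.fix_inv hk
    rw [h0, Set.ncard_eq_zero] at h1
    have : d ∈ Fx Ω (y ^ k) := (stabilizer G d).pow_mem hd k
    rw [h1] at this
    exact this
  obtain ⟨u, u1, u2⟩ := h.exs hab
  obtain ⟨v, v1, v2⟩ := h.exs hac
  obtain ⟨w, w1, w2⟩ := h.exs hbc
  have hy : (w * u * v) • c = c := by rw [mul_smul, mul_smul, v2, u1, w1]
  have e : (w * u * v) * x * (w * u * v)⁻¹ = x⁻¹ := by
    calc (w * u * v) * x * (w * u * v)⁻¹ = w * (u * (v * x * v⁻¹) * u⁻¹) * w⁻¹ := by group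
      _ = w * (u * x * u⁻¹)⁻¹ * w⁻¹ := by rw [h.inv hac v1 v2 ha hc]; group
      _ = x⁻¹ := by rw [h.inv hab u1 u2 ha hb, inv_inv, h.inv hbc w1 w2 hb hc]
  exact H9.GW.eq_one_of_odd_inverts (odd _ c hy) (odd x a ha) e

theorem two_le {s : G} (hs : orderOf s = 2) {a b : Ω} (hab : a ≠ b) (ha : s • a = a)
    (hb : s • b = b) : 2 ≤ i := by
  rw [← h.fix_inv hs, ← Set.ncard_pair hab]
  exact Set.ncard_le_ncard (by rintro x (rfl | rfl); exacts [ha, hb])

theorem regular_of_abelian {A : Subgroup G} [hn : A.Normal] (h0 : A ≠ ⊥) (hc : IsMulCommutative A) :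
    ∃ R : Subgroup G, R.Normal ∧ (∀ x y : Ω, ∃ r ∈ R, r • x = y) ∧
      ∀ x : Ω, ∀ r ∈ R, r • x = x → r = 1 := by
  obtain ⟨⟨r₀, hr₀⟩, h1⟩ := ne_bot_iff_exists_ne_one.mp h0
  obtain ⟨a, ha⟩ := exists_moved h.faith (s := r₀) (fun e => h1 (Subtype.ext e))
  have tr : ∀ x y : Ω, ∃ r ∈ A, r • x = y := by
    intro x y
    by_cases e : x = y
    · exact ⟨1, one_mem _, by rw [one_smul, e]⟩
    obtain ⟨g, g1, g2⟩ := h.two a (r₀ • a) x y ha.symm e
    exact ⟨g * r₀ * g⁻¹, hn.conj_mem _ hr₀ g, by rw [mul_smul, mul_smul, ← g1, inv_smul_smul, g2]⟩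
  refine ⟨A, hn, tr, fun x r hr hx => h.faith r fun y => ?_⟩
  obtain ⟨k, hk, rfl⟩ := tr x y
  have : r * k = k * r := congrArg Subtype.val (hc.is_comm.comm (⟨r, hr⟩ : A) ⟨k, hk⟩)
  rw [← mul_smul, this, mul_smul, hx]

theorem three_one (h0 : i = 1) (h4 : H10.Bender.HasFour (⊤ : Subgroup G)) {x : G} {a b c : Ω}
    (hab : a ≠ b) (hbc : b ≠ c) (hac : a ≠ c) (ha : x • a = a) (hb : x • b = b) (hc : x • c = c) :
    x = 1 := by
  have uf : H10.Bender.UF G Ω := fun t ht => by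
    obtain ⟨d, hd⟩ := Set.ncard_eq_one.mp ((h.fix_inv ht).trans h0)
    exact ⟨d, (hd ▸ Set.mem_singleton d : d ∈ Fx Ω t), fun y hy => (hd ▸ hy : y ∈ ({d} : Set Ω))⟩
  have orb : ∀ d : Ω, d ∈ H10.Bender.orb Ω (⊤ : Subgroup G) := by
    intro d
    obtain ⟨t, ht⟩ := h.ex
    obtain ⟨e, he, -⟩ := uf t ht
    obtain ⟨g, hg⟩ : ∃ g : G, g • e = d := by
      by_cases hed : e = d
      · exact ⟨1, by rw [one_smul, hed]⟩
      · obtain ⟨g, hg, -⟩ := h.exs hed
        exact ⟨g, hg⟩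
    exact ⟨g * t * g⁻¹, mem_top _, by rw [ord_conj, ht],
      by rw [mul_smul, mul_smul, ← hg, inv_smul_smul, he]⟩
  obtain ⟨Q, hQ, -, h2, htr⟩ := H10.Bender.main ⊤ uf h4 ⟨a, orb a, b, orb b, hab⟩ a (orb a)
  have pw : ∀ q ∈ Q, q ≠ 1 → ∃ k : ℕ, orderOf (q ^ k) = 2 := by
    intro q hq h1
    refine h.exists_inv_pow fun ho => h1 ?_
    obtain ⟨k, hk⟩ := h2 q hq
    have h3 : q ^ 2 ^ k = 1 := h.faith _ fun d => (mem_fixingSubgroup_iff _).mp hk.2 d (orb d)
    have h5 := orderOf_dvd_of_pow_eq_one h3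
    exact orderOf_eq_one_iff.mp (Nat.Coprime.eq_one_of_dvd
      (Nat.Coprime.pow_right k (Nat.coprime_two_right.mpr ho)) h5)
  obtain ⟨q, hq, e⟩ := htr b (orb b) c (orb c) hab.symm hac.symm
  have hQa : ∀ y ∈ Q, y • a = a := fun y hy => (hQ.1 hy).2
  have h5 : x * q * x⁻¹ * q⁻¹ ∈ Q :=
    mul_mem ((mem_normalizer_iff.mp (hQ.2 ⟨mem_top _, ha⟩) q).mp hq) (inv_mem hq)
  have h6 : x * q * x⁻¹ * q⁻¹ = 1 := by
    by_contra h7
    obtain ⟨k, hk⟩ := pw _ h5 h7
    have h8 : (x * q * x⁻¹ * q⁻¹) • c = c := by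
      rw [mul_smul, mul_smul, mul_smul, ← e, inv_smul_smul, inv_smul_eq_iff.mpr hb.symm, e, hc]
    have := h.two_le hk hac (hQa _ (pow_mem h5 k)) ((stabilizer G c).pow_mem h8 k)
    omega
  obtain ⟨k, hk⟩ := pw q hq (by rintro rfl; exact hbc (by rw [← e, one_smul]))
  by_contra hx
  have h9 : Commute x q := by
    rw [mul_inv_eq_one, mul_inv_eq_iff_eq_mul] at h6; exact h6
  have h10 := h.fix _ x hk hx (h9.pow_right k)
  have : ({a, b} : Set Ω).ncard ≤ (Fx Ω x).ncard :=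
    Set.ncard_le_ncard (by rintro y (rfl | rfl); exacts [ha, hb])
  rw [Set.ncard_pair hab] at this
  omega

theorem regular_one (h0 : i = 1) (h4 : ¬ H10.Bender.HasFour (⊤ : Subgroup G)) :
    ∃ R : Subgroup G, R.Normal ∧ (∀ x y : Ω, ∃ r ∈ R, r • x = y) ∧
      ∀ x : Ω, ∀ r ∈ R, r • x = x → r = 1 := by
  obtain ⟨t, ht⟩ := h.ex
  obtain ⟨a, ha⟩ := Set.ncard_eq_one.mp ((h.fix_inv ht).trans h0)
  have hta : t • a = a := (ha ▸ Set.mem_singleton a : a ∈ Fx Ω t)
  obtain ⟨b, hb⟩ := exists_moved h.faith (ne_of ht)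
  have hab : a ≠ b := by rintro rfl; exact hb hta
  have hne : stabilizer G a ≠ ⊤ := by
    obtain ⟨s, h1, -⟩ := h.exs hab
    intro e
    exact hab ((show s ∈ stabilizer G a from e ▸ mem_top s).symm.trans h1)
  have se : IsStronglyEmbedded (stabilizer G a) := by
    refine H10.SE.iff.mpr ⟨hne, ⟨t, hta, ht⟩, fun s hs hs2 g hg => ?_⟩
    by_contra hga
    have := h.two_le ((ord_conj g s).trans hs2) (Ne.symm hga) hg
      (by rw [mul_smul, mul_smul, inv_smul_smul, hs])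
    omega
  have h1 := H10.Bender.oddCore_sup_of_not_four se h4
  have h2 : pPrimeCore 2 G ≠ ⊥ := fun e => hne (by rw [← h1, e, bot_sup_eq])
  have := H52.pPrimeCore_characteristic (p := 2) (G := G)
  obtain ⟨M, hM, hM0, -, hc, -⟩ := H2.exists_abelian_pgroup_normal_le _ h2
    (S0205.result (Nat.coprime_two_right.mp H52.coprime_card_pPrimeCore))
  exact h.regular_of_abelian hM0 hc

theorem exists_inv_fix (h2 : 2 ≤ i) {a b : Ω} (hab : a ≠ b) :
    ∃ t : G, orderOf t = 2 ∧ t • a = a ∧ t • b = b := by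
  obtain ⟨t, ht⟩ := h.ex
  obtain ⟨c, hc, d, hd, hcd⟩ := (Set.one_lt_ncard (s := Fx Ω t)).mp (by rw [h.fix_inv ht]; omega)
  obtain ⟨g, rfl, rfl⟩ := h.two c d a b hcd hab
  exact ⟨g * t * g⁻¹, by rw [ord_conj, ht], by rw [mul_smul, mul_smul, inv_smul_smul, hc],
    by rw [mul_smul, mul_smul, inv_smul_smul, hd]⟩

theorem comm {a b : Ω} (hab : a ≠ b) {x y : G} (xa : x • a = a) (xb : x • b = b) (ya : y • a = a)
    (yb : y • b = b) : x * y = y * x := by
  obtain ⟨s, s1, s2⟩ := h.exs hab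
  have e := h.inv (x := x * y) hab s1 s2 (by rw [mul_smul, ya, xa]) (by rw [mul_smul, yb, xb])
  have e' : s * (x * y) * s⁻¹ = (s * x * s⁻¹) * (s * y * s⁻¹) := by group
  rw [e', h.inv hab s1 s2 xa xb, h.inv hab s1 s2 ya yb, ← mul_inv_rev] at e
  exact (inv_injective e).symm

theorem three_two (h0 : i = 2) {x : G} {a b c : Ω} (hab : a ≠ b) (hbc : b ≠ c) (hac : a ≠ c)
    (ha : x • a = a) (hb : x • b = b) (hc : x • c = c) : x = 1 := by
  by_contra hx
  obtain ⟨t, ht, ta, tb⟩ := h.exists_inv_fix h0.ge hab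
  have h1 := h.fix t x ht hx (h.comm hab ha hb ta tb)
  have : ({a, b, c} : Set Ω).ncard ≤ (Fx Ω x).ncard :=
    Set.ncard_le_ncard (by rintro y (rfl | rfl | rfl); exacts [ha, hb, hc])
  rw [Set.ncard_eq_three.mpr ⟨a, b, c, hab, hac, hbc, rfl⟩] at this
  omega

theorem fix_of_sq {t g : G} (ht : orderOf t = 2) (hc : g * t = t * g) (hg : g * g ≠ 1) :
    Fx Ω g = Fx Ω t := by
  have key : ∀ y : G, y * t = t * y → y * y ≠ 1 → Fx Ω y = Fx Ω (y * y) := by
    intro y h1 h2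
    refine Set.eq_of_subset_of_ncard_le (fun d hd => ?_) ?_
    · show (y * y) • d = d
      rw [mul_smul, hd, hd]
    · rw [h.fix t y ht (by rintro rfl; simp at h2) h1,
        h.fix t (y * y) ht h2 (by rw [mul_assoc, h1, ← mul_assoc, h1, mul_assoc])]
  have e : g * t * (g * t) = g * g := by
    rw [mul_assoc, ← mul_assoc t, ← hc, mul_assoc, sq_of ht, mul_one]
  have e1 := key g hc hg
  have e2 := key (g * t) (by rw [← mul_assoc, hc]) (by rwa [e])
  rw [e, ← e1] at e2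
  refine Set.eq_of_subset_of_ncard_le (fun d hd => ?_) ?_
  · have h3 : d ∈ Fx Ω (g * t) := e2 ▸ hd
    have h4 : (t * g) • d = d := hc ▸ h3
    rwa [mul_smul, hd] at h4
  · rw [h.fix_inv ht, h.fix t g ht (by rintro rfl; simp at hg) hc]

theorem swap_comm {t u : G} (ht : orderOf t = 2) {a b : Ω} (hab : a ≠ b) (ta : t • a = a)
    (tb : t • b = b) (u1 : u • a = b) (u2 : u • b = a) : u * t = t * u := by
  have := h.inv hab u1 u2 ta tb
  rw [← (eq_inv_iff_mul_eq_one.mpr (sq_of ht)), mul_inv_eq_iff_eq_mul] at this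
  exact this

theorem uv_sq {t u v : G} (ht : orderOf t = 2) {a b c : Ω} (hab : a ≠ b) (hbc : b ≠ c)
    (hac : a ≠ c) (ta : t • a = a) (tb : t • b = b) (tc : t • c = c) (u1 : u • a = b)
    (u2 : u • b = a) (v1 : v • a = c) (v2 : v • c = a) : u * v * (u * v) = 1 := by
  by_contra hne
  have e := h.fix_of_sq ht (g := u * v) (by
    rw [mul_assoc, h.swap_comm ht hac ta tc v1 v2, ← mul_assoc, h.swap_comm ht hab ta tb u1 u2,
      mul_assoc]) hne
  have : c ∈ Fx Ω (u * v) := e ▸ tc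
  exact hbc (by rw [← u1, ← v2, ← mul_smul]; exact this)

theorem uc_eq {t u v : G} (ht : orderOf t = 2) {a b c : Ω} (hab : a ≠ b) (hbc : b ≠ c)
    (hac : a ≠ c) (ta : t • a = a) (tb : t • b = b) (tc : t • c = c) (u1 : u • a = b)
    (u2 : u • b = a) (v1 : v • a = c) (v2 : v • c = a) : u • c = v • b := by
  have e := h.uv_sq ht hab hbc hac ta tb tc u1 u2 v1 v2
  have e' : u * v = v * u := by
    rw [eq_inv_iff_mul_eq_one.mpr e, mul_inv_rev,
      ← eq_inv_iff_mul_eq_one.mpr (sq_of (h.ord hab u1 u2)),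
      ← eq_inv_iff_mul_eq_one.mpr (sq_of (h.ord hac v1 v2))]
  rw [← v1, ← u1, ← mul_smul, ← mul_smul, e']

theorem fixes {t x : G} (ht : orderOf t = 2) {a b c : Ω} (hab : a ≠ b) (ta : t • a = a)
    (tb : t • b = b) (tc : t • c = c) (xa : x • a = a) (xb : x • b = b) : x • c = c := by
  by_cases hac : a = c
  · exact hac ▸ xa
  by_cases hbc : b = c
  · exact hbc ▸ xb
  obtain ⟨u, u1, u2⟩ := h.exs hab
  obtain ⟨v, v1, v2⟩ := h.exs hac
  have e1 := h.uc_eq ht hab hbc hac ta tb tc u1 u2 v1 v2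
  have e2 := h.uc_eq (u := u * x) ht hab hbc hac ta tb tc (by rw [mul_smul, xa, u1])
    (by rw [mul_smul, xb, u2]) v1 v2
  rw [mul_smul, ← e1] at e2
  exact smul_left_cancel u e2

theorem even (h2 : 2 ≤ i) : Even i := by
  classical
  obtain ⟨t, ht⟩ := h.ex
  obtain ⟨a, ta, b, tb, hab⟩ := (Set.one_lt_ncard (s := Fx Ω t)).mp (by rw [h.fix_inv ht]; omega)
  obtain ⟨u, u1, u2⟩ := h.exs hab
  have hc := h.swap_comm ht hab ta tb u1 u2
  have := Fintype.ofFinite (Fx Ω t)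
  let f : Function.End (Fx Ω t) := fun x =>
    ⟨u • x.1, show t • u • x.1 = u • x.1 by rw [← mul_smul, ← hc, mul_smul, x.2]⟩
  have hf : f ^ 2 ^ 1 = 1 := by
    funext x
    apply Subtype.ext
    show u • u • x.1 = x.1
    rw [← mul_smul, sq_of (h.ord hab u1 u2), one_smul]
  have h1 := Equiv.Perm.card_fixedPoints_modEq hf
  have h3 : IsEmpty f.fixedPoints := by
    refine ⟨fun ⟨⟨c, tc⟩, hc'⟩ => ?_⟩
    have uc : u • c = c := congrArg Subtype.val hc'
    have hac : a ≠ c := by rintro rfl; exact hab (uc.symm.trans u1)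
    have hbc : b ≠ c := by rintro rfl; exact hab (u2.symm.trans uc)
    obtain ⟨v, v1, v2⟩ := h.exs hac
    have := h.uc_eq ht hab hbc hac ta tb tc u1 u2 v1 v2
    rw [uc, ← v1] at this
    exact hab (smul_left_cancel v this)
  rw [Fintype.card_eq_zero (α := f.fixedPoints), ← Nat.card_eq_fintype_card] at h1
  rw [← h.fix_inv ht]
  exact even_iff_two_dvd.mpr ((Nat.modEq_zero_iff_dvd).mp h1)

theorem sub_dvd (h2 : 2 ≤ i) : i - 1 ∣ Nat.card Ω - 1 := by
  obtain ⟨t, ht⟩ := h.ex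
  obtain ⟨a, -⟩ := exists_moved h.faith (ne_of ht)
  let f : {x : Ω // x ≠ a} → Subgroup G := fun x => H61.stab2 G a x.1
  rw [← H61.natCard_ne a]
  refine Dvd.intro_left _ (card_eq_of_fiber (Set.rangeFactorization f) ?_).symm
  rintro ⟨_, c, rfl⟩
  obtain ⟨s, hs, sa, sc⟩ := h.exists_inv_fix h2 c.2.symm
  rw [← h.fix_inv hs, ← Set.ncard_sdiff_singleton_of_mem (show a ∈ Fx Ω s from sa)]
  refine Nat.card_congr ⟨fun x => ⟨x.1.1, ?_, x.1.2⟩, fun x => ⟨⟨x.1, x.2.2⟩, ?_⟩,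
    fun _ => rfl, fun _ => rfl⟩
  · have e : f x.1 = f c := congrArg Subtype.val x.2
    have h1 : s ∈ f c := ⟨sa, sc⟩
    rw [← e] at h1
    exact h1.2
  · have e : H61.stab2 G a x.1 = H61.stab2 G a c.1 :=
      le_antisymm (fun g hg => ⟨hg.1, h.fixes hs (Ne.symm x.2.2) sa x.2.1 sc hg.1 hg.2⟩)
        fun g hg => ⟨hg.1, h.fixes hs c.2.symm sa sc x.2.1 hg.1 hg.2⟩
    exact Subtype.ext e

theorem lt_three : i < 3 := by
  by_contra h3
  push Not at h3
  obtain ⟨t, ht⟩ := h.ex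
  obtain ⟨p, hp, hd⟩ := Nat.exists_prime_and_dvd (show i - 1 ≠ 1 by omega)
  have := Fact.mk hp
  have hp2 : p ≠ 2 := by
    rintro rfl
    obtain ⟨k, hk⟩ := h.even (by omega)
    omega
  have hd2 : p ∣ Nat.card (centralizer ({t} : Set G)) := by
    rw [h.card t ht, show Nat.card Ω - i = (Nat.card Ω - 1) - (i - 1) by omega]
    exact Nat.dvd_sub (hd.trans (h.sub_dvd (by omega))) hd
  obtain ⟨g, hg⟩ := exists_prime_orderOf_dvd_card' p hd2
  rw [← orderOf_coe] at hg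
  have hgg : (g : G) * g ≠ 1 := by
    intro e
    have := orderOf_dvd_of_pow_eq_one ((pow_two (g : G)).trans e)
    rw [hg] at this
    exact hp2 ((Nat.prime_dvd_prime_iff_eq hp Nat.prime_two).mp this)
  have e := h.fix_of_sq ht (mem_centralizer_singleton_iff.mp g.2) hgg
  obtain ⟨a, b, c, ta, tb, tc, hab, hac, hbc⟩ :=
    (Set.two_lt_ncard_iff (s := Fx Ω t)).mp (by rw [h.fix_inv ht]; omega)
  have ga : (g : G) • a = a := (e ▸ ta : a ∈ Fx Ω (g : G))
  have gb : (g : G) • b = b := (e ▸ tb : b ∈ Fx Ω (g : G))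
  have gc : (g : G) • c = c := (e ▸ tc : c ∈ Fx Ω (g : G))
  obtain ⟨u, u1, u2⟩ := h.exs hab
  obtain ⟨v, v1, v2⟩ := h.exs hac
  have e1 := h.uv_sq ht hab hbc hac ta tb tc u1 u2 v1 v2
  have w1 : (u * v) • c = b := by rw [mul_smul, v2, u1]
  have w2 : (u * v) • b = c := by rw [← w1, ← mul_smul, e1, one_smul]
  have e2 := h.inv hbc w2 w1 gb gc
  have e3 : u * v * g * (u * v)⁻¹ = g := by
    calc u * v * g * (u * v)⁻¹ = u * (v * g * v⁻¹) * u⁻¹ := by group
      _ = (u * g * u⁻¹)⁻¹ := by rw [h.inv hac v1 v2 ga gc]; group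
      _ = g := by rw [h.inv hab u1 u2 ga gb, inv_inv]
  exact hgg (eq_inv_iff_mul_eq_one.mp (e3.symm.trans e2))

theorem simple (hZ : IsZassenhausGroup G Ω) : IsSimpleGroup G := by
  obtain ⟨t, ht⟩ := h.ex
  obtain ⟨a, ha⟩ := exists_moved h.faith (ne_of ht)
  have : Nontrivial G := nontrivial_of_ne t 1 (ne_of ht)
  refine ⟨fun N hN => ?_⟩
  by_cases h0 : N = ⊥
  · exact Or.inl h0
  right
  have hZN := H61.IsZ.of_zass (H61.zass_normal hZ N h0)
  obtain ⟨s, s1, s2⟩ := hZN.trans a (t • a) (t • a) a ha.symm ha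
  have s1' : (s : G) • a = t • a := s1
  have s2' : (s : G) • t • a = a := s2
  rw [eq_top_iff]
  intro g _
  obtain ⟨n, hn, h1⟩ := hZN.exists_mul_mem_stab2 ha.symm g
  obtain ⟨k, hk⟩ := h.swap (s * (n⁻¹ * g)) s a (t • a) (h.ord ha.symm s1' s2') ha.symm
    (by rw [mul_smul, h1.1, s1']) (by rw [mul_smul, h1.2, s2'])
  have h2 : (s : G) * (n⁻¹ * g) ∈ N := hk ▸ hN.conj_mem _ s.2 k
  simpa using mul_mem hn (mul_mem (inv_mem s.2) h2)

theorem main : (∃ (F : Type) (_ : Field F) (_ : Fintype F),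
      Nonempty (G ≃* Matrix.ProjectiveSpecialLinearGroup (Fin 2) F)) ∨ Lie.IsoSuzuki G ∨
    (∃ R : Subgroup G, R.Normal ∧ (∀ x y : Ω, ∃ r ∈ R, r • x = y) ∧
      ∀ x : Ω, ∀ r ∈ R, r • x = x → r = 1) := by
  by_contra hc
  push Not at hc
  obtain ⟨c1, c2, c3⟩ := hc
  have c4 : ¬ ∃ R : Subgroup G, R.Normal ∧ (∀ x y : Ω, ∃ r ∈ R, r • x = y) ∧
      ∀ x : Ω, ∀ r ∈ R, r • x = x → r = 1 := by
    rintro ⟨R, h1, h2, h3⟩
    obtain ⟨x, r, hr, hx, h4⟩ := c3 R h1 h2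
    exact h4 (h3 x r hr hx)
  have c5 : ∀ N : Subgroup G, N.Normal → IsPretransitive N Ω → ∃ a : Ω, stabilizer N a ≠ ⊥ := by
    intro N hN ht
    by_contra h1
    push Not at h1
    refine c4 ⟨N, hN, fun x y => ?_, fun x r hr hx => ?_⟩
    · obtain ⟨r, hr⟩ := ht.exists_smul_eq x y
      exact ⟨r, r.2, hr⟩
    · have : (⟨r, hr⟩ : N) ∈ stabilizer N x := hx
      rw [h1 x, mem_bot] at this
      exact congrArg Subtype.val this
  have hZ : H61.IsZ G Ω := by
    refine ⟨h.two, fun g a b c hab hbc hac ha hb hc => ?_, h.faith⟩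
    have := h.lt_three
    rcases (by omega : i = 0 ∨ i = 1 ∨ i = 2) with h0 | h0 | h0
    · exact h.three_zero h0 hab hbc hac ha hb hc
    · by_cases h4 : H10.Bender.HasFour (⊤ : Subgroup G)
      · exact h.three_one h0 h4 hab hbc hac ha hb hc
      · exact absurd (h.regular_one h0 h4) c4
    · exact h.three_two h0 hab hbc hac ha hb hc
  obtain ⟨t, ht⟩ := h.ex
  have : Nontrivial G := nontrivial_of_ne t 1 (ne_of ht)
  have hex : ∃ g : G, g ≠ 1 ∧ ∃ a b : Ω, a ≠ b ∧ g • a = a ∧ g • b = b := by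
    by_contra h1
    push Not at h1
    obtain ⟨K, hK, h2, h3⟩ := hZ.exists_regular_normal ⊤ top_ne_bot fun g _ a b hab ha hb => by
      by_contra hg
      exact h1 g hg a b hab ha hb
    obtain ⟨a, ha⟩ := c5 K hK h2
    exact ha (h3 a)
  have hZ' : IsZassenhausGroup G Ω := ⟨hZ.faithfulSMul, hZ.two, hZ.three, hex, c5⟩
  have := h.simple hZ'
  obtain ⟨g, hg, a, b, hab, ga, gb⟩ := hex
  obtain ⟨U, hU⟩ := hZ.exists_isKer (w := a) (o := b) hab.symm
    (fun e => hg (mem_bot.mp (e ▸ (⟨ga, gb⟩ : g ∈ H61.stab2 G a b))))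
  rcases H11.zass_simple_cases hZ' hU with ⟨K, i1, i2, -, e⟩ | ⟨h2, -⟩
  · exact (c1 K i1 i2).false e.some
  · rcases H61.ZC.zass_two_classify hZ' (a := a) (U := U) hU.fix hU.conj hU.existsUnique h2 with
      ⟨-, K, i1, i2, -, -, -, e⟩ | ⟨-, e, -⟩
    · exact (c1 K i1 i2).false e.some
    · exact c2 e

end St

end Cfsg.Agent.H65.CF
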