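import Cfsg.Agent.H63.GvDefs
import Cfsg.Agent.H58.CyY

/-! Project CY, chapter IV: lemma Y inside a minimal bad subspace. -/

set_option autoImplicit false

namespace Cfsg.Agent.H65.CyLy

open Subgroup MulAction Cfsg.Agent.H11.Cy Cfsg.Agent.H45.Iv Cfsg.Agent.H63.Gv

theorem ly : LyStmt := by
  intro G _ _ Ω _ _ p A h c P m _ Ψ₁ Ψ₂ m1 m2 hne d d1 d2 z hz hz' e he he' hc
  have g1 := m.2.2 _ m1.1 m1.2.1 m1.2.2.1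
  have g2 := m.2.2 _ m2.1 m2.2.1 m2.2.2.1
  have s0 : Sub A (Ψ₁ ∩ Ψ₂) := fun x hx y hy hxy =>
    Set.subset_inter (m1.1 x hx.1 y hy.1 hxy) (m2.1 x hx.2 y hy.2 hxy)
  have g0 : Good A (Ψ₁ ∩ Ψ₂) := fun x hx y hy hxy t ht w hw => g1 x hx.1 y hy.1 hxy t ht w hw.1
  obtain ⟨Y, y1, y2, y3, y4, -⟩ := H58.CyY.lemY h c.sk m.1 m1 m2 hne d1 d2 (c.ga _ m1.1 g1 d d1)
    (c.gb _ m1.1 g1 ⟨d, d1⟩) (c.ga _ m2.1 g2 d d2) (c.gb _ m2.1 g2 ⟨d, d2⟩)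
    (c.ga _ s0 g0 d ⟨d1, d2⟩) hz hz' he he' hc
  exact ⟨Y, ⟨y1, y2, y3⟩, y4⟩

end Cfsg.Agent.H65.CyLy
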