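import Cfsg.Agent.H99.E72Defs
import Cfsg.Agent.S5529

/-!
# S5770, piece SCOTT: two isometries with large fixed spaces and a product of order two fix a vector
-/

set_option autoImplicit false

namespace Cfsg.Agent.H65.E72Scott

open Module Cfsg.Agent.H99.E72

theorem bf_single (b : Fin 56) (v : V) : bf (Pi.single b.rev 1) v = v b := by
  unfold bf
  rw [Finset.sum_eq_single b.rev]
  · simp
  · intro c _ hc
    simp [Pi.single_eq_of_ne hc]
  · simp

theorem exists_bf (f : V →ₗ[ZMod 2] ZMod 2) : ∃ w : V, ∀ u, f u = bf u w := by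
  refine ⟨fun b => f (Pi.single b.rev 1), fun u => ?_⟩
  unfold bf
  conv_lhs => rw [pi_eq_sum_univ' u]
  rw [map_sum]
  refine Finset.sum_congr rfl fun b _ => ?_
  simp only [map_smul, Fin.rev_rev, smul_eq_mul]

theorem fix_of_le (B : EV) (hB : ∀ u v, bf (B u) (B v) = bf u v) (hs : Function.Surjective B)
    (f : V →ₗ[ZMod 2] ZMod 2) (w : V) (hw : ∀ u, f u = bf u w)
    (h : LinearMap.range (1 - B) ≤ LinearMap.ker f) : B w = w := by
  funext b
  obtain ⟨u, hu⟩ := hs (Pi.single b.rev 1)
  have h1 : f ((1 - B) u) = 0 := h ⟨u, rfl⟩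
  rw [LinearMap.sub_apply, Module.End.one_apply, map_sub, sub_eq_zero, hw, hw] at h1
  rw [← bf_single b (B w), ← bf_single b w, ← hu, hB, h1]

theorem half (A : EV) (hA : A * A = 1) : 28 ≤ fd A := by
  have h1 : LinearMap.range (1 - A) ≤ LinearMap.ker (1 - A) := by
    rintro _ ⟨u, rfl⟩
    have h2 : A (A u) = u := congrArg (fun g : EV => g u) hA
    rw [LinearMap.mem_ker]
    simp only [LinearMap.sub_apply, Module.End.one_apply, map_sub, h2]
    funext b
    simp only [Pi.sub_apply, Pi.zero_apply]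
    exact (by decide : ∀ x y : ZMod 2, x - y - (y - x) = 0) _ _
  have h2 := Submodule.finrank_mono h1
  have h3 := LinearMap.finrank_range_add_finrank_ker (1 - A)
  have h4 : finrank (ZMod 2) V = 56 := by simp
  unfold fd
  omega

theorem scott : ScottStmt := by
  intro B C hB hC h2 h16 h16'
  rw [pow_two] at h2
  have sc := S5529.scott B C (B * C) h2
  have h28 := half _ h2
  have h4 : finrank (ZMod 2) V = 56 := by simp
  by_cases h1 : LinearMap.ker (1 - B) ⊓ LinearMap.ker (1 - C) = ⊥
  swap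
  · obtain ⟨v, hv, h0⟩ := (Submodule.ne_bot_iff _).1 h1
    have a := hv.1
    have b := hv.2
    rw [SetLike.mem_coe, LinearMap.mem_ker, LinearMap.sub_apply, Module.End.one_apply,
      sub_eq_zero] at a b
    exact ⟨v, h0, a.symm, b.symm⟩
  by_cases h3 : LinearMap.range (1 - B) ⊔ LinearMap.range (1 - C) = ⊤
  · rw [h1, h3, finrank_top, finrank_bot, h4] at sc
    unfold fd at h16 h16' h28
    omega
  obtain ⟨f, f0, hf⟩ := Submodule.exists_le_ker_of_lt_top _ (lt_top_iff_ne_top.2 h3)
  obtain ⟨w, hw⟩ := exists_bf f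
  have hBs : Function.Surjective B := fun x =>
    ⟨C (B (C x)), congrArg (fun g : EV => g x) h2⟩
  have h5 : C * (B * C * B) = 1 := by
    rw [mul_eq_one_comm, mul_assoc]
    exact h2
  have hCs : Function.Surjective C := fun x =>
    ⟨B (C (B x)), congrArg (fun g : EV => g x) h5⟩
  refine ⟨w, ?_, fix_of_le B hB hBs f w hw (le_sup_left.trans hf),
    fix_of_le C hC hCs f w hw (le_sup_right.trans hf)⟩
  rintro rfl
  apply f0
  ext1 b
  ext
  simp [hw, bf]

end Cfsg.Agent.H65.E72Scott
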