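import Cfsg.Agent.H65.F42aAbs
import Cfsg.Agent.H37.InvF4
import Cfsg.Agent.H74.CksDefs
import Cfsg.Agent.S1054

/-!
# CKS, piece F42A: proper subgroups of `F₄` in characteristic two have large index
-/

set_option autoImplicit false
set_option maxRecDepth 100000

namespace Cfsg.Agent.H65.F42a

open Cfsg Cfsg.Lie Cfsg.Agent.H34 Cfsg.Agent.H37 Module

/-- The short roots in the radical. -/
def S6 : List ℕ := [29, 44, 36, 40, 38, 39]

/-- Four long roots in the radical. -/
def A4 : List ℕ := [24, 26, 31, 32]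

/-- Conjugates under root elements of the Levi factor. -/
def cw1 (g r : ℕ) : List ℕ :=
  (List.lookup (g, r) [((6, 44), [29, 44, 47]), ((10, 44), [44, 36]), ((10, 40), [29, 40]),
    ((22, 39), [38, 39, 47]), ((28, 36), [36, 39]), ((28, 38), [40, 38]), ((35, 29), [29, 39]),
    ((35, 38), [44, 38])]).getD [r]

/-- Conjugates under the opposite long root elements. -/
def cw2 (g r : ℕ) : List ℕ :=
  if (g, r) ∈ [(46, 24), (45, 26), (43, 31), (42, 32)] then [r, 47] else [r]

/-- Words moving the signs to normal form. -/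
def wd1 (M : List ℕ) : List ℕ := (List.lookup M (S6.sublists'.zip
  [[], [22], [6, 35, 6], [28, 35, 6], [22, 35, 10, 35, 22], [22, 35, 10, 35],
  [22, 35, 10, 35, 22, 28], [10, 28, 35], [22, 28, 22], [22, 28], [6, 22, 28, 22, 35, 6], [35, 6],
  [10, 35, 22], [10, 35], [10, 35, 22, 28], [22, 35, 10, 28, 35], [6], [6, 22], [6, 35], [28, 35],
  [6, 22, 35, 10, 35, 22], [6, 22, 35, 10, 35], [6, 22, 35, 10, 35, 22, 28], [28, 10, 35],
  [6, 22, 28, 22], [6, 22, 28], [6, 22, 28, 22, 35], [35], [10, 35, 6, 22], [10, 35, 6],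
  [10, 35, 6, 22, 28], [22, 28, 35, 10, 35], [22, 35, 22], [22, 35], [22, 35, 10, 22, 28, 10],
  [10, 28, 10], [22, 35, 10, 22], [22, 35, 10], [22, 35, 10, 22, 28], [10, 28], [22, 28, 35, 22],
  [22, 28, 35], [22, 28, 35, 10, 22, 28, 10], [35, 6, 35], [10, 22], [10], [10, 22, 28],
  [22, 35, 10, 28], [28, 22], [28], [28, 22, 35], [6, 22, 35], [28, 10, 22], [28, 10],
  [28, 10, 22, 28], [6, 22, 35, 10], [22], [], [22, 35], [6, 22, 28, 35],
  [22, 28, 35, 10, 22], [22, 28, 35, 10], [22, 28, 35, 10, 22, 28], [28, 10, 28]])).getD []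

/-- Words moving the signs to normal form. -/
def wd2 (M : List ℕ) : List ℕ :=
  M.map fun r => (List.lookup r [(24, 46), (26, 45), (31, 43), (32, 42)]).getD 0

theorem cb1 : Cb S6 [47] [47] [6, 10, 22, 28, 35] cw1 wd1
    (List.replicate 36 [47] ++ List.replicate 28 [29, 44, 36, 39, 47]) := by decide +kernel

theorem cb2 : ∀ N ∈ [[47], [29, 44, 36, 39, 47]],
    Cb A4 (S6 ++ [47]) N [46, 45, 43, 42] cw2 wd2 (List.replicate 16 N) := by decide +kernel

theorem tb1 : ∀ g ∈ [6, 10, 22, 28, 35], ∀ r ∈ S6 ++ [47],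
    tabF4.weq [r, g] (g :: cw1 g r) = true ∧ ∀ s ∈ cw1 g r, s ∈ S6 ++ [47] := by decide +kernel

theorem tb2 : ∀ g ∈ [46, 45, 43, 42], ∀ r ∈ A4 ++ (S6 ++ [47]),
    tabF4.weq [r, g] (g :: cw2 g r) = true ∧ ∀ s ∈ cw2 g r, s ∈ A4 ++ (S6 ++ [47]) := by
  decide +kernel

theorem cm0 : (A4 ++ (S6 ++ [47])).Pairwise fun r s => tabF4.weq [r, s] [s, r] = true := by
  decide +kernel

variable {F : Type*} [Field F] [CharP F 2] (C : Cert chevF4)

omit [CharP F 2] in
theorem xl_prod (w : List ℕ) : xl C F w = (w.map fun r => C.xg F r 1).prod := by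
  induction w with
  | nil => rfl
  | cons r w ih => rw [xl_cons, ih, List.map_cons, List.prod_cons]

theorem tb_of {K : List ℕ} {cw : ℕ → ℕ → List ℕ} {g : ℕ}
    (h : ∀ r ∈ K, tabF4.weq [r, g] (g :: cw g r) = true ∧ ∀ s ∈ cw g r, s ∈ K) :
    Tb (fun r => C.xg F r 1) K cw g := fun r hr => by
  refine ⟨?_, (h r hr).2⟩
  have := tabF4.xl_eq (C := C) (F := F) (h r hr).1
  simpa only [xl_prod, List.map_cons, List.prod_cons, List.map_nil, List.prod_nil, mul_one]
    using this

theorem cm : ∀ r ∈ A4 ++ (S6 ++ [47]), ∀ s ∈ A4 ++ (S6 ++ [47]),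
    Commute (C.xg F r 1) (C.xg F s 1) := by
  have h : (A4 ++ (S6 ++ [47])).Pairwise fun r s => Commute (C.xg F r 1) (C.xg F s 1) :=
    cm0.imp fun h => by
      have := tabF4.xl_eq (C := C) (F := F) h
      simpa only [xl_prod, List.map_cons, List.prod_cons, List.map_nil, List.prod_nil, mul_one,
        Commute, SemiconjBy] using this
  intro r hr s hs
  by_cases e : r = s
  · rw [e]
  · have : Std.Symm fun r s => Commute (C.xg F r 1) (C.xg F s 1) := ⟨fun _ _ h => h.symm⟩
    exact h.forall hr hs e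

/-- A rational representation on which a long root element acts nontrivially has dimension at
least `448`. -/
theorem dim_ge {V : Type*} [AddCommGroup V] [Module ℚ V] [FiniteDimensional ℚ V]
    (ρ : chevF4.group F →* Module.End ℚ V) (h : ρ (C.xg F 47 1) ≠ 1) : 448 ≤ finrank ℚ V := by
  have h0 := d_pos ρ (fun r => C.xg F r 1) (z := 47) (xg_one_sq 47) h
  have h1 := d_le ρ (fun r => C.xg F r 1) [47] [47]
  have h2 := reduce ρ (fun r => C.xg F r 1) (fun r _ => xg_one_sq r)
    (fun r hr s hs => cm C r (List.mem_append_right _ (List.mem_append_left _ hr)) s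
      (List.mem_append_right _ hs)) (fun g hg => tb_of C (tb1 g hg)) cb1
  have h3 := fun N hN => reduce ρ (fun r => C.xg F r 1) (fun r _ => xg_one_sq r)
    (fun r hr s hs => cm C r (List.mem_append_left _ hr) s hs) (fun g hg => tb_of C (tb2 g hg))
    (cb2 N hN)
  have h4 := h3 [47] (by simp)
  have h5 := h3 [29, 44, 36, 39, 47] (by simp)
  simp only [List.map_append, List.map_replicate, List.sum_append, List.sum_replicate,
    smul_eq_mul] at h2 h4 h5
  rw [h2, h4, h5] at h0 h1
  generalize d ρ _ _ [47] = a at h0 h1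
  generalize d ρ _ _ [29, 44, 36, 39, 47] = b at h0 h1
  rcases Nat.eq_zero_or_pos a with rfl | ha <;> omega

/-- Proper subgroups have index at least `448`. -/
theorem index_ge [Finite F] (H : Subgroup (chevF4.group F)) (hH : H ≠ ⊤) : 448 ≤ H.index := by
  classical
  have C : Cert chevF4 := cert (by simp)
  have := (S1054.result (F := F) chevF4 (by simp)).1
  have : Fintype (chevF4.group F ⧸ H) := Fintype.ofFinite _
  have h := dim_ge C (rep _ (chevF4.group F ⧸ H)) (rep_ne_one hH fun e =>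
    one_ne_zero ((Cert.xg_eq_one_iff (by decide)).1 e))
  rwa [Module.finrank_fintype_fun_eq_card, ← Nat.card_eq_fintype_card] at h

/-- **F42A** -/
theorem f42a : H74.Cks.F42aStmt := fun F _ _ hF H hH => by
  have : CharP F 2 := charP_of_card_eq_prime hF
  exact lt_of_lt_of_le (by norm_num) (index_ge H hH)

end Cfsg.Agent.H65.F42a
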