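import Mathlib

/-!
# Joint eigenspaces of commuting involutions

`d K N` is the dimension of the joint eigenspace of the elements `x r`, `r ∈ K`, for the
eigenvalue `-1` if `r ∈ N` and `1` otherwise.
-/

set_option autoImplicit false

namespace Cfsg.Agent.H65.F42a

open Module

variable {G : Type*} [Group G] {V : Type*} [AddCommGroup V] [Module ℚ V]
  (ρ : G →* Module.End ℚ V) (x : ℕ → G)

/-- The sign. -/
def sg (b : Bool) : ℚ := if b then -1 else 1

/-- The joint eigenspace. -/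
def W (K N : List ℕ) : Submodule ℚ V where
  carrier := {v | ∀ r ∈ K, ρ (x r) v = sg (decide (r ∈ N)) • v}
  zero_mem' r _ := by simp
  add_mem' {a b} ha hb r hr := by rw [map_add, ha r hr, hb r hr, smul_add]
  smul_mem' c a ha r hr := by rw [map_smul, ha r hr, smul_comm]

theorem mem_W {K N : List ℕ} {v : V} :
    v ∈ W ρ x K N ↔ ∀ r ∈ K, ρ (x r) v = sg (decide (r ∈ N)) • v := Iff.rfl

/-- Its dimension. -/
noncomputable def d (K N : List ℕ) : ℕ := finrank ℚ (W ρ x K N)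

/-- The parity of the number of letters in `N`. -/
def par (N w : List ℕ) : Bool := w.foldr (fun r b => xor (decide (r ∈ N)) b) false

/-- The action on the signs. -/
def mv (K : List ℕ) (cw : ℕ → ℕ → List ℕ) (g : ℕ) (N : List ℕ) : List ℕ :=
  K.filter fun r => par N (cw g r)

theorem rho_mul (a b : G) (v : V) : ρ (a * b) v = ρ a (ρ b v) := by rw [map_mul]; rfl

theorem sg_xor (a b : Bool) : sg (xor a b) = sg a * sg b := by
  cases a <;> cases b <;> simp [sg]

theorem word {K N w : List ℕ} {v : V} (hv : v ∈ W ρ x K N) (hw : ∀ s ∈ w, s ∈ K) :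
    ρ (w.map x).prod v = sg (par N w) • v := by
  induction w with
  | nil => simp [par, sg]
  | cons r w ih =>
    rw [List.map_cons, List.prod_cons, rho_mul, ih fun s hs => hw s (List.mem_cons_of_mem _ hs),
      map_smul, hv r (hw r List.mem_cons_self), smul_smul, mul_comm, ← sg_xor]
    rfl

variable [FiniteDimensional ℚ V]

theorem split {K N : List ℕ} {r : ℕ} (hr : x r * x r = 1) (hc : ∀ s ∈ K, Commute (x r) (x s))
    (h1 : r ∉ K) (h2 : r ∉ N) : d ρ x K N = d ρ x (r :: K) N + d ρ x (r :: K) (r :: N) := by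
  have e1 : ∀ s ∈ K, decide (s ∈ r :: N) = decide (s ∈ N) := fun s hs => by
    have : s ≠ r := fun e => h1 (e ▸ hs)
    simp [this]
  have m1 : ∀ v, v ∈ W ρ x (r :: K) N ↔ ρ (x r) v = v ∧ v ∈ W ρ x K N := fun v => by
    simp [mem_W, h2, sg]
  have m2 : ∀ v, v ∈ W ρ x (r :: K) (r :: N) ↔ ρ (x r) v = -v ∧ v ∈ W ρ x K N := fun v => by
    rw [mem_W, mem_W, List.forall_mem_cons]
    refine and_congr (by simp [sg]) (forall₂_congr fun s hs => by rw [e1 s hs])
  have hs : W ρ x (r :: K) N ⊔ W ρ x (r :: K) (r :: N) = W ρ x K N := by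
    refine le_antisymm (sup_le (fun v hv => ((m1 v).1 hv).2) fun v hv => ((m2 v).1 hv).2)
      fun v hv => ?_
    have h3 : ρ (x r) v ∈ W ρ x K N := fun s hs => by
      rw [← rho_mul, ← (hc s hs).eq, rho_mul, hv s hs, map_smul]
    have h4 : ρ (x r) (ρ (x r) v) = v := by rw [← rho_mul, hr, map_one]; rfl
    refine Submodule.mem_sup.2 ⟨(1 / 2 : ℚ) • (v + ρ (x r) v), (m1 _).2 ⟨?_,
      Submodule.smul_mem _ _ (add_mem hv h3)⟩, (1 / 2 : ℚ) • (v - ρ (x r) v), (m2 _).2 ⟨?_,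
      Submodule.smul_mem _ _ (sub_mem hv h3)⟩, by module⟩
    · rw [map_smul, map_add, h4, add_comm]
    · rw [map_smul, map_sub, h4]; module
  have hi : W ρ x (r :: K) N ⊓ W ρ x (r :: K) (r :: N) = ⊥ := by
    refine eq_bot_iff.2 fun v hv => ?_
    have := ((m1 v).1 hv.1).1.symm.trans ((m2 v).1 hv.2).1
    have h3 : (2 : ℚ) • v = 0 := by linear_combination (norm := module) this
    exact (smul_eq_zero.1 h3).resolve_left two_ne_zero
  have := Submodule.finrank_sup_add_finrank_inf_eq (W ρ x (r :: K) N) (W ρ x (r :: K) (r :: N))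
  rw [hs, hi, finrank_bot, add_zero] at this
  exact this

theorem split_all {K N : List ℕ} (S : List ℕ) (hs : ∀ r ∈ S, x r * x r = 1)
    (hc : ∀ r ∈ S, ∀ s ∈ S ++ K, Commute (x r) (x s)) (hn : S.Nodup)
    (h1 : ∀ r ∈ S, r ∉ K ∧ r ∉ N) :
    d ρ x K N = (S.sublists'.map fun M => d ρ x (S ++ K) (M ++ N)).sum := by
  induction S with
  | nil => simp
  | cons r S ih =>
    have h2 := List.nodup_cons.1 hn
    have h3 := h1 r List.mem_cons_self
    rw [ih (fun s h => hs s (List.mem_cons_of_mem _ h))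
      (fun s h t ht => hc s (List.mem_cons_of_mem _ h) t (List.mem_cons_of_mem _ ht)) h2.2
      (fun s h => h1 s (List.mem_cons_of_mem _ h)), List.sublists'_cons, List.map_append,
      List.sum_append, List.map_map, ← List.sum_map_add]
    refine congrArg _ (List.map_congr_left fun M hM => ?_)
    refine split ρ x (hs r List.mem_cons_self)
      (fun s h => hc r List.mem_cons_self s (List.mem_cons_of_mem _ h)) ?_ ?_
    · simp [h2.1, h3.1]
    · rw [List.mem_append, not_or]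
      exact ⟨fun h => h2.1 ((List.mem_sublists'.1 hM).subset h), h3.2⟩

/-- The table of conjugates. -/
def Tb (K : List ℕ) (cw : ℕ → ℕ → List ℕ) (g : ℕ) : Prop :=
  ∀ r ∈ K, x r * x g = x g * ((cw g r).map x).prod ∧ ∀ s ∈ cw g r, s ∈ K

theorem move {K : List ℕ} {cw : ℕ → ℕ → List ℕ} {g : ℕ} (h : Tb x K cw g) (N : List ℕ) :
    d ρ x K N ≤ d ρ x K (mv K cw g N) := by
  have hm : ∀ v ∈ W ρ x K N, ρ (x g) v ∈ W ρ x K (mv K cw g N) := fun v hv r hr => by
    rw [← rho_mul, (h r hr).1, rho_mul, word ρ x hv (h r hr).2, map_smul]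
    congr 2
    simp [mv, hr]
  refine LinearMap.finrank_le_finrank_of_injective (f := (ρ (x g)).restrict hm) fun a b e => ?_
  have e1 : ρ (x g) a = ρ (x g) b := congrArg Subtype.val e
  have e2 := congrArg (ρ (x g)⁻¹) e1
  rw [← rho_mul, ← rho_mul, inv_mul_cancel, map_one] at e2
  exact Subtype.ext e2

theorem moves {K : List ℕ} {cw : ℕ → ℕ → List ℕ} {w : List ℕ} (h : ∀ g ∈ w, Tb x K cw g)
    (N : List ℕ) : d ρ x K N ≤ d ρ x K (w.foldr (mv K cw) N) := by
  induction w with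
  | nil => exact le_rfl
  | cons g w ih =>
    exact (ih fun s hs => h s (List.mem_cons_of_mem _ hs)).trans
      (move ρ x (h g List.mem_cons_self) _)

/-- The combinatorial part of a reduction. -/
def Cb (S K N Γ : List ℕ) (cw : ℕ → ℕ → List ℕ) (wd : List ℕ → List ℕ) (T : List (List ℕ)) :
    Prop :=
  S.Nodup ∧ (∀ r ∈ S, r ∉ K ∧ r ∉ N) ∧
    (∀ M ∈ S.sublists', (∀ g ∈ wd M, g ∈ Γ) ∧ (wd M).reverse.foldr (mv (S ++ K) cw)
      ((wd M).foldr (mv (S ++ K) cw) (M ++ N)) = M ++ N) ∧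
    (S.sublists'.map fun M => (wd M).foldr (mv (S ++ K) cw) (M ++ N)).Perm T

instance (S K N Γ : List ℕ) (cw : ℕ → ℕ → List ℕ) (wd : List ℕ → List ℕ) (T : List (List ℕ)) :
    Decidable (Cb S K N Γ cw wd T) := by unfold Cb; infer_instance

theorem reduce {S K N Γ : List ℕ} {cw : ℕ → ℕ → List ℕ} {wd : List ℕ → List ℕ}
    {T : List (List ℕ)} (hs : ∀ r ∈ S, x r * x r = 1)
    (hc : ∀ r ∈ S, ∀ s ∈ S ++ K, Commute (x r) (x s)) (hΓ : ∀ g ∈ Γ, Tb x (S ++ K) cw g)
    (h : Cb S K N Γ cw wd T) : d ρ x K N = (T.map (d ρ x (S ++ K))).sum := by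
  obtain ⟨h1, h2, h3, h4⟩ := h
  rw [split_all ρ x S hs hc h1 h2, ← (h4.map _).sum_eq, List.map_map]
  refine congrArg _ (List.map_congr_left fun M hM => ?_)
  obtain ⟨h5, h6⟩ := h3 M hM
  refine le_antisymm (moves ρ x (fun g hg => hΓ g (h5 g hg)) _) ?_
  have := moves ρ x (K := S ++ K) (cw := cw) (w := (wd M).reverse)
    (fun g hg => hΓ g (h5 g (List.mem_reverse.1 hg))) ((wd M).foldr (mv (S ++ K) cw) (M ++ N))
  rwa [h6] at this

theorem d_le (K N : List ℕ) : d ρ x K N ≤ finrank ℚ V := Submodule.finrank_le _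

theorem d_pos {z : ℕ} (hz : x z * x z = 1) (h : ρ (x z) ≠ 1) : 0 < d ρ x [z] [z] := by
  obtain ⟨v, hv⟩ : ∃ v, ρ (x z) v ≠ v := by
    by_contra! H
    exact h (LinearMap.ext H)
  have h1 : v - ρ (x z) v ∈ W ρ x [z] [z] := fun r hr => by
    rw [List.mem_singleton.1 hr, map_sub, ← rho_mul, hz, map_one]
    simp [sg]
  refine Module.finrank_pos_iff_exists_ne_zero.2 ⟨⟨_, h1⟩, fun e => hv ?_⟩
  exact (sub_eq_zero.1 (congrArg Subtype.val e)).symm

/-- The permutation representation on functions. -/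
def rep (G Ω : Type*) [Group G] [MulAction G Ω] : G →* Module.End ℚ (Ω → ℚ) where
  toFun g := LinearMap.funLeft ℚ ℚ fun ω => g⁻¹ • ω
  map_one' := by ext; simp
  map_mul' a b := by ext; simp [mul_smul]

theorem rep_ne_one [IsSimpleGroup G] {H : Subgroup G} (hH : H ≠ ⊤) {z : G} (hz : z ≠ 1) :
    rep G (G ⧸ H) z ≠ 1 := fun e => by
  classical
  have h1 : ∀ ω : G ⧸ H, z⁻¹ • ω = ω := fun ω => by
    have := congrFun (LinearMap.congr_fun e (Pi.single ω 1)) ω
    change (Pi.single ω 1 : G ⧸ H → ℚ) (z⁻¹ • ω) = (Pi.single ω 1 : G ⧸ H → ℚ) ω at this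
    by_contra h
    rw [Pi.single_eq_same, Pi.single_eq_of_ne h] at this
    exact zero_ne_one this
  have h2 : z⁻¹ ∈ H.normalCore := by
    rw [Subgroup.normalCore_eq_ker, MonoidHom.mem_ker]
    exact Equiv.ext h1
  rcases H.normalCore_normal.eq_bot_or_eq_top with h | h
  · rw [h, Subgroup.mem_bot, inv_eq_one] at h2
    exact hz h2
  · exact hH (eq_top_iff.2 (h ▸ H.normalCore_le))

end Cfsg.Agent.H65.F42a
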