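import Mathlib
import Cfsg.Agent.H78.G40A

/-! The amalgam of two copies of `L₃(3)`: first properties. -/

set_option autoImplicit false

namespace Cfsg.Agent.H65.G40Odd

open Subgroup Cfsg.Agent.H46.L40 Cfsg.Agent.H78.G40

universe u

variable {G : Type u} [Group G] [Finite G]

theorem norm_closure {S : Set G} {x : G} (h : ∀ y ∈ S, x * y * x⁻¹ ∈ closure S) :
    x ∈ normalizer (closure S : Set G) :=
  mem_normalizer_fintype fun _ hn =>
    (closure_le (K := (closure S).comap (MulAut.conj x).toMonoidHom)).2 h hn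

theorem odd_card {C : Subgroup G} {t : G} (tt : t * t = 1) (hn : ∀ c ∈ C, t * c * t ∈ C)
    (h : ∀ c ∈ C, c * t = t * c → c * c = 1 → c = 1) : Odd (Nat.card C) := by
  classical
  have := Fintype.ofFinite C
  let f : Function.End C := fun c => ⟨t * c * t, hn _ c.2⟩
  have hf : f ^ 2 ^ 1 = 1 := by
    funext c
    refine Subtype.ext ?_
    show t * (t * c * t) * t = c
    rw [show t * (t * c * t) * t = (t * t) * c * (t * t) by group, tt, one_mul, mul_one]
  have h1 := Equiv.Perm.card_fixedPoints_modEq hf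
  have h2 : Fintype.card f.fixedPoints = Nat.card (C ⊓ centralizer {t} : Subgroup G) := by
    rw [← Nat.card_eq_fintype_card]
    refine Nat.card_congr ⟨fun c => ⟨c.1.1, c.1.2, mem_centralizer_singleton_iff.2 ?_⟩,
      fun c => ⟨⟨c.1, c.2.1⟩, Subtype.ext ?_⟩, fun _ => rfl, fun _ => rfl⟩
    · have e : t * c.1.1 * t = c.1.1 := congrArg Subtype.val c.2
      conv_lhs => rw [← e, mul_assoc, tt, mul_one]
    · show t * c.1 * t = c.1
      rw [← mem_centralizer_singleton_iff.1 c.2.2, mul_assoc, tt, mul_one]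
  rw [h2, ← Nat.card_eq_fintype_card] at h1
  rw [Nat.odd_iff, h1, ← Nat.odd_iff, ← Nat.not_even_iff_odd, even_iff_two_dvd]
  intro h3
  obtain ⟨y, hy⟩ := exists_prime_orderOf_dvd_card' 2 h3
  have h4 : y = 1 := Subtype.ext (h y.1 y.2.1 (mem_centralizer_singleton_iff.1 y.2.2) (by
    have := pow_orderOf_eq_one y
    rw [hy, sq] at this
    exact congrArg Subtype.val this))
  rw [h4, orderOf_one] at hy
  exact absurd hy (by decide)

theorem chk : z0 * z0 = 1 ∧ z0 ≠ 1 ∧ a0 * x12 * a0⁻¹ = x12⁻¹ ∧ a0 * x21 * a0⁻¹ = x21⁻¹ ∧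
    x12 ^ 3 = 1 ∧ x12 * x32 = x32 * x12 ∧
    x12 * (x12 * x23 * x12⁻¹ * x23⁻¹) = x12 * x23 * x12⁻¹ * x23⁻¹ * x12 ∧
    x23 * (x12 * x23 * x12⁻¹ * x23⁻¹) = x12 * x23 * x12⁻¹ * x23⁻¹ * x23 ∧ z0 * x12 = x12 * z0 ∧
    w0 * x12 * w0⁻¹ = x21⁻¹ ∧ w0 * x21 * w0⁻¹ = x12⁻¹ ∧
    w0 * a0 * x12 * (w0 * a0)⁻¹ = x21 ∧ w0 * a0 * x21 * (w0 * a0)⁻¹ = x12 := by
  decide +kernel

theorem odd : OddS.{u} := by
  intro G _ _ d
  obtain ⟨k1, k2, k3, k4, k5, k6, k7, k8, k9, k10, k11, k12, k13⟩ := chk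
  obtain ⟨-, -, -, -, c5, c6, -, -, c9, c10, -⟩ := chkA
  have tt := d.rl.tt
  have ti : d.t⁻¹ = d.t := inv_eq_of_mul_eq_one_right tt
  have hφ : ∀ m, d.φ m ∈ d.R := fun m => subset_closure (Or.inl ⟨m, rfl⟩)
  have hs : d.s ∈ d.R := subset_closure (Or.inr rfl)
  have hz : d.φ z0 * d.φ z0 = 1 := by rw [← map_mul, k1, map_one]
  have ts : d.t * d.s * d.t⁻¹ = d.s⁻¹ := by
    have h1 : d.s * d.t = d.t * d.φ z0 * d.s := by rw [← d.rl.st, inv_mul_cancel_right]
    have h2 : d.φ z0 * d.s = d.s⁻¹ := by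
      refine eq_inv_of_mul_eq_one_left ?_
      rw [mul_assoc, d.rl.ss, hz]
    rw [ti, mul_assoc, h1, mul_assoc d.t (d.φ z0), h2, ← mul_assoc, tt, one_mul]
  have tN : d.t ∈ normalizer (d.R : Set G) := norm_closure (by
    rintro _ (⟨m, rfl⟩ | rfl)
    · rw [d.tL, mul_inv_cancel_right]
      exact hφ m
    · rw [ts]
      exact inv_mem hs)
  have en : d.φ n23 = d.φ2 n23 := by simp only [c5, map_mul, map_inv, d.e23, d.e32]
  have ea : d.φ a0 = d.φ2 a0 := by rw [← c6, map_mul, map_mul, en]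
  have eu : uu d.φ d.s = d.φ2 x12 := by
    rw [uu, en, ← d.e23, ← c9]
    simp only [map_mul, map_inv]
  have ev : uv d.φ d.s = d.φ2 x21 := by
    rw [uv, en, ← d.e32, ← c10]
    simp only [map_mul, map_inv]
  refine ⟨odd_card tt (fun c hc => ?_) fun c hc h1 h2 => ?_, tN, norm_closure ?_, fun o ho => ?_,
    (closure_le _).2 ?_, ⟨d.Xn, d.Xs, d.Xa, d.Xc⟩, eu, ev, fun h => ?_, fun h => ?_⟩
  · refine mem_centralizer_iff.2 fun r hr => ?_
    have h1 := mem_centralizer_iff.1 hc _ ((mem_normalizer_iff.1 tN r).1 hr)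
    rw [ti] at h1
    calc r * (d.t * c * d.t) = d.t * (d.t * r * d.t * c) * d.t := by
          rw [show d.t * (d.t * r * d.t * c) * d.t = (d.t * d.t) * r * (d.t * c * d.t) by group, tt,
            one_mul]
      _ = d.t * c * d.t * r := by
          rw [h1, show d.t * (c * (d.t * r * d.t)) * d.t = d.t * c * d.t * r * (d.t * d.t) by group, tt,
            mul_one]
  · have ho : ∀ o ∈ d.O, o * o = 1 → o = 1 := fun o ho h => by
      have h3 : orderOf o ∣ 2 := orderOf_dvd_of_pow_eq_one (by rw [sq, h])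
      have h4 : orderOf o ∣ Nat.card d.O := d.O.orderOf_dvd_natCard ho
      exact orderOf_eq_one_iff.1 (Nat.eq_one_of_dvd_coprimes (Nat.coprime_two_left.2 d.cx.odd) h3 h4)
    rcases d.cx.tr c h1 (mem_centralizer_iff.2 (by
      rintro _ ⟨m, rfl⟩
      exact mem_centralizer_iff.1 hc _ (hφ m))) with h | h
    · exact ho c h h2
    · have h3 : c * d.t = 1 := ho _ h (by
        rw [mul_assoc, ← mul_assoc d.t, ← h1, mul_assoc, tt, mul_one, h2])
      obtain rfl : c = d.t := by rw [eq_inv_of_mul_eq_one_left h3, ti]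
      have h4 := d.rl.st
      rw [mem_centralizer_iff.1 hc _ hs, mul_inv_cancel_right, left_eq_mul] at h4
      exact absurd (d.inj (h4.trans (map_one _).symm)) k2
  · rintro _ (⟨m, rfl⟩ | rfl)
    · rcases d.gam.act with h | h
      · rw [h, one_mul, inv_one, mul_one]
        exact hφ m
      · rw [h]
        exact hφ _
    · rw [d.gs, mul_inv_cancel_right]
      exact hs
  · rw [centralizer_closure]
    refine mem_centralizer_iff.2 ?_
    rintro _ (⟨m, rfl⟩ | rfl)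
    · exact mem_centralizer_iff.1 (d.cx.OC ho) _ ⟨m, rfl⟩
    · exact (d.cO o ho _).symm
  · rintro _ (⟨m, rfl⟩ | rfl)
    · exact d.LX m
    · exact d.X2 _
  · have g1 : d.φ w0 * d.φ2 x12 * (d.φ w0)⁻¹ = (d.φ2 x12)⁻¹ := by rw [d.n12, h, k3, map_inv]
    have g2 : d.φ w0 * d.φ2 x21 * (d.φ w0)⁻¹ = (d.φ2 x21)⁻¹ := by rw [d.n21, h, k4, map_inv]
    have av : d.φ a0 * d.φ2 x12 * (d.φ a0)⁻¹ = (d.φ2 x12)⁻¹ := by
      rw [ea, ← map_inv, ← map_mul, ← map_mul, k3, map_inv]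
    rw [Good2, eu, ev]
    refine ⟨⟨g1, g2⟩, tt, d.tL, by rw [← map_pow, k5, map_one], ?_, ?_, ?_, ?_, av, ?_, g1⟩
    · have h1 := d.ta x12
      rw [← av]
      calc d.t * d.φ2 x12 * d.t = d.t * (d.φ2 x12 * (d.t * d.φ a0)) * (d.φ a0)⁻¹ := by group
        _ = _ := by
          rw [← h1, show d.t * (d.t * d.φ a0 * d.φ2 x12) = (d.t * d.t) * d.φ a0 * d.φ2 x12 by group,
            tt, one_mul]
    · rw [← d.e32, ← map_mul, k6, map_mul]
    · simpa only [map_mul, map_inv, d.e23] using congrArg d.φ2 k7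
    · simpa only [map_mul, map_inv, d.e23] using congrArg d.φ2 k8
    · rw [← d.ez, ← map_mul, k9, map_mul]
  · rw [Bad2, eu, ev, d.n12, d.n21]
    rcases d.ha2 with h1 | h1 | h1 | h1
    · left
      simp only [h1, one_mul, inv_one, mul_one, and_self]
    · exact absurd h1 h
    · right; right
      rw [h1, k12, k13]
      exact ⟨rfl, rfl⟩
    · right; left
      rw [h1, k10, k11, map_inv, map_inv]
      exact ⟨rfl, rfl⟩

end Cfsg.Agent.H65.G40Odd
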