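import Cfsg.Agent.H76.K0Defs

set_option autoImplicit false

namespace Cfsg.Agent.H65.K0Ar

open Cfsg Cfsg.Agent.H76.K0

theorem fin_step (p b c b2 c2 s t : ℤ) (hp5 : 5 ≤ p) (hp : p = 5 ∨ p = 7 ∨ p = 11 ∨ p = 13 ∨ 17 ≤ p)
    (hb : b ≠ 0) (hc : c ≠ 0) (h1 : b ^ 2 + c ^ 2 = p - 1) (h2 : b2 ^ 2 + c2 ^ 2 = 2 * p - 4)
    (hs : b2 = 2 * b + p * s) (ht : c2 = 2 * c + p * t) : False := by
  have hb1 : 1 ≤ b ^ 2 := by have := sq_pos_of_ne_zero hb; omega
  have hc1 : 1 ≤ c ^ 2 := by have := sq_pos_of_ne_zero hc; omega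
  have key : ∀ x y z w : ℤ, 17 ≤ p → x ^ 2 ≤ p - 2 → y = 2 * x + p * w → y ^ 2 + z ^ 2 = 2 * p - 4 →
      w = 0 := by
    intro x y z w h17 hx hy hz
    have hx1 : 4 * x < p := by nlinarith
    have hx2 : -p < 4 * x := by nlinarith
    by_contra hw
    rcases lt_or_gt_of_ne hw with hw | hw
    · have : p * w ≤ -p := by nlinarith
      have h3 : 2 * y < -p := by omega
      nlinarith [sq_nonneg z]
    · have : p ≤ p * w := by nlinarith
      have h3 : p < 2 * y := by omega
      nlinarith [sq_nonneg z]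
  have bd : ∀ x : ℤ, x ^ 2 ≤ 22 → -4 ≤ x ∧ x ≤ 4 := fun x hx => ⟨by nlinarith, by nlinarith⟩
  rcases hp with rfl | rfl | rfl | rfl | h17
  · obtain ⟨_, _⟩ := bd b (by omega)
    obtain ⟨_, _⟩ := bd c (by omega)
    interval_cases b <;> interval_cases c <;> omega
  · obtain ⟨_, _⟩ := bd b (by omega)
    obtain ⟨_, _⟩ := bd c (by omega)
    interval_cases b <;> interval_cases c <;> omega
  · obtain ⟨_, _⟩ := bd b (by omega)
    obtain ⟨_, _⟩ := bd c (by omega)
    obtain ⟨_, _⟩ := bd b2 (by nlinarith [sq_nonneg c2])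
    obtain ⟨_, _⟩ := bd c2 (by nlinarith [sq_nonneg b2])
    have e1 : b2 = 3 ∨ b2 = -3 := by
      clear hs ht
      interval_cases b2 <;> interval_cases c2 <;> omega
    have e2 : c2 = 3 ∨ c2 = -3 := by
      clear hs ht
      interval_cases b2 <;> interval_cases c2 <;> omega
    clear h2
    interval_cases b <;> interval_cases c <;> omega
  · obtain ⟨_, _⟩ := bd b (by omega)
    obtain ⟨_, _⟩ := bd c (by omega)
    interval_cases b <;> interval_cases c <;> omega
  · have hs0 := key b b2 c2 s h17 (by omega) hs h2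
    have ht0 := key c c2 b2 t h17 (by omega) ht (by omega)
    subst hs0 ht0
    subst hs ht
    nlinarith

theorem ar : ArStmt := by
  intro p hp hp2 d e hd he H
  haveI : Fact p.Prime := ⟨hp⟩
  by_contra hp3
  have hp5 : 5 ≤ p := by
    have := hp.two_le
    by_contra h
    have : p = 4 := by omega
    subst this
    exact absurd hp (by norm_num)
  let v : ZMod p → ℤ := fun x => x.valMinAbs
  let g : ZMod p → ℤ := fun x => (x.val : ℤ) * (p - x.val)
  have hv : ∀ x : ZMod p, ((v x : ℤ) : ZMod p) = x := fun x => ZMod.coe_valMinAbs x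
  have hg : ∀ (x : ZMod p) (a : ℤ), (a : ZMod p) = x → |a| ≤ p → g x = |a| * (p - |a|) := by
    intro x a ha hle
    have h0 : (p : ℤ) ∣ a - x.val := by
      rw [← ZMod.intCast_zmod_eq_zero_iff_dvd]; push_cast; rw [ha]; simp
    obtain ⟨k, hk⟩ := h0
    have hx : (x.val : ℤ) < p := by exact_mod_cast ZMod.val_lt x
    have hx0 : (0 : ℤ) ≤ x.val := by positivity
    have hpp : (0 : ℤ) < p := by omega
    obtain ⟨l1, l2⟩ := abs_le.1 hle
    have k1 : k ≤ 1 := by nlinarith
    have k2 : -2 < k := by nlinarith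
    change (x.val : ℤ) * (p - x.val) = _
    interval_cases k
    · rw [abs_of_nonpos (by omega)]; have : a = x.val - p := by omega
      rw [this]; ring
    · rw [abs_of_nonneg (by omega)]; have : a = x.val := by omega
      rw [this]
    · rw [abs_of_nonneg (by omega)]
      have h1 : a = p := by omega
      have h2 : (x.val : ℤ) = 0 := by omega
      rw [h1, h2]; ring
  have hab : ∀ x : ZMod p, 2 * |v x| ≤ p := by
    intro x
    have := ZMod.natAbs_valMinAbs_le x
    have h2 : |v x| = (x.valMinAbs.natAbs : ℤ) := (Int.natCast_natAbs _).symm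
    omega
  have perm : ∀ (c : ZMod p), c ≠ 0 → ∀ f : ZMod p → ℤ, ∑ x, f (x * c) = ∑ x, f x := fun c hc f =>
    Equiv.sum_comp (Equiv.mulRight₀ c hc) f
  have h2ne : (2 : ZMod p) ≠ 0 := by
    intro h
    have : ((2 : ℕ) : ZMod p) = 0 := by exact_mod_cast h
    rw [ZMod.natCast_eq_zero_iff] at this
    have := Nat.le_of_dvd two_pos this
    omega
  have hdne : (d : ZMod p) ≠ 0 := fun h => hd ((ZMod.intCast_zmod_eq_zero_iff_dvd d p).1 h)
  have hene : (e : ZMod p) ≠ 0 := fun h => he ((ZMod.intCast_zmod_eq_zero_iff_dvd e p).1 h)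
  have pt : ∀ x : ZMod p, 2 * g x - g (x * 2) = 2 * v x ^ 2 := by
    intro x
    have a0 := abs_nonneg (v x)
    have a1 := hab x
    rw [hg x (v x) (hv x) (by omega), hg (x * 2) (v x * 2) (by push_cast; rw [hv x])
      (by rw [abs_mul, abs_two]; omega), abs_mul, abs_two, ← sq_abs (v x)]
    ring
  have hsum : ∑ x, g x = 2 * ∑ x, v x ^ 2 := by
    have h1 := Finset.sum_congr (s₁ := Finset.univ) rfl (fun x _ => pt x)
    rw [Finset.sum_sub_distrib, ← Finset.mul_sum, ← Finset.mul_sum, perm 2 h2ne g] at h1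
    omega
  have hle : ∀ x : ZMod p, 0 ≤ v (x * d) ^ 2 + v (x * e) ^ 2 - g x := by
    intro x
    have := H x.val (v (x * d)) (v (x * e))
      (by rw [← ZMod.intCast_zmod_eq_zero_iff_dvd]; push_cast; rw [hv]; simp)
      (by rw [← ZMod.intCast_zmod_eq_zero_iff_dvd]; push_cast; rw [hv]; simp)
    change 0 ≤ _ - (x.val : ℤ) * (p - x.val)
    nlinarith
  have hz : ∑ x, (v (x * d) ^ 2 + v (x * e) ^ 2 - g x) = 0 := by
    rw [Finset.sum_sub_distrib, Finset.sum_add_distrib, perm d hdne (fun x => v x ^ 2),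
      perm e hene (fun x => v x ^ 2), hsum]
    ring
  have heq := (Finset.sum_eq_zero_iff_of_nonneg (fun x _ => hle x)).1 hz
  have e1 := heq 1 (Finset.mem_univ _)
  have e2 := heq 2 (Finset.mem_univ _)
  rw [hg 1 1 (by simp) (by rw [abs_one]; omega), one_mul, one_mul, abs_one] at e1
  rw [hg 2 2 (by simp) (by rw [abs_two]; omega), abs_two] at e2
  have dv : ∀ y : ZMod p, ∃ s : ℤ, v (2 * y) = 2 * v y + p * s := by
    intro y
    have : (p : ℤ) ∣ v (2 * y) - 2 * v y := by
      rw [← ZMod.intCast_zmod_eq_zero_iff_dvd]; push_cast; rw [hv, hv]; simp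
    obtain ⟨s, hs⟩ := this
    exact ⟨s, by omega⟩
  obtain ⟨s, hs⟩ := dv d
  obtain ⟨t, ht⟩ := dv e
  have vne : ∀ y : ZMod p, y ≠ 0 → v y ≠ 0 := fun y hy h => hy (by rw [← hv y, h]; simp)
  refine fin_step p (v d) (v e) (v (2 * d)) (v (2 * e)) s t (by omega) ?_ (vne _ hdne) (vne _ hene)
    (by omega) (by omega) hs ht
  by_cases h17 : 17 ≤ p
  · omega
  · have : p = 5 ∨ p = 7 ∨ p = 11 ∨ p = 13 := by
      push Not at h17
      interval_cases p <;> first | omega | exact absurd hp (by norm_num)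
    omega

end Cfsg.Agent.H65.K0Ar
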