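import Cfsg.Agent.H44.K5Defs

set_option autoImplicit false

namespace Cfsg.Agent.H65.K5Herm

open Cfsg Cfsg.Agent.H44.K5 Matrix

theorem quad {n : ℕ} (A U : Matrix (Fin n) (Fin n) ℤ) (x : Fin n → ℤ) :
    x ⬝ᵥ (Uᵀ * A * U) *ᵥ x = (U *ᵥ x) ⬝ᵥ A *ᵥ (U *ᵥ x) := by
  rw [← mulVec_mulVec, ← mulVec_mulVec, dotProduct_mulVec, vecMul_transpose]

theorem diag {n : ℕ} (A U : Matrix (Fin n) (Fin n) ℤ) (j : Fin n) :
    (Uᵀ * A * U) j j = (fun i => U i j) ⬝ᵥ A *ᵥ (fun i => U i j) := by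
  rw [Matrix.mul_assoc]
  simp [Matrix.mul_apply, dotProduct, mulVec]

def S {n : ℕ} (B : Matrix (Fin (n + 1)) (Fin (n + 1)) ℤ) : Matrix (Fin n) (Fin n) ℤ :=
  Matrix.of fun i j => B 0 0 * B i.succ j.succ - B 0 i.succ * B 0 j.succ

theorem ident {n : ℕ} (B : Matrix (Fin (n + 1)) (Fin (n + 1)) ℤ) (hB : ∀ i j, B i j = B j i) (k : ℤ)
    (y : Fin n → ℤ) : B 0 0 * ((Fin.cons k y : Fin (n + 1) → ℤ) ⬝ᵥ B *ᵥ (Fin.cons k y)) =
      (k * B 0 0 + ∑ i, B 0 i.succ * y i) ^ 2 + y ⬝ᵥ S B *ᵥ y := by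
  have h1 : y ⬝ᵥ S B *ᵥ y = B 0 0 * (∑ i, y i * ∑ j, B i.succ j.succ * y j) -
      (∑ i, B 0 i.succ * y i) ^ 2 := by
    rw [sq, Finset.sum_mul_sum]
    simp only [dotProduct, mulVec, S, Matrix.of_apply, Finset.mul_sum, ← Finset.sum_sub_distrib]
    exact Finset.sum_congr rfl fun i _ => Finset.sum_congr rfl fun j _ => by ring
  have h2 : ∑ i, y i * (B i.succ 0 * k + ∑ j, B i.succ j.succ * y j) =
      k * (∑ i, B 0 i.succ * y i) + ∑ i, y i * ∑ j, B i.succ j.succ * y j := by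
    rw [Finset.mul_sum, ← Finset.sum_add_distrib]
    exact Finset.sum_congr rfl fun i _ => by rw [hB i.succ 0]; ring
  rw [h1]
  simp only [dotProduct, mulVec, Fin.sum_univ_succ, Fin.cons_zero, Fin.cons_succ]
  rw [h2]; ring

def blk {n : ℕ} (r : Fin n → ℤ) (V : Matrix (Fin n) (Fin n) ℤ) : Matrix (Fin (n + 1)) (Fin (n + 1)) ℤ :=
  Matrix.of (Fin.cons (Fin.cons 1 r) (fun i => Fin.cons 0 (V i)))

theorem det_blk {n : ℕ} (r : Fin n → ℤ) (V : Matrix (Fin n) (Fin n) ℤ) : (blk r V).det = V.det := by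
  rw [det_succ_column_zero, Fin.sum_univ_succ]
  have : (blk r V).submatrix (Fin.succAbove 0) Fin.succ = V := by
    ext i j; simp [blk]
  rw [this]
  simp [blk]

theorem detS {n : ℕ} (B : Matrix (Fin (n + 1)) (Fin (n + 1)) ℤ) (hB : ∀ i j, B i j = B j i) :
    B.det * B 0 0 ^ n = B 0 0 * (S B).det := by
  have h := det_mul B (blk (fun j => -B 0 j.succ) (diagonal fun _ => B 0 0))
  rw [det_blk, det_diagonal, Finset.prod_const, Finset.card_univ, Fintype.card_fin] at h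
  rw [← h, det_succ_row_zero, Fin.sum_univ_succ]
  have e1 : (B * blk (fun j => -B 0 j.succ) (diagonal fun _ => B 0 0)).submatrix Fin.succ
      (Fin.succAbove 0) = S B := by
    ext i j
    simp [blk, S, Matrix.mul_apply, Fin.sum_univ_succ, diagonal_apply, hB i.succ 0]
    ring
  have e2 : ∀ j : Fin n, (B * blk (fun j => -B 0 j.succ) (diagonal fun _ => B 0 0)) 0 j.succ = 0 := by
    intro j
    simp [blk, Matrix.mul_apply, Fin.sum_univ_succ, diagonal_apply]
    ring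
  have e3 : (B * blk (fun j => -B 0 j.succ) (diagonal fun _ => B 0 0)) 0 0 = B 0 0 := by
    simp [blk, Matrix.mul_apply, Fin.sum_univ_succ]
  rw [e1, e3]
  simp [e2]

theorem herm : HermStmt := by
  intro n
  induction n with
  | zero =>
    intro A _ _
    exact ⟨1, by simp, by simp [det_fin_one]⟩
  | succ n ih =>
    intro A hA hpos
    classical
    have pos : ∀ U : Matrix (Fin (n + 2)) (Fin (n + 2)) ℤ, IsUnit U.det → ∀ x, x ≠ 0 →
        0 < x ⬝ᵥ (Uᵀ * A * U) *ᵥ x := by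
      intro U hU x hx
      rw [quad]
      exact hpos _ fun h => hx (Matrix.eq_zero_of_mulVec_eq_zero hU.ne_zero h)
    have pos0 : ∀ U : Matrix (Fin (n + 2)) (Fin (n + 2)) ℤ, IsUnit U.det → 0 < (Uᵀ * A * U) 0 0 := by
      intro U hU
      have := pos U hU (Pi.single 0 1) (by simp)
      simpa using this
    have ex : ∃ m : ℕ, ∃ U : Matrix (Fin (n + 2)) (Fin (n + 2)) ℤ, IsUnit U.det ∧
        ((Uᵀ * A * U) 0 0).toNat = m := ⟨_, 1, by simp, rfl⟩
    obtain ⟨U, hU, hm⟩ := Nat.find_spec ex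
    refine ⟨U, hU, ?_⟩
    have mn : ∀ W : Matrix (Fin (n + 2)) (Fin (n + 2)) ℤ, IsUnit W.det →
        (Uᵀ * A * U) 0 0 ≤ (Wᵀ * (Uᵀ * A * U) * W) 0 0 := by
      intro W hW
      have hu : IsUnit (U * W).det := by rw [det_mul]; exact hU.mul hW
      have h1 := Nat.find_min' ex ⟨U * W, hu, rfl⟩
      have h2 := pos0 _ hu
      have h3 := pos0 _ hU
      have e : (U * W)ᵀ * A * (U * W) = Wᵀ * (Uᵀ * A * U) * W := by
        simp only [transpose_mul, Matrix.mul_assoc]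
      rw [e] at h1 h2
      omega
    have hdet : (Uᵀ * A * U).det = A.det := by
      rw [det_mul, det_mul, det_transpose]
      rcases Int.isUnit_iff.1 hU with h | h <;> rw [h] <;> ring
    have hs : ∀ i j, (Uᵀ * A * U) i j = (Uᵀ * A * U) j i := by
      intro i j
      have : (Uᵀ * A * U)ᵀ = Uᵀ * A * U := by
        simp only [transpose_mul, transpose_transpose, hA, Matrix.mul_assoc]
      exact (congrFun (congrFun this j) i)
    have ha := pos0 U hU
    have hp := pos U hU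
    generalize Uᵀ * A * U = B at *
    obtain ⟨V, hV, hle⟩ := ih (S B) (by
      ext i j; simp only [S, transpose_apply, Matrix.of_apply]; rw [hs j.succ i.succ]; ring) (by
      intro y hy
      have h1 := ident B hs (-(∑ i, B 0 i.succ * y i)) (B 0 0 • y)
      have h2 := hp (Fin.cons (-(∑ i, B 0 i.succ * y i)) (B 0 0 • y)) (by
        intro h
        apply hy
        ext i
        have := congrFun h i.succ
        simpa [ha.ne'] using this)
      have h3 : ∑ i, B 0 i.succ * (B 0 0 • y) i = (∑ i, B 0 i.succ * y i) * B 0 0 := by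
        rw [Finset.sum_mul]
        exact Finset.sum_congr rfl fun i _ => by simp only [Pi.smul_apply, smul_eq_mul]; ring
      rw [h3, mulVec_smul, dotProduct_smul, smul_dotProduct, smul_eq_mul, smul_eq_mul] at h1
      have h4 := mul_pos ha h2
      rw [h1] at h4
      by_contra hn
      have := mul_nonneg ha.le (mul_nonneg ha.le (neg_nonneg.2 (not_lt.1 hn)))
      nlinarith)
    set β := ∑ i, B 0 i.succ * V i 0 with hβ
    obtain ⟨k, hk1, hk2⟩ : ∃ k : ℤ, -B 0 0 ≤ 2 * (k * B 0 0 + β) ∧ 2 * (k * B 0 0 + β) ≤ B 0 0 := by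
      have a1 := Int.mul_ediv_add_emod (2 * β + B 0 0) (2 * B 0 0)
      have a2 := Int.emod_nonneg (2 * β + B 0 0) (show 2 * B 0 0 ≠ 0 by omega)
      have a3 := Int.emod_lt_of_pos (2 * β + B 0 0) (show 0 < 2 * B 0 0 by omega)
      exact ⟨-((2 * β + B 0 0) / (2 * B 0 0)), by linarith, by linarith⟩
    have hW : IsUnit ((blk (fun _ => k) V).submatrix id (Equiv.swap 0 (Fin.succ 0))).det := by
      rw [det_permute', det_blk]
      exact (Units.isUnit _).mul hV
    have h1 := mn _ hW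
    rw [diag] at h1
    have e : (fun i => ((blk (fun _ => k) V).submatrix id (Equiv.swap 0 (Fin.succ 0))) i 0) =
        Fin.cons k (fun i => V i 0) := by
      ext i
      rw [submatrix_apply, Equiv.swap_apply_left]
      refine Fin.cases ?_ (fun i => ?_) i
      · rfl
      · rfl
    rw [e] at h1
    have h2 := ident B hs k (fun i => V i 0)
    rw [← diag, ← hβ] at h2
    have h3 : 3 * B 0 0 ^ 2 ≤ 4 * (Vᵀ * S B * V) 0 0 := by
      nlinarith [mul_le_mul_of_nonneg_left h1 ha.le, mul_nonneg (sub_nonneg.2 hk1) (sub_nonneg.2 hk2)]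
    have h4 := pow_le_pow_left₀ (by positivity) h3 (n + 1)
    have h5 := detS B hs
    have hm' : (n + 1) * (n + 1 + 1) / 2 = n * (n + 1) / 2 + (n + 1) := by
      rw [show (n + 1) * (n + 1 + 1) = n * (n + 1) + 2 * (n + 1) by ring, Nat.add_mul_div_left _ _ two_pos]
    rw [hm', ← hdet]
    generalize n * (n + 1) / 2 = m at *
    refine le_of_mul_le_mul_left ?_ (pow_pos ha (n + 1))
    calc B 0 0 ^ (n + 1) * (B 0 0 ^ (n + 1 + 1) * 3 ^ (m + (n + 1)))
        = B 0 0 * ((3 * B 0 0 ^ 2) ^ (n + 1) * 3 ^ m) := by ring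
      _ ≤ B 0 0 * ((4 * (Vᵀ * S B * V) 0 0) ^ (n + 1) * 3 ^ m) :=
        mul_le_mul_of_nonneg_left (mul_le_mul_of_nonneg_right h4 (by positivity)) ha.le
      _ = B 0 0 * 4 ^ (n + 1) * ((Vᵀ * S B * V) 0 0 ^ (n + 1) * 3 ^ m) := by ring
      _ ≤ B 0 0 * 4 ^ (n + 1) * (4 ^ m * (S B).det) :=
        mul_le_mul_of_nonneg_left hle (by positivity)
      _ = 4 ^ (n + 1) * 4 ^ m * (B 0 0 * (S B).det) := by ring
      _ = _ := by rw [← h5]; ring

end Cfsg.Agent.H65.K5Herm
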