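import Cfsg.Agent.H40.L3K1

/-! Project L33: the geometry of a pair of conjugates of `F` in case I. -/

set_option autoImplicit false
set_option maxHeartbeats 400000
set_option linter.unusedSectionVars false

namespace Cfsg.Agent.H65.L3PG

open Subgroup Cfsg.Agent.H83 Cfsg.Agent.H40.L3

/-- the five singular points -/
def p : Fin 5 → N
  | 0 => .T
  | 1 => .T * .B
  | 2 => .B * .W
  | 3 => .B * .Q
  | 4 => .B * .W * .Q

/-- equality modulo `z` -/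
abbrev Ez (n m : N) : Prop := n = m ∨ n = m * .Z

theorem p_mem : ∀ i, p i ∈ N.sF := by decide +kernel
theorem p_cov : ∀ n : N, n ∈ N.sF → n * n = 1 → n ≠ 1 → n ≠ .Z → ∃ j, Ez n (p j) := by
  decide +kernel
theorem p_sq : ∀ i, p i * p i = 1 ∧ p i ≠ 1 ∧ p i ≠ .Z := by decide +kernel
theorem p_inj : ∀ i j, Ez (p i) (p j) → i = j := by decide +kernel
theorem p_pair : ∀ i j i' j', Ez (p i' * p j') (p i * p j) →
    j = i ∨ (i' = i ∧ j' = j) ∨ (i' = j ∧ j' = i) := by decide +kernel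
theorem p_four : ∀ a b c d : Fin 5, a ≠ 0 → b ≠ 0 → c ≠ 0 → d ≠ 0 → a ≠ b → a ≠ c → a ≠ d → b ≠ c →
    b ≠ d → c ≠ d → Ez .T (p a * p b * (p c * p d)) := by decide +kernel

/-- the maps of five points with square one -/
def iv (k : Fin 26) (i : Fin 5) : Fin 5 :=
  ⟨(([[0,1,2,3,4],[1,0,2,3,4],[2,1,0,3,4],[3,1,2,0,4],[4,1,2,3,0],[0,2,1,3,4],[0,3,2,1,4],
    [0,4,2,3,1],[0,1,3,2,4],[0,1,4,3,2],[0,1,2,4,3],[1,0,3,2,4],[1,0,4,3,2],[1,0,2,4,3],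
    [2,3,0,1,4],[2,4,0,3,1],[2,1,0,4,3],[3,2,1,0,4],[3,4,2,0,1],[3,1,4,0,2],[4,2,1,3,0],
    [4,3,2,1,0],[4,1,3,2,0],[0,2,1,4,3],[0,3,4,1,2],[0,4,3,2,1]].getD k.1 []).getD i.1 0) % 5,
    Nat.mod_lt _ (by decide)⟩

/-- a map given by its values -/
def vec (a b c d e : Fin 5) : Fin 5 → Fin 5
  | 0 => a
  | 1 => b
  | 2 => c
  | 3 => d
  | 4 => e

set_option synthInstance.maxSize 1000 in
theorem iv_aux : ∀ a b c d e : Fin 5, (∀ i, vec a b c d e (vec a b c d e i) = i) →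
    ∃ k, iv k 0 = a ∧ iv k 1 = b ∧ iv k 2 = c ∧ iv k 3 = d ∧ iv k 4 = e := by decide +kernel

theorem exists_iv {σ : Fin 5 → Fin 5} (h : ∀ i, σ (σ i) = i) : ∃ k, σ = iv k := by
  have e : σ = vec (σ 0) (σ 1) (σ 2) (σ 3) (σ 4) := by funext i; fin_cases i <;> rfl
  obtain ⟨k, h0, h1, h2, h3, h4⟩ := iv_aux (σ 0) (σ 1) (σ 2) (σ 3) (σ 4) (by rw [← e]; exact h)
  exact ⟨k, by funext i; fin_cases i <;> simp [h0, h1, h2, h3, h4]⟩

/-- `τ` fixes the vectors moved by `σ` -/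
def R (σ τ : Fin 5 → Fin 5) : Prop :=
  ∀ i, σ i = i ∨ (τ i = i ∧ τ (σ i) = σ i) ∨ (τ i = σ i ∧ τ (σ i) = i)

instance (σ τ : Fin 5 → Fin 5) : Decidable (R σ τ) := by unfold R; infer_instance

/-- the moved vectors do not add up to the first point -/
def N0 (σ τ : Fin 5 → Fin 5) : Prop :=
  ∀ i j, ¬ (i ≠ 0 ∧ σ i ≠ 0 ∧ j ≠ 0 ∧ τ j ≠ 0 ∧ i ≠ σ i ∧ i ≠ j ∧ i ≠ τ j ∧ σ i ≠ j ∧
    σ i ≠ τ j ∧ j ≠ τ j)

instance (σ τ : Fin 5 → Fin 5) : Decidable (N0 σ τ) := by unfold N0; infer_instance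

/-- conjugation by the last transposition -/
abbrev sc (σ : Fin 5 → Fin 5) (i : Fin 5) : Fin 5 := iv 10 (σ (iv 10 i))

/-- the second transposition -/
def tk (k : Bool) : Fin 26 := bif k then 2 else 1

theorem caseA : ∀ k, k ≠ 0 → (∀ i, sc (iv k) i = iv k i) →
    k = 1 ∨ k = 2 ∨ k = 5 ∨ k = 10 ∨ k = 13 ∨ k = 16 ∨ k = 23 := by decide +kernel

set_option synthInstance.maxSize 1000 in
theorem caseB : ∀ k l, k ≠ 0 → l ≠ 0 → k ≠ l → R (iv k) (iv l) → R (iv l) (iv k) →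
    R (iv k) (sc (iv k)) → R (iv l) (sc (iv k)) → R (iv k) (sc (iv l)) → R (iv l) (sc (iv l)) →
    N0 (iv k) (iv k) → N0 (iv k) (iv l) → N0 (iv l) (iv l) → ∃ b : Bool,
    (k = 10 ∨ l = 10 ∨ ∀ i, iv k (iv l i) = iv 10 i) ∧
    (k = tk b ∨ l = tk b ∨ ∀ i, iv k (iv l i) = iv (tk b) i) := by decide +kernel

theorem caseC : ∀ (b : Bool) k, R (iv 10) (iv k) → R (iv (tk b)) (iv k) →
    k = 0 ∨ k = 10 ∨ k = tk b ∨ ∀ i, iv k i = iv 10 (iv (tk b) i) := by decide +kernel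

theorem iv_inj : ∀ k l, (∀ i, iv k i = iv l i) → k = l := by decide +kernel

theorem card_le (E : Subgroup N) (P : N → Bool) (h : ∀ m ∈ E, P m = true) :
    Nat.card E ≤ cntN (fun k => P (N.of k)) 64 := by
  rw [← N.card_pred]
  exact Nat.card_le_card_of_injective (fun m => ⟨m.1, h _ m.2⟩) fun a b e =>
    Subtype.ext (congrArg (fun x : {m // P m = true} => x.1) e)

theorem mem_of_card (E : Subgroup N) (P : N → Bool) (h : ∀ m ∈ E, P m = true)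
    (hc : cntN (fun k => P (N.of k)) 64 ≤ Nat.card E) {m : N} (hm : P m = true) : m ∈ E := by
  rw [← N.card_pred] at hc
  have := Set.eq_of_subset_of_ncard_le (s := (E : Set N)) (t := {m | P m = true}) h hc
  exact (Set.ext_iff.1 this m).2 hm

/-- the action on `F / ⟨z⟩` given by a map of the five points -/
def ph (σ : Fin 5 → Fin 5) (m : N) : N :=
  bp (p (σ 0)) m.t * bp (p (σ 0) * p (σ 1)) m.b * bp (p (σ 0) * p (σ 1) * p (σ 2)) m.w *
    bp (p (σ 0) * p (σ 1) * p (σ 3)) m.q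

/-- the elements of `F` fixed modulo `z` -/
def fx (k : Fin 26) (m : N) : Bool := !m.c && decide (Ez (ph (iv k) m) m)

/-- an element fixing the second centre and moving `w` -/
def gq (b : Bool) : N := bif b then .T * .Q else .Q

theorem zc : ∀ m : N, m * .Z = .Z * m := by decide +kernel
theorem mzz : ∀ m : N, m * .Z * .Z = m := by decide +kernel
theorem ph_id : ∀ m : N, m ∈ N.sF → Ez m (ph (iv 0) m) ∧ Ez (ph (iv 0) m) m := by decide +kernel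
theorem iv_zero : ∀ i, iv 0 i = i := by decide +kernel
theorem sF_sq : ∀ m : N, m ∈ N.sF → m * m = 1 ∨ m * m = .Z := by decide +kernel
theorem sF_cj : ∀ m : N, m ∈ N.sF → ∀ n : N, n ∈ N.sF → Ez (n * m * n⁻¹) m := by decide +kernel
theorem c_act : ∀ (b : Bool) i, Ez (.A b * p i * (N.A b)⁻¹) (p (iv 10 i)) := by decide +kernel
theorem fx_small : cntN (fun k => fx 13 (N.of k)) 64 = 8 ∧ cntN (fun k => fx 16 (N.of k)) 64 = 8 ∧
    cntN (fun k => fx 23 (N.of k)) 64 = 8 := by decide +kernel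
theorem fx_big : cntN (fun k => fx 1 (N.of k)) 64 = 16 ∧ cntN (fun k => fx 2 (N.of k)) 64 = 16 ∧
    cntN (fun k => fx 5 (N.of k)) 64 = 16 ∧ cntN (fun k => fx 10 (N.of k)) 64 = 16 := by
  decide +kernel
theorem fx_one : ∀ m : N, m ∈ N.sF → (fx 1 m = true ↔ m * .B = .B * m) := by decide +kernel
theorem tv_tk : ∀ (b : Bool) (m : N), m ∈ N.sF → Ez (N.tv (.Ep b) m) (ph (iv (tk b)) m) := by
  decide +kernel
theorem sE_of : ∀ (b : Bool) (m : N), fx 10 m = true → fx (tk b) m = true → m ∈ N.sE b := by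
  decide +kernel
theorem sE_dec : ∀ (b : Bool) (m : N), m ∈ N.sE b → ∃ i j l : Bool,
    m = bp .W i * bp (.Ep b) j * bp .Z l := by decide +kernel
theorem a_of : ∀ (b : Bool) (u : N), u ∈ N.sF → (u * .C * (u * .C) = 1 ∨ u * .C * (u * .C) = .Z) →
    u * .C * .Ep b = .Ep b * (u * .C) → u * .C * (N.A b)⁻¹ ∈ N.sE b := by decide +kernel
theorem card_sF : Nat.card N.sF = 32 := by rw [N.card_sub]; decide +kernel

section Gen

variable {G : Type*} [Group G]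

theorem fix_comm {f f' g z : G} (hf : f * z = z * f) (hg : g * z = z * g)
    (h1 : f' * f * f'⁻¹ = f ∨ f' * f * f'⁻¹ = f * z)
    (h2 : f' * g * f'⁻¹ = g ∨ f' * g * f'⁻¹ = g * z) :
    f' * (g⁻¹ * (f * g * f⁻¹)) * f'⁻¹ = g⁻¹ * (f * g * f⁻¹) := by
  have e : f' * (g⁻¹ * (f * g * f⁻¹)) * f'⁻¹ =
      (f' * g * f'⁻¹)⁻¹ * (f' * f * f'⁻¹ * (f' * g * f'⁻¹) * (f' * f * f'⁻¹)⁻¹) := by group
  have a : ∀ y, y * z = z * y → f * z * y * (f * z)⁻¹ = f * y * f⁻¹ := fun y hy => by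
    rw [mul_assoc f, ← hy]; group
  have b : (g * z)⁻¹ * (f * (g * z) * f⁻¹) = g⁻¹ * (f * g * f⁻¹) := by
    have c : Commute z (g⁻¹ * (f * g)) :=
      (Commute.inv_right hg.symm).mul_right (Commute.mul_right hf.symm hg.symm)
    have d : Commute z f⁻¹ := Commute.inv_right hf.symm
    calc _ = z⁻¹ * (g⁻¹ * (f * g) * z) * f⁻¹ := by group
      _ = _ := by rw [← c.eq]; group
  rw [e]
  rcases h1 with h1 | h1 <;> rcases h2 with h2 | h2 <;> rw [h1, h2]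
  · exact b
  · rw [a g hg]
  · rw [a (g * z) (by rw [mul_assoc, ← mul_assoc z, ← hg, mul_assoc]), b]

theorem inv_comm {f g : G} (h : f * f * g = g * (f * f)) :
    f * (g⁻¹ * (f * g * f⁻¹)) * f⁻¹ = (g⁻¹ * (f * g * f⁻¹))⁻¹ := by
  calc _ = f * g⁻¹ * f⁻¹ * (f * f * g) * (f * f)⁻¹ := by group
    _ = _ := by rw [h]; group

variable {ι : N →* G} {x y g : G} {m n : N}

theorem zg (m : N) : ι m * ι .Z = ι .Z * ι m := by rw [← map_mul, zc, map_mul]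

theorem ez_iff' : ez1 ι x m ↔ x = ι m ∨ x = ι m * ι .Z := by rw [ez1, map_mul]

theorem ez_congr (h : ez1 ι x m) (e : Ez n m) : ez1 ι x n := by
  rcases e with rfl | rfl
  · exact h
  · rcases h with h | h
    · exact Or.inr (by rw [mzz, h])
    · exact Or.inl h

theorem ez_mul (h : ez1 ι x m) (k : ez1 ι y n) : ez1 ι (x * y) (m * n) := by
  have e : ∀ u v : N, u * .Z * v = u * v * .Z := fun u v => by rw [mul_assoc, ← zc, mul_assoc]
  rcases h with rfl | rfl <;> rcases k with rfl | rfl <;> rw [← map_mul]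
  · exact Or.inl rfl
  · exact Or.inr (by rw [mul_assoc])
  · exact Or.inr (by rw [e])
  · exact Or.inl (by rw [e, ← mul_assoc, mzz])

theorem ez_cmul {m' n' : N} (h : ez1 ι (g * ι m * g⁻¹) n) (k : ez1 ι (g * ι m' * g⁻¹) n') :
    ez1 ι (g * ι (m * m') * g⁻¹) (n * n') := by
  have := ez_mul h k
  rwa [show g * ι m * g⁻¹ * (g * ι m' * g⁻¹) = g * ι (m * m') * g⁻¹ by rw [map_mul]; group] at this

theorem ez_bp (h : ez1 ι (g * ι m * g⁻¹) n) (c : Bool) :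
    ez1 ι (g * ι (bp m c) * g⁻¹) (bp n c) := by
  cases c
  · exact Or.inl (by simp [bp])
  · exact h

theorem ez_conj (hz : g * ι .Z = ι .Z * g) (h : ez1 ι x m) (k : ez1 ι (g * ι m * g⁻¹) n) :
    ez1 ι (g * x * g⁻¹) n := by
  rcases h with rfl | rfl
  · exact k
  · exact ez_congr (ez_cmul k (m' := .Z) (n' := .Z) (Or.inl (by rw [hz]; group)))
      (Or.inr (mzz n).symm)

theorem ez_mem {H : Subgroup G} (hz : ι .Z ∈ H) (h : ez1 ι x m) : x ∈ H ↔ ι m ∈ H := by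
  rcases ez_iff'.1 h with rfl | rfl
  · rfl
  · exact H.mul_mem_cancel_right hz

theorem ez_comm (hz : g * ι .Z = ι .Z * g) (h : ez1 ι x m) (e : g * x * g⁻¹ = x) :
    g * ι m = ι m * g := by
  rcases ez_iff'.1 h with rfl | rfl
  · exact mul_inv_eq_iff_eq_mul.1 e
  · rw [mul_inv_eq_iff_eq_mul, mul_assoc (ι m), ← hz, ← mul_assoc, ← mul_assoc] at e
    exact mul_right_cancel e

variable {e : Bool} {D : D1 G e}

theorem ez_iff : ez1 D.ι (D.ι n) m ↔ Ez n m := by simp only [ez1, D.inj.eq_iff]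

theorem ez_uniq (h : ez1 D.ι x m) (k : ez1 D.ι x n) : Ez n m := by
  rcases k with rfl | rfl
  · exact ez_iff.1 h
  · rcases ez_iff.1 h with e | e
    · exact Or.inr (by rw [← e, mzz])
    · exact Or.inl (mul_right_cancel e)

theorem memF : D.ι m ∈ D.F ↔ m ∈ N.sF := mem_map_iff_mem D.inj

theorem ct_of_ez (hz : g * D.ι .Z = D.ι .Z * g) (h : ez1 D.ι (g * D.ι .T * g⁻¹) m) : D.ct m := by
  rcases h with h | h
  · exact (isConj_iff.2 ⟨g, h⟩).symm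
  · refine (isConj_iff.2 ⟨g * D.ι .B, ?_⟩).symm
    have b1 : D.ι .B * D.ι .T * (D.ι .B)⁻¹ = D.ι .T * D.ι .Z := by
      simp only [← map_mul, ← map_inv, D.inj.eq_iff]; decide +kernel
    calc _ = g * (D.ι .B * D.ι .T * (D.ι .B)⁻¹) * g⁻¹ := by group
      _ = g * D.ι .T * g⁻¹ * (g * D.ι .Z) * g⁻¹ := by rw [b1]; group
      _ = D.ι (m * .Z) * D.ι .Z := by rw [h, hz]; group
      _ = _ := by rw [← map_mul, mzz]

variable (D) in
/-- `f` acts on the five points as `σ` -/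
def Ac (f : G) (σ : Fin 5 → Fin 5) : Prop := ∀ i, ez1 D.ι (f * D.ι (p i) * f⁻¹) (p (σ i))

theorem exists_ac {f : G} (hn : f ∈ normalizer (D.F : Set G)) (hz : f * D.ι .Z = D.ι .Z * f) :
    ∃ σ, Ac D f σ := by
  have : ∀ i, ∃ j, ez1 D.ι (f * D.ι (p i) * f⁻¹) (p j) := fun i => by
    obtain ⟨n, a, b⟩ := (mem_normalizer_iff.1 hn _).1 (memF.2 (p_mem i))
    obtain ⟨j, hj⟩ := p_cov n a (D.inj (by
      rw [map_mul, b, map_one]
      calc _ = f * D.ι (p i * p i) * f⁻¹ := by rw [map_mul]; group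
        _ = 1 := by rw [(p_sq i).1, map_one]; group))
      (fun h => (p_sq i).2.1 (D.inj (by
        rw [h, map_one, eq_comm, mul_inv_eq_one, mul_eq_left] at b; rw [b, map_one])))
      (fun h => (p_sq i).2.2 (D.inj (by
        rw [h, eq_mul_inv_iff_mul_eq, ← hz] at b; exact (mul_left_cancel b).symm)))
    exact ⟨j, b ▸ ez_iff.2 hj⟩
  choose σ hσ using this
  exact ⟨σ, hσ⟩

theorem Ac.mul {f : G} {σ τ : Fin 5 → Fin 5} (hz : f * D.ι .Z = D.ι .Z * f) (h : Ac D f σ)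
    (k : Ac D g τ) : Ac D (f * g) fun i => σ (τ i) := fun i => by
  have := ez_conj hz (k i) (h (τ i))
  rwa [show f * (g * D.ι (p i) * g⁻¹) * f⁻¹ = f * g * D.ι (p i) * (f * g)⁻¹ by group] at this

theorem Ac.uniq {f : G} {σ τ : Fin 5 → Fin 5} (h : Ac D f σ) (k : Ac D f τ) (i : Fin 5) :
    σ i = τ i := p_inj _ _ (ez_uniq (k i) (h i))

theorem Ac.congr {f : G} {σ τ : Fin 5 → Fin 5} (h : Ac D f σ) (k : ∀ i, σ i = τ i) : Ac D f τ :=
  fun i => k i ▸ h i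

theorem Ac.bar {f : G} {σ : Fin 5 → Fin 5} (hz : f * D.ι .Z = D.ι .Z * f) (h : Ac D f σ) :
    D.Bar f (ph σ) := fun m hm =>
  ez_conj hz (ez_iff.2 (ph_id m hm).1) (ez_cmul (ez_cmul (ez_cmul (ez_bp (h 0) _)
    (ez_bp (ez_cmul (h 0) (h 1)) _)) (ez_bp (ez_cmul (ez_cmul (h 0) (h 1)) (h 2)) _))
    (ez_bp (ez_cmul (ez_cmul (h 0) (h 1)) (h 3)) _))

theorem ac_F (h : x ∈ D.F) : Ac D x (iv 0) := fun i => by
  obtain ⟨n, hn, rfl⟩ := h
  rw [← map_inv, ← map_mul, ← map_mul, iv_zero]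
  exact ez_iff.2 (sF_cj _ (p_mem i) n hn)

theorem ac_A (b : Bool) : Ac D (D.ι (.A b)) (iv 10) := fun i => by
  rw [← map_inv, ← map_mul, ← map_mul]
  exact ez_iff.2 (c_act b i)

theorem Ac.same {f : G} {σ : Fin 5 → Fin 5} (hz : g * D.ι .Z = D.ι .Z * g) (h : Ac D f σ)
    (k : Ac D g σ) : Ac D (g⁻¹ * f) (iv 0) := fun i => by
  have hz' : g⁻¹ * D.ι .Z = D.ι .Z * g⁻¹ := (Commute.inv_left hz).eq
  have e : g⁻¹ * f * D.ι (p i) * (g⁻¹ * f)⁻¹ = g⁻¹ * (f * D.ι (p i) * f⁻¹) * g⁻¹⁻¹ := by group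
  rw [e, iv_zero]
  refine ez_conj hz' (h i) (ez_iff'.2 ?_)
  rcases ez_iff'.1 (k i) with a | a
  · exact Or.inl (by rw [← a]; group)
  · refine Or.inr ?_
    have : D.ι (p (σ i)) = g * D.ι (p i) * g⁻¹ * D.ι .Z := by
      rw [a, ← map_mul, ← map_mul, mzz]
    rw [this]
    calc _ = D.ι (p i) * (g⁻¹ * D.ι .Z) * g := by group
      _ = _ := by rw [hz']; group

end Gen

section Main

variable {G : Type*} [Group G] [Finite G] {e : Bool} {D : D1 G e} {C : Cx1 D} {F2 : Subgroup G}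

/-- the facts about the pair that are used -/
structure Pk (C : Cx1 D) (F2 : Subgroup G) : Prop where
  pr : Pr1 C F2
  bid : ∀ g ∈ C.T, D.Bar g id → g ∈ D.F
  nct : ∀ m ∈ N.sF, D.ι m ∈ F2 → ¬ D.ct m

theorem cz (C : Cx1 D) {g : G} (h : g ∈ C.Ts) : g * D.ι .Z = D.ι .Z * g :=
  mem_centralizer_singleton_iff.1 (C.sS.le h).2

namespace Pk
variable (P : Pk C F2)
include P

theorem cz {g : G} (h : g ∈ F2) : g * D.ι .Z = D.ι .Z * g := L3PG.cz C (P.pr.le h)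

theorem z_mem : D.ι .Z ∈ F2 := by
  obtain ⟨g, hg, rfl⟩ := P.pr.cj
  rw [mem_cj, mul_assoc, ← hg, inv_mul_cancel_left, memF]; decide +kernel

theorem sq {x : G} (h : x ∈ F2) : x * x = 1 ∨ x * x = D.ι .Z := by
  obtain ⟨g, hg, rfl⟩ := P.pr.cj
  obtain ⟨m, hm, e⟩ := mem_cj.1 h
  have e' : x * x = g * D.ι (m * m) * g⁻¹ := by rw [map_mul, e]; group
  rcases sF_sq m hm with k | k <;> rw [e', k]
  · left; rw [map_one]; group
  · right; rw [hg]; group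

theorem cj' {x y : G} (hx : x ∈ F2) (hy : y ∈ F2) :
    y * x * y⁻¹ = x ∨ y * x * y⁻¹ = x * D.ι .Z := by
  obtain ⟨g, hg, rfl⟩ := P.pr.cj
  obtain ⟨m, hm, e⟩ := mem_cj.1 hx
  obtain ⟨n, hn, e'⟩ := mem_cj.1 hy
  have e1 : y * x * y⁻¹ = g * D.ι (n * m * n⁻¹) * g⁻¹ := by
    rw [map_mul, map_mul, map_inv, e, e']; group
  rcases sF_cj m hm n hn with k | k <;> rw [e1, k]
  · left; rw [e]; group
  · right
    rw [map_mul, e]
    calc _ = x * (g * D.ι .Z) * g⁻¹ := by group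
      _ = _ := by rw [hg]; group

theorem card : Nat.card F2 = 32 := by
  obtain ⟨g, -, rfl⟩ := P.pr.cj
  rw [card_cj, card_map_of_injective D.inj, card_sF]

theorem nm (m : N) {x : G} (h : x ∈ F2) : D.ι m * x * (D.ι m)⁻¹ ∈ F2 :=
  (mem_normalizer_iff.1 (P.pr.nm ⟨m, rfl⟩) x).1 h

theorem same {x y : G} {σ : Fin 5 → Fin 5} (hx : x ∈ C.Ts) (hy : y ∈ C.Ts) (h : Ac D x σ)
    (k : Ac D y σ) : x * y⁻¹ ∈ D.F := by
  have h1 : y⁻¹ * x ∈ C.Ts := mul_mem (inv_mem hy) hx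
  have h2 : y⁻¹ * x ∈ D.F := P.bid _ (C.l2 h1) fun m hm =>
    ez_congr ((h.same (L3PG.cz C hy) k).bar (L3PG.cz C h1) m hm) (ph_id m hm).1
  have := (mem_normalizer_iff.1 (C.sS.le hy).1 _).1 h2
  rwa [show y * (y⁻¹ * x) * y⁻¹ = x * y⁻¹ by group] at this

theorem of_zero {x : G} (hx : x ∈ C.Ts) (h : Ac D x (iv 0)) : x ∈ D.F := by
  simpa using P.same hx (one_mem _) h (ac_F (one_mem _))

theorem mv {f : G} {σ : Fin 5 → Fin 5} (hf : f ∈ F2) (h : Ac D f σ) (i : Fin 5) :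
    D.ι (p i * p (σ i)) ∈ F2 := by
  have h1 := F2.mul_mem (P.nm (p i) hf) (F2.inv_mem hf)
  have e : (D.ι (p i))⁻¹ = D.ι (p i) :=
    inv_eq_of_mul_eq_one_right (by rw [← map_mul, (p_sq i).1, map_one])
  rw [e, show D.ι (p i) * f * D.ι (p i) * f⁻¹ = D.ι (p i) * (f * D.ι (p i) * f⁻¹) by group] at h1
  exact (ez_mem P.z_mem (ez_mul (Or.inl rfl) (h i))).1 h1

theorem rr {f g : G} {σ τ : Fin 5 → Fin 5} (hf : f ∈ F2) (hg : g ∈ F2) (h : Ac D f σ)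
    (k : Ac D g τ) : R σ τ := fun i =>
  p_pair _ _ _ _ (ez_uniq (ez_iff'.2 (P.cj' (P.mv hf h i) hg)) (ez_cmul (k i) (k (σ i))))

theorem nT : D.ι .T ∉ F2 := fun h => P.nct _ (by decide +kernel) h (IsConj.refl _)

theorem n0 {f g : G} {σ τ : Fin 5 → Fin 5} (hf : f ∈ F2) (hg : g ∈ F2) (h : Ac D f σ)
    (k : Ac D g τ) : N0 σ τ := fun i j ⟨a1, a2, a3, a4, a5, a6, a7, a8, a9, a10⟩ =>
  P.nT ((ez_mem P.z_mem (ez_iff.2 (p_four _ _ _ _ a1 a2 a3 a4 a5 a6 a7 a8 a9 a10))).2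
    (by rw [map_mul]; exact F2.mul_mem (P.mv hf h i) (P.mv hg k j)))

theorem ex {f : G} (hf : f ∈ F2) : ∃ k, Ac D f (iv k) := by
  obtain ⟨σ, h⟩ := exists_ac (C.sS.le (P.pr.le hf)).1 (P.cz hf)
  obtain ⟨k, rfl⟩ := exists_iv (σ := σ) fun i => by
    rcases P.rr hf hf h h i with a | a | a
    · rw [a, a]
    · rw [a.1, a.1]
    · exact a.2
  exact ⟨k, h⟩

theorem scj {f : G} {σ : Fin 5 → Fin 5} (hf : f ∈ F2) (h : Ac D f σ) :
    D.ι .C * f * D.ι .C ∈ F2 ∧ Ac D (D.ι .C * f * D.ι .C) (sc σ) := by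
  have e : (D.ι .C)⁻¹ = D.ι .C := inv_eq_of_mul_eq_one_right (by
    rw [← map_mul, ← map_one D.ι, D.inj.eq_iff]; decide +kernel)
  have a := P.nm .C hf
  rw [e] at a
  refine ⟨a, ?_⟩
  rw [mul_assoc]
  have b := Ac.mul (zg _) (ac_A (D := D) false) (Ac.mul (P.cz hf) h (ac_A false))
  exact b

theorem fix {f : G} {k : Fin 26} (hf : f ∈ F2) (h : Ac D f (iv k)) {m : N} (hm : m ∈ N.sF)
    (h2 : D.ι m ∈ F2) : fx k m = true := by
  rw [fx, Bool.and_eq_true, decide_eq_true_iff]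
  exact ⟨hm, ez_uniq (ez_iff'.2 (P.cj' h2 hf)) (h.bar (P.cz hf) m hm)⟩

theorem caseA' (h : ∀ x ∈ F2, ∀ y ∈ F2, x ∉ D.F → y ∉ D.F → x * y⁻¹ ∈ D.F) : KA D F2 := by
  have c1 := H40.AA.card_le_two h
  let E : Subgroup N := (F2 ⊓ D.F).comap D.ι
  have c2 : Nat.card E = Nat.card (F2 ⊓ D.F : Subgroup G) := by
    rw [← card_map_of_injective D.inj, map_comap_eq_self (inf_le_right.trans (map_le_range _ _))]
  have c3 : 16 ≤ Nat.card E := by rw [P.card] at c1; omega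
  obtain ⟨f, hf, hF⟩ : ∃ f ∈ F2, f ∉ D.F := by
    by_contra! a
    exact P.pr.ne (eq_of_le_of_card_ge a (by rw [P.card, card_map_of_injective D.inj, card_sF]))
  obtain ⟨k, hk⟩ := P.ex hf
  have hE : ∀ m ∈ E, fx k m = true := fun m hm => P.fix hf hk (memF.1 hm.2) hm.1
  obtain ⟨s1, s2⟩ := P.scj hf hk
  have s3 : D.ι .C * f * D.ι .C ∉ D.F := fun a => hF (P.of_zero (P.pr.le hf) (hk.congr fun i => by
    have := s2.uniq (ac_F a) (iv 10 i)
    revert this; generalize iv k = σ; intro this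
    have a1 : ∀ j, iv 10 (iv 10 j) = j := by decide +kernel
    rw [sc, a1, iv_zero] at this
    rw [iv_zero, ← a1 (σ i), this, a1]))
  have s4 := Ac.mul (g := f) (by
    obtain ⟨n, -, e⟩ := h _ s1 _ hf s3 hF
    rw [← e]; exact zg n) (ac_F (h _ s1 _ hf s3 hF)) hk
  rw [inv_mul_cancel_right] at s4
  rcases caseA k (fun a => hF (P.of_zero (P.pr.le hf) (a ▸ hk)))
    (fun i => (s2.uniq s4 i).trans (iv_zero _)) with rfl | rfl | rfl | rfl | rfl | rfl | rfl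
  · refine ⟨fun m hm => ⟨fun a => (fx_one m hm).1 (P.fix hf hk hm a), fun a => ?_⟩, f, hf,
      fun m hm => ez_congr (hk.bar (P.cz hf) m hm) (tv_tk false m hm)⟩
    exact (mem_of_card E _ hE (fx_big.1.trans_le c3) ((fx_one m hm).2 a)).1
  · refine absurd (ct_of_ez (g := D.κ * f) (by
      rw [mul_assoc, P.cz hf, ← mul_assoc, D.κz, mul_assoc]) ?_) (P.nct (p 3) (p_mem 3)
      (mem_of_card E _ hE (fx_big.2.1.trans_le c3) (by decide +kernel)).1)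
    have := ez_conj D.κz (hk 0) (ez_cmul D.κb D.κw)
    rwa [show D.κ * (f * D.ι (p 0) * f⁻¹) * D.κ⁻¹ = D.κ * f * D.ι .T * (D.κ * f)⁻¹ by
      change D.κ * (f * D.ι .T * f⁻¹) * D.κ⁻¹ = _; group] at this
  · exact absurd (mem_of_card E _ hE (fx_big.2.2.1.trans_le c3) (m := .T) (by decide +kernel)).1 P.nT
  · exact absurd (mem_of_card E _ hE (fx_big.2.2.2.trans_le c3) (m := .T) (by decide +kernel)).1 P.nT
  · have := card_le E _ hE; rw [fx_small.1] at this; omega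
  · have := card_le E _ hE; rw [fx_small.2.1] at this; omega
  · have := card_le E _ hE; rw [fx_small.2.2] at this; omega

theorem kind {f g : G} {b : Bool} (hg : g ∈ F2) (hf : f ∈ F2) (ag : Ac D g (iv 10))
    (af : Ac D f (iv (tk b))) : Kind1 D F2 f b := by
  have wF : D.ι .W ∈ F2 := (ez_mem P.z_mem (ez_iff.2 (by decide +kernel))).2 (P.mv hg ag 3)
  have eF : D.ι (.Ep b) ∈ F2 :=
    (ez_mem P.z_mem (ez_iff.2 (by cases b <;> decide +kernel))).2 (P.mv hf af 0)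
  have bF : ∀ (m : N) (c : Bool), D.ι m ∈ F2 → D.ι (bp m c) ∈ F2 := fun m c h => by
    cases c
    · exact (map_one D.ι).symm ▸ F2.one_mem
    · exact h
  have inter : ∀ m ∈ N.sF, D.ι m ∈ F2 ↔ m ∈ N.sE b := fun m hm =>
    ⟨fun a => sE_of b m (P.fix hg ag hm a) (P.fix hf af hm a), fun a => by
      obtain ⟨i, j, l, rfl⟩ := sE_dec b m a
      rw [map_mul, map_mul]
      exact mul_mem (mul_mem (bF _ _ wF) (bF _ _ eF)) (bF _ _ P.z_mem)⟩
  have both : ∀ x ∈ F2, x ∈ D.F → ∃ m ∈ N.sE b, x = D.ι m := fun x hx ⟨m, hm, a⟩ =>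
    ⟨m, (inter m hm).1 (a ▸ hx), a.symm⟩
  have bar : D.Bar f (N.tv (.Ep b)) := fun m hm => ez_congr (af.bar (P.cz hf) m hm) (tv_tk b m hm)
  have v1 : ez1 D.ι ((D.ι .T)⁻¹ * (f * D.ι .T * f⁻¹)) (.Ep b) :=
    ez_congr (ez_mul (m := (N.T)⁻¹) (Or.inl (map_inv _ _).symm) (af 0)) (by cases b <;> decide +kernel)
  have qF : gq b ∈ N.sF := by cases b <;> decide +kernel
  have v2 : ez1 D.ι ((D.ι (gq b))⁻¹ * (g * D.ι (gq b) * g⁻¹)) .W :=
    ez_congr (ez_mul (m := (gq b)⁻¹) (Or.inl (map_inv _ _).symm) (ag.bar (P.cz hg) _ qF))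
      (by cases b <;> decide +kernel)
  have ge : g * D.ι (.Ep b) = D.ι (.Ep b) * g :=
    ez_comm (P.cz hg) v1 (fix_comm (P.cz hf) (zg _) (P.cj' hf hg) (ez_iff'.1 (ag 0)))
  have fw : f * D.ι .W = D.ι .W * f :=
    ez_comm (P.cz hf) v2 (fix_comm (P.cz hg) (zg _) (P.cj' hg hf)
      (ez_iff'.1 (ez_congr (bar _ qF) (by cases b <;> decide +kernel))))
  have fe : f * D.ι (.Ep b) * f⁻¹ = D.ι (.Ep b * .Z) := by
    have a := inv_comm (f := f) (g := D.ι .T) (by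
      rcases P.sq hf with a | a <;> rw [a]
      · simp
      · exact (zg _).symm)
    rcases v1 with v | v <;> rw [v, ← map_inv] at a
    · rw [a]; congr 1; cases b <;> decide +kernel
    · have a2 : f * D.ι (.Ep b) * f⁻¹ = f * D.ι (.Ep b * .Z) * f⁻¹ * (f * D.ι .Z * f⁻¹) := by
        conv_lhs => rw [← mzz (.Ep b), map_mul]
        group
      rw [a2, a, P.cz hf, mul_inv_cancel_right, ← map_mul]; congr 1; cases b <;> decide +kernel
  have ap : D.ι (.A b) ∈ F2 := by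
    obtain ⟨u, hu, a⟩ := P.same (P.pr.le hg) (C.l1 ⟨.C, rfl⟩) ag (ac_A false)
    have a' : g = D.ι (u * .C) := by rw [map_mul, a, inv_mul_cancel_right]
    have a1 := a_of b u hu (by
      simpa only [a', ← map_mul, ← map_one D.ι, D.inj.eq_iff] using P.sq hg) (by
      simpa only [a', ← map_mul, D.inj.eq_iff] using ge)
    have sub : ∀ m : N, m ∈ N.sE b → m ∈ N.sF := by cases b <;> decide +kernel
    have a2 := (inter _ (sub _ a1)).2 a1
    rw [map_mul, ← a', map_inv] at a2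
    exact inv_mem_iff.1 ((F2.mul_mem_cancel_left hg).1 a2)
  refine ⟨hf, inter, ap, fun x hx => ?_, bar, fw, fe⟩
  obtain ⟨j, hj⟩ := P.ex hx
  rcases caseC b j (P.rr hg hx ag hj) (P.rr hf hx af hj) with rfl | rfl | rfl | a
  · obtain ⟨m, hm, a⟩ := both x hx (P.of_zero (P.pr.le hx) hj)
    exact ⟨m, hm, Or.inl a⟩
  · obtain ⟨m, hm, a⟩ := both _ (mul_mem hx (inv_mem ap))
      (P.same (P.pr.le hx) (P.pr.le ap) hj (ac_A b))
    exact ⟨m, hm, Or.inr (Or.inl (by rw [map_mul, ← a, inv_mul_cancel_right]))⟩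
  · obtain ⟨m, hm, a⟩ := both _ (mul_mem hx (inv_mem hf)) (P.same (P.pr.le hx) (P.pr.le hf) hj af)
    exact ⟨m, hm, Or.inr (Or.inr (Or.inl (by rw [← a, inv_mul_cancel_right])))⟩
  · obtain ⟨m, hm, a⟩ := both _ (mul_mem hx (inv_mem (mul_mem ap hf)))
      (P.same (P.pr.le hx) (P.pr.le (mul_mem ap hf)) (hj.congr a) (Ac.mul (zg _) (ac_A b) af))
    exact ⟨m, hm, Or.inr (Or.inr (Or.inr (by rw [map_mul, ← a]; group)))⟩

theorem main : KA D F2 ∨ ∃ f k, Kind1 D F2 f k := by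
  by_cases h : ∀ x ∈ F2, ∀ y ∈ F2, x ∉ D.F → y ∉ D.F → x * y⁻¹ ∈ D.F
  · exact Or.inl (P.caseA' h)
  push Not at h
  obtain ⟨x, hx, y, hy, h1, h2, h3⟩ := h
  obtain ⟨k, hk⟩ := P.ex hx
  obtain ⟨l, hl⟩ := P.ex hy
  obtain ⟨s1, s2⟩ := P.scj hx hk
  obtain ⟨s3, s4⟩ := P.scj hy hl
  obtain ⟨b, a1, a2⟩ := caseB k l (fun a => h1 (P.of_zero (P.pr.le hx) (a ▸ hk)))
    (fun a => h2 (P.of_zero (P.pr.le hy) (a ▸ hl)))
    (fun a => h3 (P.same (P.pr.le hx) (P.pr.le hy) hk (a ▸ hl)))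
    (P.rr hx hy hk hl) (P.rr hy hx hl hk) (P.rr hx s1 hk s2) (P.rr hy s1 hl s2)
    (P.rr hx s3 hk s4) (P.rr hy s3 hl s4) (P.n0 hx hx hk hk) (P.n0 hx hy hk hl) (P.n0 hy hy hl hl)
  have key : ∀ j, (k = j ∨ l = j ∨ ∀ i, iv k (iv l i) = iv j i) → ∃ g ∈ F2, Ac D g (iv j) := by
    rintro j (rfl | rfl | a)
    exacts [⟨x, hx, hk⟩, ⟨y, hy, hl⟩, ⟨_, mul_mem hx hy, (Ac.mul (P.cz hx) hk hl).congr a⟩]
  obtain ⟨g, hg, ag⟩ := key _ a1
  obtain ⟨f, hf, af⟩ := key _ a2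
  exact Or.inr ⟨f, b, P.kind hg hf ag af⟩

end Pk

end Main

universe u

theorem pg1 : PG1S.{u} := by
  intro G _ _ e D C F2 h
  refine Pk.main ⟨h, fun g hg => C.bar_id hg, fun m hm a => ?_⟩
  obtain ⟨g, hg, rfl⟩ := h.cj
  exact C.not_ct hg (h.le.trans C.l2) h.ne hm a

end Cfsg.Agent.H65.L3PG
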