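import Cfsg.Agent.H95.ParBase
import Cfsg.Agent.H49.M24Cls

/-! Elements of order three of the Conway group fixing a frame class. -/

set_option autoImplicit false
set_option maxHeartbeats 400000

namespace Cfsg.Agent.H65.ParT3

open Cfsg Subgroup Cfsg.Agent.H48 Cfsg.Agent.H48.Rec Cfsg.Agent.H49
open Cfsg.Agent.H74.Ms (VV mkV nV)
open Cfsg.Agent.H95.Par

theorem fix_conj (k : Co0) {g : Co0} {v : Lam} (h : Fix g v) : Fix (k * g * k⁻¹) (k • v) := by
  unfold H49.Fix
  rw [mul_smul, inv_smul_smul, mul_smul]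
  exact cong.smul h k

/-- the number of fixed classes, for a conjugate of an element with listed fixed classes -/
theorem card_ker {x g : Co0} {n FT PT : ℕ} {reps : List (List ℤ)} (h : FS x n FT PT reps)
    (c : IsConj x g) : Nat.card (nV g).ker = 2 ^ n := by
  obtain ⟨k, rfl⟩ := isConj_iff.1 c
  rw [← Nat.card_fin (2 ^ n)]
  refine (Nat.card_eq_of_bijective (fun a : Fin (2 ^ n) =>
    (⟨mkV (k • rep reps a), H74.Ms.mem_ker.2 (fix_conj k (h.fix_rep a.2))⟩ :
      (nV (k * x * k⁻¹)).ker)) ⟨fun a b e => Fin.ext ?_, fun y => ?_⟩).symm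
  · exact h.rep_inj a.2 b.2 ((cong_smul_iff k).1 (H74.Ms.mk_eq.1 (congrArg Subtype.val e)))
  · obtain ⟨y, hy⟩ := y
    obtain ⟨v, rfl⟩ := H74.Ms.mk_surj y
    have h1 : Fix x (k⁻¹ • v) := by
      have := fix_conj k⁻¹ (H74.Ms.mem_ker.1 hy)
      rwa [show k⁻¹ * (k * x * k⁻¹) * k⁻¹⁻¹ = x by group] at this
    refine ⟨⟨code n PT (kap (k⁻¹ • v)), code_lt _ _ _⟩, Subtype.ext (H74.Ms.mk_eq.2 ?_)⟩
    have := (h.cong_rep h1).smul k
    rwa [smul_inv_smul] at this

theorem tr8_fA : tr8 fAx = 48 := by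
  have : tr8 fAx = ∑ i, row fAX i i := Finset.sum_congr rfl fun i _ => by rw [fAX_ok.col]
  rw [this]
  decide +kernel

theorem tr8_isConj {x g : Co0} (c : IsConj x g) : tr8 g = tr8 x := by
  obtain ⟨k, rfl⟩ := isConj_iff.1 c
  exact tr8_conj k x

/-- an element of order three fixing a frame class is conjugate to one of two permutations -/
theorem conj3 {g : Co0} {v : Lam} (hg : orderOf g = 3) (hv : sqNorm v.1 = 64) (h : Fix g v) :
    IsConj fAx g ∨ IsConj f3x g := by
  have : Fact (Nat.Prime 3) := ⟨by norm_num⟩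
  obtain ⟨k, hk⟩ := trans64 hv (sqNorm_e8 none)
  have h1 : Fix (k * g * k⁻¹) (e8 none) := hk ▸ fix_conj k h
  have h2 : k * g * k⁻¹ ∈ Mono := mem_mono_of_cong h1
  have h3 : orderOf (k * g * k⁻¹) = 3 := ((MulAut.conj k).orderOf_eq g).trans hg
  obtain ⟨τ, hτ, n, -, e⟩ := exists_perm_of_mono (by decide) h2 h3
  have c1 : IsConj (permEl τ) g :=
    (isConj_iff.2 ⟨n * k, by rw [← e]; group⟩ : IsConj g (permEl τ)).symm
  obtain ⟨i, hi, -, c⟩ := m24_class_of_order hτ [3, 4] (by decide +kernel)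
  have c2 : IsConj (permEl (H42.toM (H43.nthN m24reps i))) g := by
    have := permHom.map_isConj c
    rw [permHom_apply, permHom_apply] at this
    exact this.trans c1
  simp only [List.mem_cons, List.not_mem_nil, or_false] at hi
  rcases hi with rfl | rfl
  exacts [.inl c2, .inr c2]

theorem t3 : T3Stmt := fun _ _ hg hv h =>
  (conj3 hg hv h).imp (fun c => ⟨(tr8_isConj c).trans tr8_fA, card_ker fA_fs c⟩)
    fun c => ⟨c, card_ker f3_fs c⟩

end Cfsg.Agent.H65.ParT3
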