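import Cfsg.Agent.H46.SSz

/-!
# The component and the four-group in the centraliser of a non-central involution of `Suz`
-/

set_option autoImplicit false
set_option maxRecDepth 200000
set_option maxHeartbeats 400000
open Subgroup
open scoped commutatorElement

namespace Cfsg.Agent.H65.SzRD
open Cfsg.Agent.H43 Cfsg.Agent.H44 Cfsg.Agent.H59 Cfsg.Agent.H59.Sz Cfsg.Agent.H46.S95

section general
variable {G : Type*} [Group G]

/-- a normal subgroup of index 8 missing a central element contains the second derived group -/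
theorem der2_le [Finite G] {L : Subgroup G} [L.Normal] (h : L.index = 8) {e : G}
    (he : ∀ x, x * e = e * x) (e2 : e * e = 1) (hL : e ∉ L) :
    ⁅⁅(⊤ : Subgroup G), (⊤ : Subgroup G)⁆, ⁅(⊤ : Subgroup G), (⊤ : Subgroup G)⁆⁆ ≤ L := by
  have : Fact (Nat.Prime 2) := ⟨Nat.prime_two⟩
  let π := QuotientGroup.mk' L
  have hs : Function.Surjective π := QuotientGroup.mk'_surjective L
  have c : ∀ y, y * π e = π e * y := fun y => by
    obtain ⟨x, rfl⟩ := hs y
    rw [← map_mul, ← map_mul, he]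
  have o : orderOf (π e) = 2 :=
    orderOf_eq_prime (by rw [pow_two, ← map_mul, e2, map_one])
      fun k => hL ((QuotientGroup.eq_one_iff e).1 k)
  have zc : zpowers (π e) ≤ center _ := zpowers_le.2 (mem_center_iff.2 c)
  have : (zpowers (π e)).Normal := ⟨fun n hn g => by
    rwa [mem_center_iff.1 (zc hn) g, mul_inv_cancel_right]⟩
  have h4 : Nat.card ((G ⧸ L) ⧸ zpowers (π e)) = 2 ^ 2 := by
    have := card_eq_card_quotient_mul_card_subgroup (zpowers (π e))
    rw [Nat.card_zpowers, o, ← index_eq_card, h] at this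
    omega
  have cm := (IsPGroup.isMulCommutative_of_card_eq_prime_sq h4).is_comm.comm
  have d : ⁅(⊤ : Subgroup G), (⊤ : Subgroup G)⁆ ≤ (center (G ⧸ L)).comap π :=
    commutator_le.2 fun x _ y _ => zc (by
      refine (QuotientGroup.eq_one_iff _).1 ?_
      rw [← QuotientGroup.mk'_apply, map_commutatorElement, map_commutatorElement,
        commutatorElement_eq_one_iff_mul_comm]
      exact cm _ _)
  refine commutator_le.2 fun x hx y _ => (QuotientGroup.eq_one_iff _).1 ?_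
  rw [← QuotientGroup.mk'_apply, map_commutatorElement, commutatorElement_eq_one_iff_mul_comm]
  exact (mem_center_iff.1 (d hx) _).symm

/-- an involution without fixed points on `M` inverts it -/
theorem inverts [Finite G] {M : Subgroup G} {v : G} (hv : v ∈ normalizer (M : Set G))
    (v2 : v * v = 1) (h : ∀ m ∈ M, m * v = v * m → m = 1) : ∀ m ∈ M, v * m * v⁻¹ = m⁻¹ := by
  intro m hm
  have := MonoidHom.FixedPointFree.coe_eq_inv_of_involutive (φ := M.normalizerMonoidHom ⟨v, hv⟩)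
    (fun x hx => Subtype.ext (h x x.2 (by
      have : v * x * v⁻¹ = x := congrArg Subtype.val hx
      rw [mul_inv_eq_iff_eq_mul] at this
      exact this.symm)))
    (fun x => Subtype.ext (show v * (v * x * v⁻¹) * v⁻¹ = x by
      rw [show v * (v * x * v⁻¹) * v⁻¹ = v * v * x * (v * v)⁻¹ by group, v2]; simp))
  exact congrArg Subtype.val (congrFun this ⟨m, hm⟩)

theorem exists_invol {m : G} {n : ℕ} (h : m ^ 2 ^ n = 1) (m1 : m ≠ 1) :
    ∃ y ∈ zpowers m, y * y = 1 ∧ y ≠ 1 := by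
  induction n generalizing m with
  | zero => exact absurd (by simpa using h) m1
  | succ n ih =>
    by_cases e : m * m = 1
    · exact ⟨m, mem_zpowers m, e, m1⟩
    · obtain ⟨y, hy, k⟩ := ih (m := m * m) (by rw [← pow_two, ← pow_mul, ← pow_succ', h]) e
      exact ⟨y, zpowers_le.2 (mul_mem (mem_zpowers m) (mem_zpowers m)) hy, k⟩

end general

/-- equations between the letters -/
def LL : List (List ℕ × List ℕ) :=
  [([1, 5], [5, 1]), ([2, 5], [5, 2]), ([3, 5], [5, 3]), ([6, 5], [5, 6]), ([7, 5], [5, 7]),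
   ([1, 8], [8, 1]), ([2, 8], [8, 2]), ([3, 8], [8, 3]), ([6, 8], [8, 6]), ([7, 8], [8, 7]),
   ([1, 26], [26, 1]), ([2, 26], [26, 2]), ([3, 26], [26, 3]), ([6, 26], [26, 6]),
   ([7, 26], [26, 7]), ([26, 5], [5, 26]),
   ([1, 1], []), ([2, 2], []), ([3, 3], []), ([6, 6], []), ([7, 7], []), ([5, 5], []),
   ([26, 26], []), ([1, 3], [3, 1]), ([6, 7], [1, 7, 6]),
   ([1, 2, 1, 2, 1], [2, 1, 2, 1, 2]), ([2, 3, 1, 2, 1, 2, 1], [3, 2, 3, 1, 2, 1, 2]),
   ([2, 6, 1, 2, 1, 2, 1], [6, 2, 6, 1, 2, 1, 2]), ([2, 7, 1, 2, 1, 2, 1], [7, 2, 7, 1, 2, 1, 2]),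
   ([30, 26], [5, 26, 30]), ([31, 26], [26, 31]), ([32, 26], [26, 32]), ([33, 26], [26, 33]),
   ([34, 26], [26, 34]), ([35, 26], [26, 35]), ([36, 26], [26, 36]), ([37, 26], [26, 37]),
   ([30, 5], [5, 30])]

theorem eqL : Eqs β LL := okX.eqs (by decide +kernel)

/-- the generators of the component -/
def SW : List (List ℕ) := [[1], [2], [3], [6], [7]]

/-- the component, by generators -/
noncomputable abbrev W : Subgroup H46.S95.Sz.Γ := wgen β SW

theorem W_le {K : Subgroup H46.S95.Sz.Γ} (h : ∀ i ∈ [1, 2, 3, 6, 7], β i ∈ K) : W ≤ K := by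
  refine wgen_le.2 ?_
  simp only [SW, List.forall_mem_cons, ev_single] at h ⊢
  exact ⟨h.1, h.2.1, h.2.2.1, h.2.2.2.1, h.2.2.2.2.1, by simp⟩

theorem mem_W (i : ℕ) (h : [i] ∈ SW := by decide) : β i ∈ W := ev_single β i ▸ mem_wgen β [i] h

theorem W_cz (j : ℕ) (h : [1, 2, 3, 6, 7].all (fun i => LL.contains ([i, j], [j, i])) = true := by
    decide +kernel) : W ≤ Cz (β j) :=
  W_le fun i hi => mem_Cz.2 (eqL.two i j j i (List.all_eq_true.1 h i hi))

theorem L_map : L.map (Subgroup.subtype _) = Cz (β 8) ⊓ Cz (β 5) := subgroupOf_map_subtype _ _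

theorem W_eq : W = Cz (β 8) ⊓ Cz (β 5) := by
  refine eq_of_le_of_card_ge (le_inf (W_cz 8) (W_cz 5)) ?_
  rw [← L_map, card_map_of_injective (subtype_injective _), card_L, okX.card_wgen]
  exact SzN.cl_ge.trans (card_le_of_le (grp_le_wgen' [1, 2, 3, 6, 7] rfl (by decide +kernel)))

theorem card_W : Nat.card W = 20160 := by
  rw [W_eq, ← L_map, card_map_of_injective (subtype_injective _), card_L]

theorem sq (i : ℕ) (h : LL.contains ([i, i], []) = true := by decide +kernel) : β i * β i = 1 :=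
  eqL.one i i h

theorem W_perf : ⁅W, W⁆ = W := by
  refine le_antisymm (commutator_le.2 fun x hx y hy =>
    mul_mem (mul_mem (mul_mem hx hy) (inv_mem hx)) (inv_mem hy)) (W_le ?_)
  have h1 : β 1 = ⁅β 6, β 7⁆ := by
    have := eqL.get [6, 7] [1, 7, 6] (by decide +kernel)
    simp only [ev_cons, ev_nil, mul_one] at this
    rw [commutatorElement_def, this]; group
  have k : ∀ (w : List ℕ) (i : ℕ), w.all (fun x => SW.contains [x]) = true →
      LL.contains (w ++ [1], i :: w) = true → β i ∈ ⁅W, W⁆ := fun w i hw e => by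
    have h2 := eqL.get _ _ e
    have h3 := ev_mem_wgen β hw
    rw [ev_append, ev_single, ev_cons] at h2
    rw [← mul_inv_eq_of_eq_mul h2, h1, conjugate_commutatorElement]
    exact commutator_mem_commutator (mul_mem (mul_mem h3 (mem_W 6)) (inv_mem h3))
      (mul_mem (mul_mem h3 (mem_W 7)) (inv_mem h3))
  simp only [List.forall_mem_cons]
  exact ⟨h1 ▸ commutator_mem_commutator (mem_W 6) (mem_W 7),
    k [1, 2, 1, 2] 2 (by decide) (by decide +kernel),
    k [2, 3, 1, 2, 1, 2] 3 (by decide) (by decide +kernel),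
    k [2, 6, 1, 2, 1, 2] 6 (by decide) (by decide +kernel),
    k [2, 7, 1, 2, 1, 2] 7 (by decide) (by decide +kernel), by simp⟩

theorem Λ_eq : Sz.Λ = W := by
  refine le_antisymm ?_ ?_
  · have hi : L.index = 8 := by
      have := L.card_mul_index
      rw [card_L, cent_e] at this
      omega
    have h := map_mono (f := Subgroup.subtype _) (der2_le hi (e := ⟨β 5, mem_Cz.2 rfl⟩)
      (fun x => Subtype.ext (mem_Cz.1 x.2)) (Subtype.ext (sq 5)) fun k =>
        neX [5, 8] [8, 5] (by decide +kernel)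
          (by simp only [ev_cons, ev_nil, mul_one]; exact mem_Cz.1 k))
    rwa [L_map, ← W_eq, map_commutator, map_commutator, ← MonoidHom.range_eq_map,
      range_subtype] at h
  · have h1 : W ≤ ⁅Cz (β 5), Cz (β 5)⁆ := W_perf ▸ commutator_mono (W_cz 5) (W_cz 5)
    exact W_perf ▸ commutator_mono h1 h1

/-- the involutions of the component are roots, with centraliser a `2`-group in `C(β 5)` -/
theorem root {y : H46.S95.Sz.Γ} (hy : y ∈ W) (y2 : y * y = 1) (y1 : y ≠ 1) :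
    IsConj (β 1) y ∧ ∀ m ∈ Cz (β 5), m * y = y * m → m ^ 2 ^ 9 = 1 := by
  have : Fact (Nat.Prime 2) := ⟨Nat.prime_two⟩
  rw [W_eq] at hy
  have h1 := (Subgroup.subtype _).map_isConj (inv_L ⟨y, hy.2⟩ hy.1 (orderOf_eq_prime
    (Subtype.ext ((pow_two y).trans y2)) fun e => y1 (congrArg Subtype.val e)))
  refine ⟨h1, fun m hm e => ?_⟩
  have h2 := (fus_ce ⟨y, hy.2⟩ h1).2
  have := pow_card_eq_one' (G := centralizer {(⟨y, hy.2⟩ : Cz (β 5))})
    (x := ⟨⟨m, hm⟩, mem_centralizer_singleton_iff.2 (Subtype.ext e)⟩)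
  rw [h2] at this
  exact congrArg (fun x => (x.1.1 : H46.S95.Sz.Γ)) this

theorem not_conj : ¬ IsConj (β 1) (β 5) := fun h => by
  refine (by decide +kernel : DX.fixW 11 [1] ≠ DX.fixW 11 [5])
    (okX.fixW_eq (by decide) ((Subgroup.subtype _).map_isConj ?_))
  rwa [ev_single, ev_single]

/-- a non-trivial normal subgroup of the component contains an involution -/
theorem invol_of_normal {M : Subgroup H46.S95.Sz.Γ} (h1 : M ≤ W) (h2 : W ≤ normalizer (M : Set H46.S95.Sz.Γ))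
    (h : M ≠ ⊥) : ∃ y ∈ M, y * y = 1 ∧ y ≠ 1 := by
  by_contra hn
  have f : ∀ v ∈ W, v * v = 1 → v ≠ 1 → ∀ m ∈ M, m * v = v * m → m = 1 :=
    fun v hv v2 v1 m hm e => by
      by_contra m1
      obtain ⟨y, hy, k⟩ := exists_invol ((root hv v2 v1).2 m (W_cz 5 (by decide +kernel) (h1 hm)) e) m1
      exact hn ⟨y, zpowers_le.2 hm hy, k⟩
  have n1 : β 1 ≠ 1 := by simpa [ev] using neX [1] []
  have n3 : β 3 ≠ 1 := by simpa [ev] using neX [3] []
  have n13 : β 1 * β 3 ≠ 1 := by simpa [ev] using neX [1, 3] []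
  have c : β 1 * β 3 = β 3 * β 1 := eqL.two 1 3 3 1
  refine h (eq_bot_iff.2 fun m hm => f _ (mul_mem (mem_W 1) (mem_W 3)) ?_ n13 m hm ?_)
  · rw [mul_assoc, ← mul_assoc (β 3), ← c, mul_assoc, sq 3, mul_one, sq 1]
  · have a := inverts (h2 (mem_W 1)) (sq 1) (f _ (mem_W 1) (sq 1) n1) _ (inv_mem hm)
    have b := inverts (h2 (mem_W 3)) (sq 3) (f _ (mem_W 3) (sq 3) n3) _ hm
    rw [eq_comm, ← mul_inv_eq_iff_eq_mul]
    calc _ = β 1 * (β 3 * m * (β 3)⁻¹) * (β 1)⁻¹ := by group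
      _ = m := by rw [b, a, inv_inv]

theorem C_le : Cz (β 5) ≤ wgen β [[30], [31], [32], [33], [34], [35], [36], [37]] := fun c hc =>
  okX.mem_wgen (grp_le_wgen' [30, 31, 32, 33, 34, 35, 36, 37] rfl (by decide +kernel)
    (ιe_range ▸ ⟨⟨c, hc⟩, rfl⟩ : ιe ⟨c, hc⟩ ∈ grp 1782 SzT.st_c2_K))

theorem mem_Z_of {u : H46.S95.Sz.Γ} (h : W ≤ Cz u) (h5 : u ∈ Cz (β 5)) : u ∈ Sz.Z :=
  ⟨fun _ hx => mem_Cz.1 (h (Λ_eq ▸ hx)), h5⟩

theorem e_mem : β 5 ∈ Sz.Z := mem_Z_of (W_cz 5) (mem_Cz.2 rfl)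

theorem f_mem : β 26 ∈ Sz.Z := mem_Z_of (W_cz 26) (mem_Cz.2 (eqL.two 26 5 5 26))

theorem br30 : β 30 * β 26 * (β 30)⁻¹ = β 5 * β 26 := by
  have := eqL.get [30, 26] [5, 26, 30] (by decide +kernel)
  simp only [ev_cons, ev_nil, mul_one] at this
  rw [this]; group

/-- the conjugates of `β 26` under the centraliser of `β 5` -/
theorem conj26 {c : H46.S95.Sz.Γ} (hc : c ∈ Cz (β 5)) :
    c * β 26 * c⁻¹ = β 26 ∨ c * β 26 * c⁻¹ = β 5 * β 26 := by
  have k : ∀ s ∈ [[30], [31], [32], [33], [34], [35], [36], [37]],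
      ev β s * β 5 = β 5 * ev β s ∧
        (ev β s * β 26 * (ev β s)⁻¹ = β 26 ∨ ev β s * β 26 * (ev β s)⁻¹ = β 5 * β 26) := by
    simp only [List.forall_mem_cons, ev_single]
    exact ⟨⟨eqL.two 30 5 5 30, .inr br30⟩,
      ⟨(eqX.two 5 31 31 5).symm, .inl (mul_inv_eq_of_eq_mul (eqL.two 31 26 26 31))⟩,
      ⟨(eqX.two 5 32 32 5).symm, .inl (mul_inv_eq_of_eq_mul (eqL.two 32 26 26 32))⟩,
      ⟨(eqX.two 5 33 33 5).symm, .inl (mul_inv_eq_of_eq_mul (eqL.two 33 26 26 33))⟩,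
      ⟨(eqX.two 5 34 34 5).symm, .inl (mul_inv_eq_of_eq_mul (eqL.two 34 26 26 34))⟩,
      ⟨(eqX.two 5 35 35 5).symm, .inl (mul_inv_eq_of_eq_mul (eqL.two 35 26 26 35))⟩,
      ⟨(eqX.two 5 36 36 5).symm, .inl (mul_inv_eq_of_eq_mul (eqL.two 36 26 26 36))⟩,
      ⟨(eqX.two 5 37 37 5).symm, .inl (mul_inv_eq_of_eq_mul (eqL.two 37 26 26 37))⟩, by simp⟩
  refine Ki.cl_induct (P := fun c => c * β 26 * c⁻¹ = β 26 ∨ c * β 26 * c⁻¹ = β 5 * β 26)
    (.inl (by simp)) ?_ c (C_le hc)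
  rintro _ ⟨s, hs, rfl⟩ y hy
  obtain ⟨k1, k2⟩ := k s hs
  have e : ev β s * y * β 26 * (ev β s * y)⁻¹ = ev β s * (y * β 26 * y⁻¹) * (ev β s)⁻¹ := by group
  rw [e]
  rcases hy with hy | hy
  · rwa [hy]
  · rw [hy, ← mul_assoc, k1, mul_assoc (β 5), mul_assoc (β 5)]
    rcases k2 with k2 | k2
    · exact .inr (by rw [k2])
    · exact .inl (by rw [k2, ← mul_assoc, sq 5, one_mul])

theorem mem_Z {u : H46.S95.Sz.Γ} : u ∈ Sz.Z ↔ u = 1 ∨ u = β 5 ∨ u = β 26 ∨ u = β 5 * β 26 := by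
  refine ⟨fun hu => ?_, ?_⟩
  · obtain ⟨i, h1, h2, ⟨x, hx⟩, -, h4⟩ := table_range SzN.et ιe_inj ιe_range ⟨u, hu.2⟩
    have h5 : L ≤ centralizer {(⟨u, hu.2⟩ : Cz (β 5))} := fun l hl =>
      mem_centralizer_singleton_iff.2 (Subtype.ext (hu.1 l (Λ_eq ▸ W_eq ▸ ⟨hl, l.2⟩)))
    have h6 := card_le_of_le h5
    rw [card_L, h4] at h6
    have k : ∀ i < SzN.et_xs.length, 20160 ≤ nthN SzN.et_cs i → i = 0 ∨ i = 1 ∨ i = 2 := by
      decide +kernel
    rcases k i h1 h6 with rfl | rfl | rfl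
    · exact .inl (congrArg Subtype.val (isConj_one_right.1 (h2 1 (map_one _)))).symm.symm
    · obtain ⟨c, e⟩ := isConj_iff.1 (h2 ⟨β 5, mem_Cz.2 rfl⟩ (val 5))
      refine .inr (.inl ?_)
      have : (c : H46.S95.Sz.Γ) * β 5 * (c : H46.S95.Sz.Γ)⁻¹ = u := congrArg Subtype.val e
      rw [← this, mem_Cz.1 c.2, mul_inv_cancel_right]
    · obtain ⟨c, e⟩ := isConj_iff.1 (h2 ⟨β 26, f_mem.2⟩ (val 26))
      have : (c : H46.S95.Sz.Γ) * β 26 * (c : H46.S95.Sz.Γ)⁻¹ = u := congrArg Subtype.val e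
      exact .inr (.inr (this ▸ conj26 c.2))
  · rintro (rfl | rfl | rfl | rfl)
    exacts [one_mem _, e_mem, f_mem, mul_mem e_mem f_mem]

theorem card_Z : Nat.card Sz.Z = 4 := by
  classical
  have e : (Sz.Z : Set H46.S95.Sz.Γ) = ({1, β 5, β 26, β 5 * β 26} : Finset H46.S95.Sz.Γ) := by
    ext u; simp [mem_Z]
  have a1 : 1 ≠ β 5 := by simpa [ev] using neX [] [5]
  have a2 : 1 ≠ β 26 := by simpa [ev] using neX [] [26]
  have a3 : 1 ≠ β 5 * β 26 := by simpa [ev] using neX [] [5, 26]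
  have a4 : β 5 ≠ β 26 := by simpa [ev] using neX [5] [26]
  have a5 : β 5 ≠ β 5 * β 26 := by simpa using a2.symm
  have a6 : β 26 ≠ β 5 * β 26 := by simpa using a1.symm
  change Nat.card (Sz.Z : Set H46.S95.Sz.Γ) = 4
  rw [e, Nat.card_coe_set_eq, Set.ncard_coe_finset, Finset.card_insert_of_notMem (by simp [*]),
    Finset.card_insert_of_notMem (by simp [*]), Finset.card_pair a6]

end Cfsg.Agent.H65.SzRD
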