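import Cfsg.Agent.H65.SzLam

/-!
# The data of the reduction in the sporadic Suzuki group
-/

set_option autoImplicit false
set_option maxRecDepth 200000
set_option maxHeartbeats 400000
open Subgroup
open scoped commutatorElement

namespace Cfsg.Agent.H65.SzRD
open Cfsg.Agent.H43 Cfsg.Agent.H44 Cfsg.Agent.H59 Cfsg.Agent.H59.Sz Cfsg.Agent.H46.S95

theorem map_Cz {G : Type} [Group G] (α : MulAut G) {a : G} (h : α a = a) :
    (Cz a).map α.toMonoidHom ≤ Cz a := by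
  rintro _ ⟨x, hx, rfl⟩
  refine mem_Cz.2 ?_
  have := congrArg α (mem_Cz.1 hx)
  rwa [map_mul, map_mul, h] at this

/-- automorphisms fixing `β 5` leave the component invariant -/
theorem Λ_inv (α : MulAut H46.S95.Sz.Γ) (h : α (β 5) = β 5) : ∀ x ∈ Sz.Λ, α x ∈ Sz.Λ := by
  have h1 : (⁅Cz (β 5), Cz (β 5)⁆ : Subgroup H46.S95.Sz.Γ).map α.toMonoidHom ≤
      ⁅Cz (β 5), Cz (β 5)⁆ := by
    rw [map_commutator]; exact commutator_mono (map_Cz α h) (map_Cz α h)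
  have h2 : Sz.Λ.map α.toMonoidHom ≤ Sz.Λ := by
    rw [Sz.Λ, map_commutator]; exact commutator_mono h1 h1
  exact fun x hx => h2 ⟨x, hx, rfl⟩

/-- the reduction data, given that an automorphism trivial on the component is inner -/
theorem rds_of (hi : ∀ α : MulAut H46.S95.Sz.Γ, α (β 5) = β 5 → (∀ x ∈ Sz.Λ, α x = x) →
      H46.S95.Inn α)
    (rz : Sz.RZS) : Sz.RDS := by
  have : Fact (Nat.Prime 2) := ⟨Nat.prime_two⟩
  refine ⟨sq 1, fun a a2 a1 => cls2 a (orderOf_eq_prime ((pow_two a).trans a2) a1),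
    ⟨Λ_eq ▸ W_perf, ?_, e_mem, inf_le_left, Λ_inv, fun α h1 h2 => ?_, fun M h1 h2 => ?_⟩, card_Z,
    ⟨β 26, f_mem, β 30, eqL.two 30 5 5 30, by rw [br30, mul_inv_cancel_right]⟩, .inr rz⟩
  · rw [Λ_eq]
    refine W_le ?_
    simp only [List.forall_mem_cons]
    exact ⟨subset_closure ⟨mem_W 1, sq 1⟩, subset_closure ⟨mem_W 2, sq 2⟩,
      subset_closure ⟨mem_W 3, sq 3⟩, subset_closure ⟨mem_W 6, sq 6⟩,
      subset_closure ⟨mem_W 7, sq 7⟩, by simp⟩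
  · obtain ⟨c, rfl⟩ := hi α h1 h2
    exact ⟨c, ⟨fun x hx => (mul_inv_eq_iff_eq_mul.1 (h2 x hx)).symm,
      mem_Cz.2 (mul_inv_eq_iff_eq_mul.1 h1)⟩, rfl⟩
  · rw [Λ_eq] at h1 h2
    by_cases e : M = ⊥
    · exact .inl (e ▸ bot_le)
    · obtain ⟨y, hy, y2, y1⟩ := invol_of_normal h1 h2 e
      exact .inr ⟨y, hy, y2, y1, .inr ⟨(root (h1 hy) y2 y1).1, not_conj⟩⟩

theorem rds (tc : Sz.TCS) (rz : Sz.RZS) : Sz.RDS := by
  obtain ⟨ρ, h⟩ := tc
  obtain ⟨V, hV, e, c⟩ := h.ex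
  obtain ⟨S, hS⟩ := h.all V hV e c
  exact rds_of (fun α _ h2 =>
    let ⟨_, _, _, k⟩ := hS.cen α fun v hv => h2 v (hV hv); ⟨_, k⟩) rz

end Cfsg.Agent.H65.SzRD
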